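import Groth.Agent.DerivedCoh.BaseChange.Sections
import Groth.Agent.Misc4.QCohTildeD
import Groth.Agent.Misc4.QCohDPerf
import Groth.Agent.PropsBasic2.TildeExact
import Groth.Agent.DerivedCoh.KFlat.StalkCriterion

/-!
Sections and stalks of nice complexes on affine opens.
-/

universe u

open CategoryTheory CategoryTheory.Limits AlgebraicGeometry HomologicalComplex TopologicalSpace Opposite

namespace Groth.DerivedCoh.BaseChange

open Groth.DerivedCoh.KFlat (stk kres kresAug stk_jointly)
open Groth.QCohMod (res germ germ_res germ_smul exists_germ)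
open Groth.Misc4 (QCohTildeD.ε)

attribute [local instance] HasDerivedCategory.standard

local notation "up" => ComplexShape.up ℤ

variable {X Y : Scheme.{u}}

/-- quasi-isomorphisms are detected on stalks -/
theorem quasiIso_of_stk {C C' : CochainComplex X.Modules ℤ} (φ : C ⟶ C')
    (h : ∀ x, QuasiIso ((stkCx x).map φ)) : QuasiIso φ := by
  rw [FlatCxBase.quasiIso_iff_cone_acyclic]
  intro i
  rw [exactAt_iff, (stk_jointly (X := X)).exact_iff]
  intro x
  haveI := h x
  exact ((FlatCxBase.quasiIso_iff_cone_acyclic ((stkCx x).map φ)).1 inferInstance i).of_iso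
    (CochainComplex.mappingCone.mapHomologicalComplexIso φ (stk x)).symm

section Spec

variable {R : CommRingCat.{u}}

/-- the ring to its stalks -/
noncomputable def rhoR (u : Spec R) : R →+* (Spec R).presheaf.stalk u :=
  ((Spec R).presheaf.germ ⊤ u trivial).hom.comp (Scheme.ΓSpecIso R).inv.hom

/-- stalks as modules over the ring -/
noncomputable abbrev stR (u : Spec R) : (Spec R).Modules ⥤ ModuleCat.{u} R :=
  stk u ⋙ ModuleCat.restrictScalars (rhoR u)

/-- germs of global sections -/
noncomputable def germR (u : Spec R) : moduleSpecΓFunctor (R := R) ⟶ stR u where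
  app M := ModuleCat.ofHom (X := moduleSpecΓFunctor.obj M) (Y := (stR u).obj M)
    { toFun := fun m : moduleSpecΓFunctor.obj M =>
        (show (stR u).obj M from germ M u (U := ⊤) trivial (show Γ(M, ⊤) from m))
      map_add' := map_add (germ M u (U := ⊤) trivial)
      map_smul' := fun r m => by
        show germ M u (U := ⊤) trivial (((Spec R).presheaf.map ((⊤ : (Spec R).Opens).leTop).op)
          ((Scheme.ΓSpecIso R).inv r) • (show Γ(M, ⊤) from m)) = _
        refine (germ_smul M u _ _ _).trans (congrArg (· • germ M u (U := ⊤) trivial (show Γ(M, ⊤) from m)) ?_)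
        exact TopCat.Presheaf.germ_res_apply (Spec R).presheaf _ u _ _ }
  naturality M _ φ := ModuleCat.hom_ext (LinearMap.ext fun m =>
    (DerSch.stalkFunctor_map_germ u φ ⊤ trivial (show Γ(M, ⊤) from m)).symm)

/-- `M ⟶ (M~)_u` -/
noncomputable def toStR (u : Spec R) : 𝟭 (ModuleCat.{u} R) ⟶ tilde.functor R ⋙ stR u :=
  (tilde.adjunction (R := R)).unit ≫ Functor.whiskerLeft (tilde.functor R) (germR u)

lemma isLocalizedModule_toStR (u : Spec R) (M : ModuleCat.{u} R) :
    IsLocalizedModule u.asIdeal.primeCompl ((toStR u).app M).hom := by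
  let e₀ : (tilde M).presheaf.stalk u ≃+ (stR u).obj (tilde M) := AddEquiv.refl _
  have h2 := IsLocalizedModule.of_linearEquiv u.asIdeal.primeCompl (tilde.toStalk M u).hom
    (e₀.toLinearEquiv fun r t => rfl)
  exact h2

/-- the stalks of a complex, over the ring -/
noncomputable abbrev stRCx (u : Spec R) : CochainComplex (Spec R).Modules ℤ ⥤ DRing.Cx R :=
  (stR u).mapHomologicalComplex up

/-- global sections of complexes -/
noncomputable abbrev ΓR : CochainComplex (Spec R).Modules ℤ ⥤ DRing.Cx R :=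
  (moduleSpecΓFunctor (R := R)).mapHomologicalComplex up

/-- germs of complexes -/
noncomputable def germRCx (u : Spec R) (I : CochainComplex (Spec R).Modules ℤ) :
    ΓR.obj I ⟶ (stRCx u).obj I :=
  ((NatTrans.mapHomologicalComplex (germR u) up).app I :)

lemma rhoR_isUnit (u : Spec R) {r : R} (hr : r ∈ u.asIdeal.primeCompl) : IsUnit (rhoR u r) := by
  refine ((Spec R).mem_basicOpen ((Scheme.ΓSpecIso R).inv r) u trivial).1 ?_
  rw [basicOpen_eq_of_affine]
  exact hr

variable (K : DRing.Cx R) {I : CochainComplex (Spec R).Modules ℤ}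

lemma loc_stalk_iff (u : Spec R)
    (κ : ((tilde.functor R).mapHomologicalComplex up).obj K ⟶ I)
    (φ : K ⟶ ΓR.obj I) (h : ((Groth.DerivedCoh.ExtZero.cxAdj (tilde.adjunction (R := R))).homEquiv K I) κ = φ) :
    QuasiIso ((stRCx u).map κ) ↔ Loc u.asIdeal.primeCompl (φ ≫ germRCx u I) := by
  let ι : K ⟶ (stRCx u).obj (((tilde.functor R).mapHomologicalComplex up).obj K) :=
    { f := fun n => (toStR u).app (K.X n), comm' := fun i j _ => ((toStR u).naturality (K.d i j)).symm }
  obtain ⟨h1, h2⟩ := loc_of_isLocalizedModule ι (fun n => isLocalizedModule_toStR u (K.X n))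
  have hI : Act u.asIdeal.primeCompl ((stRCx u).obj I) :=
    act_rsCx (rhoR u) _ (fun r hr => rhoR_isUnit u hr) ((stkCx u).obj I)
  have e : ι ≫ (stRCx u).map κ = φ ≫ germRCx u I := by
    subst h
    refine HomologicalComplex.hom_ext _ _ fun n => ?_
    show ((tilde.adjunction (R := R)).unit.app (K.X n) ≫ (germR u).app _) ≫ (stR u).map (κ.f n) =
      ((tilde.adjunction (R := R)).homEquiv _ _ (κ.f n)) ≫ (germR u).app (I.X n)
    rw [Adjunction.homEquiv_unit, Category.assoc, Category.assoc]
    exact congrArg (_ ≫ ·) ((germR u).naturality (κ.f n)).symm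
  rw [← e]
  exact ⟨fun _ => h1.comp_quasiIso _, quasiIso_of_loc h2 hI h1⟩

variable [PreservesFiniteLimits (tilde.functor R)]

/-- sections to stalks is a localisation -/
theorem loc_germR [I.IsKInjective] (hI : DCoh.IsQCohD (DerivedCategory.Q.obj I)) (u : Spec R) :
    Loc u.asIdeal.primeCompl (germRCx u I) := by
  haveI := Groth.Misc4.QCohTildeD.quasiIso_ε I hI
  have h := (loc_stalk_iff (ΓR.obj I) u (Groth.Misc4.QCohTildeD.ε I) (𝟙 _)
    (HomologicalComplex.hom_ext _ _ fun n => by
      exact ((tilde.adjunction (R := R)).homEquiv_unit _ _ _).trans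
        ((tilde.adjunction (R := R)).right_triangle_components _))).1 inferInstance
  rwa [Category.id_comp] at h

/-- quasi-isomorphisms to global sections are detected at all primes -/
theorem quasiIso_of_germR [I.IsKInjective] (φ : K ⟶ ΓR.obj I)
    (h : ∀ u, Loc u.asIdeal.primeCompl (φ ≫ germRCx u I)) : QuasiIso φ := by
  let adj := Groth.DerivedCoh.ExtZero.cxAdj (tilde.adjunction (R := R))
  let κ := (adj.homEquiv K I).symm φ
  haveI : QuasiIso κ := quasiIso_of_stk κ fun u =>
    (quasiIso_rsCx_iff (rhoR u) ((stkCx u).map κ)).1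
      ((loc_stalk_iff K u κ φ ((adj.homEquiv K I).apply_symm_apply φ)).2 (h u))
  have hI : DCoh.IsQCohD (DerivedCategory.Q.obj I) := by
    refine Groth.Misc4.QCohDPerf.isQCohD_of_iso (asIso (DerivedCategory.Q.map κ)) fun q => ?_
    exact (Groth.QCohMod.isQCoh_iff_of_iso
      ((DerivedCategory.homologyFunctorFactors (Spec R).Modules q).app
        (((tilde.functor R).mapHomologicalComplex up).obj K) ≪≫
        ((K.sc q).mapHomologyIso (tilde.functor R) :))).2
      (inferInstanceAs ((tilde.functor R).obj (K.homology q)).IsQuasicoherent)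
  haveI := Groth.Misc4.QCohTildeD.quasiIso_ε I hI
  have e : ((tilde.functor R).mapHomologicalComplex up).map φ ≫ Groth.Misc4.QCohTildeD.ε I = κ :=
    (adj.homEquiv_counit (g := φ)).symm
  haveI : QuasiIso (((tilde.functor R).mapHomologicalComplex up).map φ ≫ Groth.Misc4.QCohTildeD.ε I) := by
    rw [e]; infer_instance
  haveI := quasiIso_of_comp_right (((tilde.functor R).mapHomologicalComplex up).map φ)
    (Groth.Misc4.QCohTildeD.ε I)
  exact (HomologicalComplex.quasiIso_map_iff_of_preservesHomology φ (tilde.functor R)).1 inferInstance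

end Spec

section Opens

variable {U : X.Opens}

/-- `U` lies over itself -/
lemma idle (U : X.Opens) : U ≤ (𝟙 X : X ⟶ X) ⁻¹ᵁ U := le_rfl

lemma id_appLE_apply (r : Γ(X, U)) : (𝟙 X : X ⟶ X).appLE U U (idle U) r = r := by
  show (X.presheaf.map _) r = r
  exact congr($(X.presheaf.map_id (op U)) r)

/-- functions invertible at a point -/
noncomputable def near (f : X ⟶ Y) {V : Y.Opens} (eU : U ≤ f ⁻¹ᵁ V) {x : X} (hx : x ∈ U) :
    Submonoid Γ(Y, V) :=
  (IsUnit.submonoid (X.presheaf.stalk x)).comap (stalkHom f eU hx)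

lemma mem_near {x : X} (hx : x ∈ U) (r : Γ(X, U)) : r ∈ near (𝟙 X) (idle U) hx ↔ x ∈ X.basicOpen r := by
  rw [X.mem_basicOpen r x hx]
  show IsUnit (X.presheaf.germ U x hx ((𝟙 X : X ⟶ X).appLE U U (idle U) r)) ↔ _
  rw [id_appLE_apply]

theorem isLocalization_near (hU : IsAffineOpen U) {x : X} (hx : x ∈ U) :
    letI := (stalkHom (𝟙 X) (idle U) hx).toAlgebra
    IsLocalization (near (𝟙 X) (idle U) hx) (X.presheaf.stalk x) := by
  have e : stalkHom (𝟙 X) (idle U) hx = (X.presheaf.germ U x hx).hom :=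
    RingHom.ext fun r => congrArg (X.presheaf.germ U x hx) (id_appLE_apply r)
  have e2 : near (𝟙 X) (idle U) hx = (hU.primeIdealOf ⟨x, hx⟩).asIdeal.primeCompl :=
    Submonoid.ext fun r => (mem_near hx r).trans (Groth.QCohMod.mem_basicOpen_iff_notMem_primeIdealOf hU r x hx)
  rw [e, e2]
  exact hU.isLocalization_stalk ⟨x, hx⟩

variable (hU : IsAffineOpen U)

/-- sections on an affine open as global sections on its spectrum -/
noncomputable def tauEquiv (M : X.Modules) :
    (Scheme.Modules.restrictFunctor hU.fromSpec ⋙ moduleSpecΓFunctor (R := Γ(X, U))).obj M ≃+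
      (secF (𝟙 X) (idle U)).obj M :=
  (Groth.QCohMod.secEquiv hU M ⊤ (Groth.QCohMod.image_top_fromSpec hU) :
    Γ(M.restrict hU.fromSpec, ⊤) ≃+ Γ(M, U))

lemma tauEquiv_smul (M : X.Modules) (r : Γ(X, U))
    (m : (Scheme.Modules.restrictFunctor hU.fromSpec ⋙ moduleSpecΓFunctor (R := Γ(X, U))).obj M) :
    tauEquiv hU M (r • m) = r • tauEquiv hU M m := by
  show Groth.QCohMod.secEquiv hU M ⊤ (Groth.QCohMod.image_top_fromSpec hU)
      (r • (show Γ(M.restrict hU.fromSpec, ⊤) from m)) =
    (𝟙 X : X ⟶ X).appLE U U (idle U) r •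
      Groth.QCohMod.secEquiv hU M ⊤ (Groth.QCohMod.image_top_fromSpec hU) (show Γ(M.restrict hU.fromSpec, ⊤) from m)
  rw [id_appLE_apply, Groth.QCohMod.secEquiv_smul hU M ⊤ (Groth.QCohMod.image_top_fromSpec hU) le_rfl,
    Groth.QCohMod.resFun_self]

/-- global sections of the restriction are sections -/
noncomputable def tauIso :
    Scheme.Modules.restrictFunctor hU.fromSpec ⋙ moduleSpecΓFunctor (R := Γ(X, U)) ≅ secF (𝟙 X) (idle U) :=
  NatIso.ofComponents
    (fun M => ((tauEquiv hU M).toLinearEquiv (tauEquiv_smul hU M)).toModuleIso)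
    fun {M N} φ => ModuleCat.hom_ext (LinearMap.ext fun m => by
      show res N (Groth.QCohMod.image_top_fromSpec hU).ge (φ.app _ (show Γ(M, hU.fromSpec ''ᵁ ⊤) from m)) =
        φ.app U (res M (Groth.QCohMod.image_top_fromSpec hU).ge (show Γ(M, hU.fromSpec ''ᵁ ⊤) from m))
      exact Groth.QCohMod.res_app φ _ _)

variable (u : Spec Γ(X, U))

lemma mem_fromSpec : hU.fromSpec u ∈ U := by
  rw [← SetLike.mem_coe, ← hU.range_fromSpec]; exact ⟨u, rfl⟩

lemma near_fromSpec : near (𝟙 X) (idle U) (mem_fromSpec hU u) = u.asIdeal.primeCompl := by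
  refine Submonoid.ext fun r => (mem_near _ r).trans ?_
  show u ∈ hU.fromSpec ⁻¹ᵁ X.basicOpen r ↔ _
  rw [hU.fromSpec_preimage_basicOpen]
  exact Iff.rfl

/-- stalks of the restriction to the spectrum -/
noncomputable def sigmaEquiv (M : X.Modules) :
    (Scheme.Modules.restrictFunctor hU.fromSpec ⋙ stR u).obj M ≃+
      (stk (hU.fromSpec u) ⋙ ModuleCat.restrictScalars (stalkHom (𝟙 X) (idle U) (mem_fromSpec hU u))).obj M :=
  (((Scheme.Modules.restrictStalkNatIso hU.fromSpec u).app M).addCommGroupIsoToAddEquiv :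
    (M.restrict hU.fromSpec).presheaf.stalk u ≃+ M.presheaf.stalk (hU.fromSpec u))

lemma restrictStalk_germ (M : X.Modules) {W : (Spec Γ(X, U)).Opens} (hW : u ∈ W)
    (s : Γ(M.restrict hU.fromSpec, W)) :
    (show M.presheaf.stalk (hU.fromSpec u) from
      sigmaEquiv hU u M (germ (M.restrict hU.fromSpec) u hW s)) =
      germ M (hU.fromSpec u) (U := hU.fromSpec ''ᵁ W) ⟨u, hW, rfl⟩ (Groth.QCohMod.secEquiv hU M W rfl s) := by
  refine (congr($(Scheme.Modules.germ_restrictStalkNatIso_hom_app hU.fromSpec u M hW) s)).trans ?_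
  rw [Groth.QCohMod.secEquiv_apply, Groth.QCohMod.res_self]
  rfl

lemma sigmaEquiv_smul (M : X.Modules) (r : Γ(X, U))
    (t : (Scheme.Modules.restrictFunctor hU.fromSpec ⋙ stR u).obj M) :
    sigmaEquiv hU u M (r • t) = r • sigmaEquiv hU u M t := by
  obtain ⟨W, hW, s, rfl⟩ := exists_germ (M.restrict hU.fromSpec) u (show (M.restrict hU.fromSpec).presheaf.stalk u from t)
  have hle : hU.fromSpec ''ᵁ W ≤ U :=
    (hU.fromSpec.image_mono le_top).trans (Groth.QCohMod.image_top_fromSpec hU).le
  show (show M.presheaf.stalk (hU.fromSpec u) from sigmaEquiv hU u M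
      (show (M.restrict hU.fromSpec).presheaf.stalk u from
        (Spec Γ(X, U)).presheaf.germ ⊤ u trivial ((Scheme.ΓSpecIso Γ(X, U)).inv r) •
          germ (M.restrict hU.fromSpec) u hW s)) =
    X.presheaf.germ U (hU.fromSpec u) (mem_fromSpec hU u) ((𝟙 X : X ⟶ X).appLE U U (idle U) r) •
      (show M.presheaf.stalk (hU.fromSpec u) from sigmaEquiv hU u M (germ (M.restrict hU.fromSpec) u hW s))
  rw [id_appLE_apply, restrictStalk_germ, ← TopCat.Presheaf.germ_res_apply X.presheaf (homOfLE hle) (hU.fromSpec u)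
      ⟨u, hW, rfl⟩ r, ← germ_smul, ← TopCat.Presheaf.germ_res_apply (Spec Γ(X, U)).presheaf
      (homOfLE (le_top : W ≤ ⊤)) u hW, ← germ_smul, restrictStalk_germ]
  refine congrArg _ ?_
  exact Groth.QCohMod.secEquiv_smul hU M W rfl hle r s

/-- stalks of the restriction -/
noncomputable def sigmaIso :
    Scheme.Modules.restrictFunctor hU.fromSpec ⋙ stR u ≅
      stk (hU.fromSpec u) ⋙ ModuleCat.restrictScalars (stalkHom (𝟙 X) (idle U) (mem_fromSpec hU u)) :=
  NatIso.ofComponents
    (fun M => ((sigmaEquiv hU u M).toLinearEquiv (sigmaEquiv_smul hU u M)).toModuleIso)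
    fun {M N} φ => ModuleCat.hom_ext (LinearMap.ext fun t =>
      congr($((Scheme.Modules.restrictStalkNatIso hU.fromSpec u).hom.naturality φ) t))

lemma germR_sigma (M : X.Modules) :
    (germR u).app ((Scheme.Modules.restrictFunctor hU.fromSpec).obj M) ≫ (sigmaIso hU u).hom.app M =
      (tauIso hU).hom.app M ≫ (germNat (𝟙 X) (idle U) (mem_fromSpec hU u)).app M := by
  refine ModuleCat.hom_ext (LinearMap.ext fun (m : Γ(M.restrict hU.fromSpec, ⊤)) => ?_)
  refine (congr($(Scheme.Modules.germ_restrictStalkNatIso_hom_app hU.fromSpec u M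
    (U := ⊤) trivial) m)).trans ?_
  exact (germ_res M (Groth.QCohMod.image_top_fromSpec hU).ge (hU.fromSpec u) (mem_fromSpec hU u) _).symm

include hU in
lemma isKInjective_restrict (C : CochainComplex X.Modules ℤ) [C.IsKInjective] :
    CochainComplex.IsKInjective
      (((Scheme.Modules.restrictFunctor hU.fromSpec).mapHomologicalComplex up).obj C) :=
  Groth.SiteCohomology.isKInjective_map_of_adjunction (CxOX.extZeroAdj hU.fromSpec) C inferInstance

/-- restriction to the spectrum, on complexes of sections -/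
noncomputable def tauCx (C : CochainComplex X.Modules ℤ) :
    ΓR.obj (((Scheme.Modules.restrictFunctor hU.fromSpec).mapHomologicalComplex up).obj C) ≅
      (secCx (𝟙 X) (idle U)).obj C :=
  HomologicalComplex.Hom.isoOfComponents (fun n => (tauIso hU).app (C.X n))
    fun i j _ => ((tauIso hU).hom.naturality (C.d i j)).symm

/-- restriction to the spectrum, on stalks -/
noncomputable def sigmaCx (C : CochainComplex X.Modules ℤ) :
    (stRCx u).obj (((Scheme.Modules.restrictFunctor hU.fromSpec).mapHomologicalComplex up).obj C) ≅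
      (rsCx (stalkHom (𝟙 X) (idle U) (mem_fromSpec hU u))).obj ((stkCx (hU.fromSpec u)).obj C) :=
  HomologicalComplex.Hom.isoOfComponents (fun n => (sigmaIso hU u).app (C.X n))
    fun i j _ => ((sigmaIso hU u).hom.naturality (C.d i j)).symm

lemma germRCx_sigma (C : CochainComplex X.Modules ℤ) :
    germRCx u _ ≫ (sigmaCx hU u C).hom =
      (tauCx hU C).hom ≫ germCx (𝟙 X) (idle U) (mem_fromSpec hU u) C :=
  HomologicalComplex.hom_ext _ _ fun n => germR_sigma hU u (C.X n)

lemma germCx_natural (f : X ⟶ Y) {V : Y.Opens} (eU : U ≤ f ⁻¹ᵁ V) {x : X} (hx : x ∈ U)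
    {C C' : CochainComplex X.Modules ℤ} (a : C ⟶ C') :
    (secCx f eU).map a ≫ germCx f eU hx C' =
      germCx f eU hx C ≫ (rsCx (stalkHom f eU hx)).map ((stkCx x).map a) :=
  HomologicalComplex.hom_ext _ _ fun n => (germNat f eU hx).naturality (a.f n)

include hU in
/-- sections of nice complexes with quasi-coherent cohomology localise to stalks -/
theorem loc_germCx {C : CochainComplex X.Modules ℤ} (hC : Nice C)
    (hq : DCoh.IsQCohD (DerivedCategory.Q.obj C)) {x : X} (hx : x ∈ U) :
    Loc (near (𝟙 X) (idle U) hx) (germCx (𝟙 X) (idle U) hx C) := by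
  obtain ⟨u, rfl⟩ : ∃ u, hU.fromSpec u = x := ⟨_, hU.fromSpec_primeIdealOf ⟨x, hx⟩⟩
  haveI : PreservesFiniteLimits (tilde.functor Γ(X, U)) := Groth.PropsBasic2.preservesFiniteLimits_tilde _
  let I := (kres X).obj C
  let a : C ⟶ I := (kresAug X).app C
  haveI := quasiIso_secCx (𝟙 X) a hC (nice_kres C) (idle U)
  haveI hs : QuasiIso ((rsCx (stalkHom (𝟙 X) (idle U) hx)).map ((stkCx (hU.fromSpec u)).map a)) :=
    (quasiIso_rsCx_iff _ _).2 inferInstance
  haveI := isKInjective_restrict hU I
  have hqI : DCoh.IsQCohD (DerivedCategory.Q.obj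
      (((Scheme.Modules.restrictFunctor hU.fromSpec).mapHomologicalComplex up).obj I)) :=
    Groth.Misc4.QCohDPerf.isQCohD_of_iso
      ((Scheme.Modules.restrictFunctor hU.fromSpec).mapDerivedCategoryFactors.app I)
      (Groth.Misc4.QCohDPerf.isQCohD_restrict hU.fromSpec
        (Groth.Misc4.QCohDPerf.isQCohD_of_iso (asIso (DerivedCategory.Q.map a)) hq))
  have h1 : Loc u.asIdeal.primeCompl (germCx (𝟙 X) (idle U) hx I) := by
    refine Loc.of_quasiIso_comp (tauCx hU I).hom ?_
    rw [← germRCx_sigma]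
    exact (loc_germR hqI u).comp_quasiIso _
  rw [near_fromSpec]
  have h2 := Loc.quasiIso_comp ((secCx (𝟙 X) (idle U)).map a) h1
  rw [germCx_natural] at h2
  constructor
  · intro n z hz w hw
    exact h2.inj n z hz
      (((rsCx (stalkHom (𝟙 X) (idle U) hx)).map ((stkCx (hU.fromSpec u)).map a)).f (n - 1) w) (by
      rw [comm_apply, hw]; rfl)
  · intro n t ht
    obtain ⟨r, hr, z, v, hz, hv⟩ := h2.surj n
      (((rsCx (stalkHom (𝟙 X) (idle U) hx)).map ((stkCx (hU.fromSpec u)).map a)).f n t)
      (by rw [comm_apply, ht, map_zero])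
    have hb := quasiIso_iff_cycles.1 hs
    obtain ⟨w, hw⟩ := (hb n).1 ((germCx (𝟙 X) (idle U) hx C).f n z - r • t) (by
      rw [map_sub, map_smul, comm_apply, hz, map_zero, ht, smul_zero, sub_zero]) ⟨-v, by
      rw [map_neg, map_sub, map_smul, ← hv]; exact (sub_add_cancel_left _ _).symm⟩
    exact ⟨r, hr, z, -w, hz, by rw [map_neg, hw, ← sub_eq_add_neg, sub_sub_cancel]⟩

include hU in
/-- quasi-isomorphisms to sections of nice complexes are detected by localising at all points -/
theorem quasiIso_of_loc_germ {D : CochainComplex X.Modules ℤ} (hD : Nice D) {K : DRing.Cx Γ(X, U)}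
    (φ : K ⟶ (secCx (𝟙 X) (idle U)).obj D)
    (h : ∀ (x : X) (hx : x ∈ U), Loc (near (𝟙 X) (idle U) hx) (φ ≫ germCx (𝟙 X) (idle U) hx D)) :
    QuasiIso φ := by
  haveI : PreservesFiniteLimits (tilde.functor Γ(X, U)) := Groth.PropsBasic2.preservesFiniteLimits_tilde _
  let I := (kres X).obj D
  let a : D ⟶ I := (kresAug X).app D
  haveI := quasiIso_secCx (𝟙 X) a hD (nice_kres D) (idle U)
  haveI := isKInjective_restrict hU I
  haveI : QuasiIso ((φ ≫ (secCx (𝟙 X) (idle U)).map a) ≫ (tauCx hU I).inv) := by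
    refine quasiIso_of_germR K _ fun u => ?_
    have h1 := (h _ (mem_fromSpec hU u)).of_le (near_fromSpec hU u).le
    haveI : QuasiIso ((rsCx (stalkHom (𝟙 X) (idle U) (mem_fromSpec hU u))).map ((stkCx (hU.fromSpec u)).map a)) :=
      (quasiIso_rsCx_iff _ _).2 inferInstance
    have h2 := (h1.comp_quasiIso ((rsCx (stalkHom (𝟙 X) (idle U) (mem_fromSpec hU u))).map
      ((stkCx (hU.fromSpec u)).map a))).comp_quasiIso (sigmaCx hU u I).inv
    rw [Category.assoc φ, ← germCx_natural, Category.assoc, Category.assoc] at h2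
    rw [Category.assoc, Category.assoc]
    have e : (tauCx hU I).inv ≫ germRCx u _ =
        germCx (𝟙 X) (idle U) (mem_fromSpec hU u) I ≫ (sigmaCx hU u I).inv := by
      rw [Iso.inv_comp_eq, ← Category.assoc, Iso.eq_comp_inv, germRCx_sigma]
    rw [e]
    exact h2
  haveI : QuasiIso (φ ≫ (secCx (𝟙 X) (idle U)).map a) := quasiIso_of_comp_right _ (tauCx hU I).inv
  exact quasiIso_of_comp_right φ ((secCx (𝟙 X) (idle U)).map a)

end Opens

end Groth.DerivedCoh.BaseChange
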