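import Groth.Agent.DerivedCoh.BaseChange.Loc
import Groth.Agent.DerivedCoh.ExtZero.Basic
import Groth.Agent.DAlg.TorIndepResolution
import Groth.Agent.DAlg.Nilpotent

/-!
Extension of scalars of complexes: adjuncts, localisations, pushouts, tor independence.
-/

universe u

open CategoryTheory CategoryTheory.Limits HomologicalComplex
open scoped TensorProduct ChangeOfRings

namespace Groth.DerivedCoh.BaseChange

open DAlg KFlatMod DerivedCoh FlatCxBase

attribute [local instance] HasDerivedCategory.standard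
set_option linter.style.haveILetI false

local notation "up" => ComplexShape.up ℤ

variable {A B : Type u} [CommRing A] [CommRing B] (φ : A →+* B)

/-- extension of scalars of complexes -/
noncomputable abbrev exCx : DRing.Cx A ⥤ DRing.Cx B :=
  (ModuleCat.extendScalars φ).mapHomologicalComplex up

/-- restriction of scalars of complexes -/
noncomputable abbrev rsCx : DRing.Cx B ⥤ DRing.Cx A :=
  (ModuleCat.restrictScalars φ).mapHomologicalComplex up

/-- their adjunction -/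
noncomputable def trAdj : exCx φ ⊣ rsCx φ := ExtZero.cxAdj (ModuleCat.extendRestrictScalarsAdj φ)

/-- the adjunct -/
noncomputable def tr {Q : DRing.Cx A} {L : DRing.Cx B} (g : Q ⟶ (rsCx φ).obj L) : (exCx φ).obj Q ⟶ L :=
  ((trAdj φ).homEquiv Q L).symm g

/-- `1 ⊗ m` -/
noncomputable abbrev u1 {Q : DRing.Cx A} {n : ℤ} (m : Q.X n) : ((exCx φ).obj Q).X n := (1 : B) ⊗ₜ[A,φ] m

lemma tr_one {Q : DRing.Cx A} {L : DRing.Cx B} (g : Q ⟶ (rsCx φ).obj L) (n : ℤ) (m : Q.X n) :
    (tr φ g).f n (u1 φ m) = (show L.X n from g.f n m) := by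
  letI : Module A (L.X n) := Module.compHom _ φ
  exact one_smul B (show L.X n from g.f n m)

lemma ext_one {Q : DRing.Cx A} {L : DRing.Cx B} {α β : (exCx φ).obj Q ⟶ L}
    (h : ∀ n (m : Q.X n), α.f n (u1 φ m) = β.f n (u1 φ m)) : α = β :=
  HomologicalComplex.hom_ext _ _ fun n => ModuleCat.ExtendScalars.hom_ext (h n)

lemma map_tr {Q Q' : DRing.Cx A} {L : DRing.Cx B} (l : Q ⟶ Q') (g : Q' ⟶ (rsCx φ).obj L) :
    (exCx φ).map l ≫ tr φ g = tr φ (l ≫ g) :=
  ((trAdj φ).homEquiv_naturality_left_symm l g).symm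

lemma quasiIso_rsCx_iff {K L : DRing.Cx B} (g : K ⟶ L) : QuasiIso ((rsCx φ).map g) ↔ QuasiIso g := by
  rw [quasiIso_iff_cycles, quasiIso_iff_cycles]
  rfl

lemma act_rsCx (S : Submonoid A) (hS : ∀ h ∈ S, IsUnit (φ h)) (L : DRing.Cx B) :
    Act S ((rsCx φ).obj L) := fun h hh n => by
  obtain ⟨v, hv⟩ := hS h hh
  have e : (fun x : L.X n => φ h • x) = fun x => v • x := by rw [← hv]; rfl
  show Function.Bijective fun x : L.X n => φ h • x
  rw [e]
  exact MulAction.bijective v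

lemma quasiIso_of_homotopy {K L : DRing.Cx A} {f g : K ⟶ L} (H : Homotopy f g) [QuasiIso f] :
    QuasiIso g := by
  rw [quasiIso_iff]
  intro i
  rw [quasiIsoAt_iff_isIso_homologyMap, ← H.homologyMap_eq i]
  infer_instance

lemma tr_homotopy {Q : DRing.Cx A} {L : DRing.Cx B} {g g' : Q ⟶ (rsCx φ).obj L} (H : Homotopy g g') :
    Nonempty (Homotopy (tr φ g) (tr φ g')) := by
  rw [tr, tr, Adjunction.homEquiv_counit, Adjunction.homEquiv_counit]
  exact ⟨((ModuleCat.extendScalars φ).mapHomotopy H).compRight _⟩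

/-- lifting along quasi-isomorphisms out of K-projective complexes -/
lemma exists_lift_kProj (Q : DRing.Cx A) [Q.IsKProjective] {P W : DRing.Cx A} (η : P ⟶ W) [QuasiIso η]
    (a : Q ⟶ W) : ∃ l : Q ⟶ P, Nonempty (Homotopy (l ≫ η) a) := by
  let q := HomotopyCategory.quotient (ModuleCat.{u} A) up
  haveI : IsIso (DerivedCategory.Qh.map (q.map η)) :=
    (NatIso.isIso_map_iff (DerivedCategory.quotientCompQhIso (ModuleCat.{u} A)) η).2
      ((DerivedCategory.isIso_Q_map_iff_quasiIso _ _).2 inferInstance)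
  obtain ⟨l, hl⟩ := (CochainComplex.IsKProjective.Qh_map_bijective Q (q.obj P)).2
    (DerivedCategory.Qh.map (q.map a) ≫ inv (DerivedCategory.Qh.map (q.map η)))
  obtain ⟨l, rfl⟩ := q.map_surjective l
  refine ⟨l, ⟨HomotopyCategory.homotopyOfEq _ _ ?_⟩⟩
  refine (CochainComplex.IsKProjective.Qh_map_bijective Q (q.obj W)).1 ?_
  show DerivedCategory.Qh.map (q.map (l ≫ η)) = DerivedCategory.Qh.map (q.map a)
  rw [CategoryTheory.Functor.map_comp, CategoryTheory.Functor.map_comp, hl, Category.assoc,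
    IsIso.inv_hom_id, Category.comp_id]

/-- extension of scalars kills acyclic K-flat complexes -/
lemma acyclic_exCx {C : DRing.Cx A} (hC : KFlat.IsKFlat (T A) C) (hac : C.Acyclic) :
    ((exCx φ).obj C).Acyclic := by
  algebraize [φ]
  intro i
  rw [exactAt_iff_isZero_homology]
  refine (isZero_extCx_iff (S := B) C i).2 ?_
  let S₀ := (single (ModuleCat.{u} A) up 0).obj (ModuleCat.of A B)
  haveI : QuasiIso ((resAug A).app S₀) := resAug_quasiIso S₀
  have h1 : (KFlat.tot (T A) ((resFunctor A).obj S₀) C).Acyclic :=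
    acyclic_tot_left (isKFlatCx_iff.1 (res_isKFlat S₀)) hac
  haveI := hC.quasiIso_totL ((resAug A).app S₀)
  have h2 : (KFlat.tot (T A) S₀ C).ExactAt i :=
    (quasiIsoAt_iff_exactAt ((KFlat.totL (T A) C).map ((resAug A).app S₀)) i (h1 i)).1 inferInstance
  exact ((h2.of_iso (KFlat.totSingleIso (T A) (ModuleCat.of A B) C)).of_iso
    (leftTensorIso (ModuleCat.of A B) C)).isZero_homology

lemma quasiIso_exCx_map {P Q : DRing.Cx A} (g : P ⟶ Q) [QuasiIso g] (hP : KFlat.IsKFlat (T A) P)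
    (hQ : KFlat.IsKFlat (T A) Q) : QuasiIso ((exCx φ).map g) := by
  rw [quasiIso_iff_cone_acyclic]
  exact fun i => ((acyclic_exCx φ (hP.mappingCone (T A) g hQ)
    ((quasiIso_iff_cone_acyclic g).1 inferInstance)) i).of_iso
      (CochainComplex.mappingCone.mapHomologicalComplexIso g (ModuleCat.extendScalars φ))

/-- the unit of extension of scalars along a localisation is a localisation -/
lemma isLocalizedModule_unit (S : Submonoid A) (h : letI := φ.toAlgebra; IsLocalization S B)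
    (N : ModuleCat.{u} A) :
    IsLocalizedModule S ((ModuleCat.extendRestrictScalarsAdj φ).unit.app N).hom := by
  letI := φ.toAlgebra
  haveI : IsLocalization S B := h
  let Y : ModuleCat.{u} A := (ModuleCat.restrictScalars φ).obj ((ModuleCat.extendScalars φ).obj N)
  let e₀ : B ⊗[A] N ≃+ Y := AddEquiv.refl _
  have he₀ : ∀ (r : A) (x : B ⊗[A] N), e₀ (r • x) = r • e₀ x := fun r x => by
    induction x using TensorProduct.induction_on with
    | zero => rw [smul_zero, map_zero, smul_zero]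
    | tmul b n => rfl
    | add x y hx hy => rw [smul_add, map_add, map_add, smul_add, hx, hy]
  let e : B ⊗[A] N ≃ₗ[A] Y := e₀.toLinearEquiv he₀
  have h1 : IsLocalizedModule S (TensorProduct.mk A B N 1) :=
    (isLocalizedModule_iff_isBaseChange S B _).mpr (TensorProduct.isBaseChange _ _ _)
  have h2 := IsLocalizedModule.of_linearEquiv S (TensorProduct.mk A B N 1) e
  have e2 : ((ModuleCat.extendRestrictScalarsAdj φ).unit.app N).hom =
      e.toLinearMap.comp (TensorProduct.mk A B N 1) := LinearMap.ext fun _ => rfl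
  rw [e2]
  exact h2

/-! ### Commutative squares of rings -/

section Square

variable {O O' : Type u} [CommRing O] [CommRing O'] (ρ : A →+* O) (ρ' : B →+* O') (ψ : O →+* O')
  (hsq : ψ.comp ρ = ρ'.comp φ)

/-- the two restrictions agree -/
noncomputable def resComm (L : ModuleCat.{u} O') :
    (ModuleCat.restrictScalars ρ).obj ((ModuleCat.restrictScalars ψ).obj L) ⟶
      (ModuleCat.restrictScalars φ).obj ((ModuleCat.restrictScalars ρ').obj L) :=
  ModuleCat.ofHom
    (X := (ModuleCat.restrictScalars ρ).obj ((ModuleCat.restrictScalars ψ).obj L))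
    (Y := (ModuleCat.restrictScalars φ).obj ((ModuleCat.restrictScalars ρ').obj L))
    { toFun := fun x : (ModuleCat.restrictScalars ρ).obj ((ModuleCat.restrictScalars ψ).obj L) =>
        (show (ModuleCat.restrictScalars φ).obj ((ModuleCat.restrictScalars ρ').obj L) from x)
      map_add' := fun _ _ => rfl
      map_smul' := fun a x => by
        show ψ (ρ a) • (show L from x) = ρ' (φ a) • (show L from x)
        rw [show ψ (ρ a) = ρ' (φ a) from RingHom.congr_fun hsq a] }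

/-- the two restrictions of complexes agree -/
noncomputable def resCommCx (L : DRing.Cx O') :
    (rsCx ρ).obj ((rsCx ψ).obj L) ⟶ (rsCx φ).obj ((rsCx ρ').obj L) where
  f n := resComm φ ρ ρ' ψ hsq (L.X n)
  comm' _ _ _ := rfl

/-- `B ⊗_A Q ⟶ O' ⊗_O (O ⊗_A Q)` -/
noncomputable def sqUnit (Q : DRing.Cx A) :
    (exCx φ).obj Q ⟶ (rsCx ρ').obj ((exCx ψ).obj ((exCx ρ).obj Q)) :=
  tr φ ((trAdj ρ).unit.app Q ≫ (rsCx ρ).map ((trAdj ψ).unit.app ((exCx ρ).obj Q)) ≫
    resCommCx φ ρ ρ' ψ hsq _)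

lemma sqUnit_one (Q : DRing.Cx A) (n : ℤ) (m : Q.X n) :
    (sqUnit φ ρ ρ' ψ hsq Q).f n (u1 φ m) =
      (u1 ψ (u1 ρ m)) :=
  tr_one φ _ n m

lemma isIso_tr_sqUnit (Q : DRing.Cx A) : IsIso (tr ρ' (sqUnit φ ρ ρ' ψ hsq Q)) := by
  let back : (exCx ψ).obj ((exCx ρ).obj Q) ⟶ (exCx ρ').obj ((exCx φ).obj Q) :=
    tr ψ (tr ρ ((trAdj φ).unit.app Q ≫ (rsCx φ).map ((trAdj ρ').unit.app ((exCx φ).obj Q)) ≫
      resCommCx ρ φ ψ ρ' hsq.symm _))
  refine ⟨back, ?_, ?_⟩
  · refine (trAdj ρ').homEquiv _ _ |>.injective ?_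
    refine ext_one φ fun n m => ?_
    show back.f n ((tr ρ' (sqUnit φ ρ ρ' ψ hsq Q)).f n (u1 ρ' (u1 φ m))) =
      (u1 ρ' (u1 φ m))
    rw [tr_one ρ']
    erw [sqUnit_one φ ρ ρ' ψ hsq Q n m, tr_one ψ, tr_one ρ]
    rfl
  · refine (trAdj ψ).homEquiv _ _ |>.injective ?_
    refine ext_one ρ fun n m => ?_
    show (tr ρ' (sqUnit φ ρ ρ' ψ hsq Q)).f n (back.f n (u1 ψ (u1 ρ m))) =
      (u1 ψ (u1 ρ m))
    rw [tr_one ψ]
    erw [tr_one ρ _ n m]
    show (tr ρ' (sqUnit φ ρ ρ' ψ hsq Q)).f n (u1 ρ' (u1 φ m)) = _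
    rw [tr_one ρ']
    erw [sqUnit_one φ ρ ρ' ψ hsq Q n m]

lemma isLocalizedModule_sqUnit (S : Submonoid B) (h : letI := ρ'.toAlgebra; IsLocalization S O')
    (Q : DRing.Cx A) (n : ℤ) : IsLocalizedModule S ((sqUnit φ ρ ρ' ψ hsq Q).f n).hom := by
  haveI := isIso_tr_sqUnit φ ρ ρ' ψ hsq Q
  haveI := isLocalizedModule_unit ρ' S h (((exCx φ).obj Q).X n)
  let κ := ((rsCx ρ').mapIso (asIso (tr ρ' (sqUnit φ ρ ρ' ψ hsq Q))))
  let e := ((HomologicalComplex.eval _ up n).mapIso κ).toLinearEquiv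
  have h2 := IsLocalizedModule.of_linearEquiv S
    ((ModuleCat.extendRestrictScalarsAdj ρ').unit.app (((exCx φ).obj Q).X n)).hom e
  have e2 : ((sqUnit φ ρ ρ' ψ hsq Q).f n).hom = e.toLinearMap.comp
      ((ModuleCat.extendRestrictScalarsAdj ρ').unit.app (((exCx φ).obj Q).X n)).hom :=
    LinearMap.ext fun x => (tr_one ρ' (sqUnit φ ρ ρ' ψ hsq Q) n x).symm
  rw [e2]
  exact h2

include hsq in
/-- Adjuncts are quasi-isomorphisms if and only if they localise the extension of scalars of a resolution. -/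
theorem stalkStep (TA : Submonoid A) (SB : Submonoid B) (hT : letI := ρ.toAlgebra; IsLocalization TA O)
    (hS : letI := ρ'.toAlgebra; IsLocalization SB O') {Ps Ws : DRing.Cx O} {L : DRing.Cx O'}
    (η : Ps ⟶ Ws) [QuasiIso η] (hP : KFlat.IsKFlat (T O) Ps) (l₀ : Ws ⟶ (rsCx ψ).obj L)
    {Q : DRing.Cx A} [Q.IsKProjective] (a : Q ⟶ (rsCx ρ).obj Ws) (ha : Loc TA a)
    (φK : (exCx φ).obj Q ⟶ (rsCx ρ').obj L)
    (hφK : ∀ n (m : Q.X n), (show L.X n from φK.f n (u1 φ m)) = l₀.f n (show Ws.X n from a.f n m)) :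
    QuasiIso (tr ψ (η ≫ l₀)) ↔ Loc SB φK := by
  let as' := tr ρ a
  haveI : ((exCx ρ).obj Q).IsKProjective := isKProjective_extCx ρ Q
  have hu : ∀ n, IsLocalizedModule TA (((trAdj ρ).unit.app Q).f n).hom := fun n =>
    isLocalizedModule_unit ρ TA hT (Q.X n)
  obtain ⟨hu1, hu2⟩ := loc_of_isLocalizedModule ((trAdj ρ).unit.app Q) hu
  have hTu : ∀ h ∈ TA, IsUnit (ρ h) := fun h hh =>
    letI := ρ.toAlgebra
    haveI : IsLocalization TA O := hT
    IsLocalization.map_units O ⟨h, hh⟩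
  have hSu : ∀ h ∈ SB, IsUnit (ρ' h) := fun h hh =>
    letI := ρ'.toAlgebra
    haveI : IsLocalization SB O' := hS
    IsLocalization.map_units O' ⟨h, hh⟩
  have e1 : (trAdj ρ).unit.app Q ≫ (rsCx ρ).map as' = a :=
    ((trAdj ρ).homEquiv_unit _ _ _).symm.trans (((trAdj ρ).homEquiv Q Ws).apply_symm_apply a)
  haveI : QuasiIso as' := (quasiIso_rsCx_iff ρ as').1
    (quasiIso_of_loc hu2 (act_rsCx ρ TA hTu Ws) hu1 (e1.symm ▸ ha))
  obtain ⟨l, ⟨H⟩⟩ := exists_lift_kProj _ η as'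
  haveI : QuasiIso (l ≫ η) := quasiIso_of_homotopy H.symm
  haveI : QuasiIso l := quasiIso_of_comp_right l η
  haveI := quasiIso_exCx_map ψ l
    (isKFlatCx_iff.1 (isKFlatCx_of_isKProjective _)) hP
  obtain ⟨H'⟩ := tr_homotopy ψ (H.compRight l₀)
  have e2 : (exCx ψ).map l ≫ tr ψ (η ≫ l₀) = tr ψ ((l ≫ η) ≫ l₀) := by rw [map_tr, Category.assoc]
  obtain ⟨hs1, hs2⟩ := loc_of_isLocalizedModule (sqUnit φ ρ ρ' ψ hsq Q)
    (isLocalizedModule_sqUnit φ ρ ρ' ψ hsq SB hS Q)
  have e3 : sqUnit φ ρ ρ' ψ hsq Q ≫ (rsCx ρ').map (tr ψ (as' ≫ l₀)) = φK := by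
    refine ext_one φ fun n m => ?_
    show (tr ψ (as' ≫ l₀)).f n ((sqUnit φ ρ ρ' ψ hsq Q).f n (u1 φ m)) = φK.f n _
    rw [sqUnit_one φ ρ ρ' ψ hsq Q n m, tr_one ψ]
    show l₀.f n (as'.f n (u1 ρ m)) = _
    rw [tr_one ρ]
    exact (hφK n m).symm
  rw [← e3]
  constructor
  · intro h
    haveI := h
    haveI : QuasiIso ((exCx ψ).map l ≫ tr ψ (η ≫ l₀)) := inferInstance
    rw [e2] at this
    haveI := quasiIso_of_homotopy H'
    haveI := (quasiIso_rsCx_iff ρ' (tr ψ (as' ≫ l₀))).2 this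
    exact hs1.comp_quasiIso _
  · intro h
    haveI := (quasiIso_rsCx_iff ρ' (tr ψ (as' ≫ l₀))).1
      (quasiIso_of_loc hs2 (act_rsCx ρ' SB hSu L) hs1 h)
    haveI := quasiIso_of_homotopy H'.symm
    have : QuasiIso ((exCx ψ).map l ≫ tr ψ (η ≫ l₀)) := e2 ▸ this
    exact quasiIso_of_comp_left ((exCx ψ).map l) _

/-- `B ⊗_A N ⟶ O' ⊗_O N` -/
noncomputable def pushMap (F : DRing.Cx O) :
    (exCx φ).obj ((rsCx ρ).obj F) ⟶ (rsCx ρ').obj ((exCx ψ).obj F) :=
  tr φ ((rsCx ρ).map ((trAdj ψ).unit.app F) ≫ resCommCx φ ρ ρ' ψ hsq _)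

lemma pushMap_one (F : DRing.Cx O) (n : ℤ) (m : ((rsCx ρ).obj F).X n) :
    (pushMap φ ρ ρ' ψ hsq F).f n (u1 φ m) = u1 ψ (show F.X n from m) :=
  tr_one φ _ n m

theorem isIso_pushMap
    (h : CategoryTheory.IsPushout (CommRingCat.ofHom φ) (CommRingCat.ofHom ρ) (CommRingCat.ofHom ρ') (CommRingCat.ofHom ψ))
    (F : DRing.Cx O) : IsIso (pushMap φ ρ ρ' ψ hsq F) := by
  suffices ∀ n, IsIso ((pushMap φ ρ ρ' ψ hsq F).f n) from HomologicalComplex.Hom.isIso_of_components _
  intro n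
  letI := φ.toAlgebra
  letI := ρ.toAlgebra
  letI := ρ'.toAlgebra
  letI := ψ.toAlgebra
  letI : Algebra A O' := (ρ'.comp φ).toAlgebra
  haveI : IsScalarTower A B O' := .of_algebraMap_eq fun _ => rfl
  haveI : IsScalarTower A O O' := .of_algebraMap_eq fun a => (RingHom.congr_fun hsq a).symm
  haveI : Algebra.IsPushout A B O O' := CommRingCat.isPushout_iff_isPushout.1 h
  letI : Module A (F.X n) := Module.compHom _ ρ
  haveI : IsScalarTower A O (F.X n) := .of_algebraMap_smul fun _ _ => rfl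
  rw [ConcreteCategory.isIso_iff_bijective]
  let e := (Algebra.IsPushout.cancelBaseChange A B O O' (F.X n)).symm
  refine (Function.Bijective.of_comp_iff' (f := id) Function.bijective_id _).1 ?_
  suffices ⇑((pushMap φ ρ ρ' ψ hsq F).f n).hom = ⇑e by
    rw [Function.id_comp]
    exact this ▸ e.bijective
  funext z
  induction z using TensorProduct.induction_on with
  | zero => exact (map_zero _).trans (map_zero e).symm
  | add x y hx hy => exact (map_add _ x y).trans ((congrArg₂ (· + ·) hx hy).trans (map_add e x y).symm)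
  | tmul b m =>
    refine Eq.trans ?_ (Algebra.IsPushout.cancelBaseChange_symm_tmul A B O O' (F.X n) b m).symm
    show ρ' b • ((1 : O') ⊗ₜ[O] (show F.X n from m)) = ρ' b ⊗ₜ[O] (show F.X n from m)
    rw [TensorProduct.smul_tmul', smul_eq_mul, mul_one]

end Square

/-- Tor independence of `φ` and `f`, in the form used here. -/
def TI {R : Type u} [CommRing R] (f : A →+* R) : Prop :=
  ∀ (F : DRing.Cx R) [F.IsKProjective] (Q : DRing.Cx A) [Q.IsKProjective] (q : Q ⟶ (rsCx f).obj F)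
    [QuasiIso q], QuasiIso ((exCx φ).map q)

lemma ti_of_flat {R : Type u} [CommRing R] (f : A →+* R) (hφ : φ.Flat) : TI φ f := by
  intro F _ Q _ q hq
  algebraize [φ]
  haveI : Module.Flat A B := hφ
  rw [quasiIso_iff_cone_acyclic]
  intro i
  refine ExactAt.of_iso ?_ (CochainComplex.mappingCone.mapHomologicalComplexIso q (ModuleCat.extendScalars φ))
  rw [exactAt_iff_isZero_homology]
  refine (isZero_extCx_iff (S := B) _ i).2 ?_
  have hx : ((((T A).obj (ModuleCat.of A B)).mapHomologicalComplex up).obj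
      (CochainComplex.mappingCone q)).ExactAt i :=
    ShortComplex.Exact.map ((quasiIso_iff_cone_acyclic q).1 inferInstance i) ((T A).obj (ModuleCat.of A B))
  refine (hx.of_iso (leftTensorIso (ModuleCat.of A B) _)).isZero_homology

lemma ti_of_tor [Algebra A B] {R : Type u} [CommRing R] [Algebra A R]
    (htor : ∀ p : ℕ, 1 ≤ p → Subsingleton (DRing.Tor A p R B)) :
    TI (algebraMap A B) (algebraMap A R) := by
  intro F _ Q _ q hq
  haveI : QuasiIso (show Q ⟶ (DRing.restrictCx (algebraMap A R)).obj F from q) := hq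
  exact quasiIso_extCx_resolution_torIndep htor (isKFlatCx_of_isKProjective F) (isKFlatCx_of_isKProjective Q) q

end Groth.DerivedCoh.BaseChange
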