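import Groth.Agent.DerivedCoh.KFlat.RpushComp
import Groth.Agent.DerivedCoh.ExtZero.Basic
import Mathlib.Algebra.Homology.HomotopyCategory.MappingCocone

/-!
Resolutions adapted to base change: functorially in a complex `M` on `X`, complexes `W M` quasi-isomorphic
to `M` with sections computing cohomology, with a strict map `W M ⟶ g'_* J M` to the direct image of a
K-injective resolution of `g'^* M`.
-/

universe u

open CategoryTheory CategoryTheory.Limits AlgebraicGeometry HomologicalComplex
open CochainComplex CochainComplex.HomComplex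

namespace Groth.DerivedCoh.BaseChange

open Groth.DerivedCoh.KFlat (pushCx pullCx kres kresAug WeakKInj)

attribute [local instance] HasDerivedCategory.standard

local notation "up" => ComplexShape.up ℤ

variable {X X' : Scheme.{u}} (g' : X' ⟶ X)

/-- a K-injective resolution of the inverse image -/
noncomputable abbrev Jc : CochainComplex X.Modules ℤ ⥤ CochainComplex X'.Modules ℤ :=
  pullCx g' ⋙ kres X'

/-- its direct image -/
noncomputable abbrev J0 : CochainComplex X.Modules ℤ ⥤ CochainComplex X.Modules ℤ :=
  Jc g' ⋙ pushCx g'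

/-- `M ⟶ g'_* J M` -/
noncomputable def lam0 : 𝟭 _ ⟶ J0 g' :=
  (ExtZero.cxAdj (Scheme.Modules.pullbackPushforwardAdjunction g')).unit ≫
    Functor.whiskerRight (Functor.whiskerLeft (pullCx g') (kresAug X')) (pushCx g')

/-- K-injective resolution of `g'_* J M` -/
noncomputable abbrev I2 : CochainComplex X.Modules ℤ ⥤ CochainComplex X.Modules ℤ :=
  J0 g' ⋙ kres X

variable (M : CochainComplex X.Modules ℤ)

/-- its augmentation -/
noncomputable abbrev mu : (J0 g').obj M ⟶ (I2 g').obj M := (kresAug X).app ((J0 g').obj M)

/-- the map whose cocone is `W M` -/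
noncomputable abbrev qMap : (kres X).obj M ⟶ mappingCone (mu g' M) :=
  (kres X).map ((lam0 g').app M) ≫ mappingCone.inr (mu g' M)

/-- a resolution of `M` with a strict map to `g'_* J M` -/
noncomputable abbrev W : CochainComplex X.Modules ℤ := mappingCocone (qMap g' M)

/-- `W M ⟶ g'_* J M` -/
noncomputable def lam : W g' M ⟶ (J0 g').obj M :=
  mappingCocone.desc (qMap g' M) 0 (-(mappingCone.fst (mu g' M))) (by
    simp [Cochain.ofHom_comp, mappingCone.inr_fst])

/-- `W M ⟶ I M` -/
noncomputable abbrev toI : W g' M ⟶ (kres X).obj M := mappingCocone.fst (qMap g' M)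

/-- `M ⟶ W M` -/
noncomputable def eta : M ⟶ W g' M :=
  mappingCocone.lift (qMap g' M) ((kresAug X).app M)
    (-(Cochain.ofHom ((lam0 g').app M)).comp (mappingCone.inl (mu g' M)) (zero_add _)) (by
    have e := (kresAug X).naturality ((lam0 g').app M)
    simp only [Functor.id_map] at e
    rw [δ_neg, δ_ofHom_comp, mappingCone.δ_inl, ← Cochain.ofHom_comp, ← Category.assoc,
      neg_add_eq_zero]
    exact congrArg Cochain.ofHom ((congrArg (· ≫ mappingCone.inr (mu g' M)) e).trans (Category.assoc _ _ _)))

lemma eta_toI : eta g' M ≫ toI g' M = (kresAug X).app M :=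
  mappingCocone.lift_fst _ _ _ _

lemma lam_f (p q : ℤ) (h : p + -1 = q) :
    (lam g' M).f p = -((mappingCocone.snd (qMap g' M)).v p q h ≫
      (mappingCone.fst (mu g' M)).1.v q p (by lia)) := by
  have e := congrArg (· ≫ (lam g' M).f p) (mappingCocone.id_X (qMap g' M) p q h)
  simp only [Preadditive.add_comp, Category.assoc, Category.id_comp] at e
  rw [← e, lam, mappingCocone.inl_v_desc_f, mappingCocone.inr_v_desc_f]
  simp

lemma eta_lam : eta g' M ≫ lam g' M = (lam0 g').app M := by
  refine HomologicalComplex.hom_ext _ _ fun p => ?_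
  obtain ⟨q, h⟩ : ∃ q, p + -1 = q := ⟨_, rfl⟩
  rw [comp_f, lam_f g' M p q h, eta, Preadditive.comp_neg, mappingCocone.lift_f_snd_v_assoc]
  simp [Cochain.comp_v _ _ _ p p q (add_zero p) h]

variable {M} {N : CochainComplex X.Modules ℤ} (a : M ⟶ N)

/-- functoriality of the cone of the augmentation -/
noncomputable def coneMap : mappingCone (mu g' M) ⟶ mappingCone (mu g' N) :=
  mappingCone.map (mu g' M) (mu g' N) ((J0 g').map a) ((I2 g').map a)
    ((kresAug X).naturality ((J0 g').map a)).symm

/-- functoriality of `W` -/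
noncomputable def Wmap : W g' M ⟶ W g' N :=
  (mappingCone.map (qMap g' M) (qMap g' N) ((kres X).map a) (coneMap g' a) (by
    have e : (kres X).map a ≫ (kres X).map ((lam0 g').app N) =
        (kres X).map ((lam0 g').app M) ≫ (I2 g').map a := by
      rw [← Functor.map_comp]
      exact ((kres X).congr_map ((lam0 g').naturality a)).trans ((kres X).map_comp _ _)
    rw [qMap, qMap, Category.assoc, coneMap, mappingCone.map, mappingCone.inr_desc, ← Category.assoc,
      ← e, Category.assoc]))⟦(-1 : ℤ)⟧'

set_option backward.defeqAttrib.useBackward true in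
set_option backward.isDefEq.respectTransparency false in
lemma Wmap_toI : Wmap g' a ≫ toI g' N = toI g' M ≫ (kres X).map a := by
  refine HomologicalComplex.hom_ext _ _ fun p => ?_
  simp [Wmap, toI, mappingCocone.fst, mappingCone.map, mappingCone.desc_f _ _ _ _ (p + -1) p (by lia),
    Cochain.leftShift_v (n := 1) _ _ _ _ _ p _ (p + -1) (by lia)]

set_option backward.defeqAttrib.useBackward true in
set_option backward.isDefEq.respectTransparency false in
lemma Wmap_lam : Wmap g' a ≫ lam g' N = lam g' M ≫ (J0 g').map a := by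
  refine HomologicalComplex.hom_ext _ _ fun p => ?_
  rw [comp_f, comp_f, lam_f g' M p (p + -1) rfl, lam_f g' N p (p + -1) rfl]
  simp [Wmap, coneMap, mappingCocone.snd, mappingCone.map, mappingCone.desc_f _ _ _ _ (p + -1) p (by lia),
    Cochain.leftShift_v _ _ _ _ _ _ _ _ (add_zero (p + -1))]

end Groth.DerivedCoh.BaseChange
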