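import Groth.Agent.DerivedCoh.BaseChange.StalkBC
import Groth.Agent.DerivedCoh.BaseChange.Data
import Groth.Agent.DerivedCoh.PushPull.Adjunction
import Groth.Prelude.Def_DCoh3

/-!
Base change for derived direct images along tor independent squares.
-/

universe u

open CategoryTheory CategoryTheory.Limits AlgebraicGeometry HomologicalComplex Pretriangulated

namespace Groth.DerivedCoh.BaseChange

open Groth.DerivedCoh.KFlat (stk pushCx pullCx pullStkIso kres kresAug L₀ WeakKInj pullCounit)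
open Groth.DerivedCoh.PushPull (lpullRpushAdj)
open DAlg KFlatMod

attribute [local instance] HasDerivedCategory.standard
set_option linter.style.haveILetI false

local notation "up" => ComplexShape.up ℤ

section Data

variable {X X' : Scheme.{u}} (g' : X' ⟶ X) (M : CochainComplex X.Modules ℤ)

lemma quasiIso_toI : QuasiIso (toI g' M) := by
  have hz : IsZero (DerivedCategory.Q.obj (CochainComplex.mappingCone (mu g' M))) :=
    ((Triangle.isZero₃_iff_isIso₁ _ (DerivedCategory.mappingCone_triangle_distinguished (mu g' M))).2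
      (inferInstanceAs (IsIso (DerivedCategory.Q.map (mu g' M)))))
  let U := DerivedCategory.Q.mapTriangle.obj (CochainComplex.mappingCocone.triangle (qMap g' M))
  have hU : U ∈ distTriang _ := by
    rw [rotate_distinguished_triangle]
    exact isomorphic_distinguished _ (DerivedCategory.mappingCone_triangle_distinguished (qMap g' M)) _
      ((DerivedCategory.Q.mapTriangleRotateIso.app _).trans
        (DerivedCategory.Q.mapTriangle.mapIso (CochainComplex.mappingCocone.rotateTriangleIso (qMap g' M))))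
  exact (DerivedCategory.isIso_Q_map_iff_quasiIso _ _).1
    ((Triangle.isZero₃_iff_isIso₁ U hU).1 hz)

lemma quasiIso_eta : QuasiIso (eta g' M) := by
  haveI := quasiIso_toI g' M
  haveI : QuasiIso (eta g' M ≫ toI g' M) := by rw [eta_toI]; infer_instance
  exact quasiIso_of_comp_right (eta g' M) (toI g' M)

lemma cxAdj_symm_lam0 :
    ((ExtZero.cxAdj (Scheme.Modules.pullbackPushforwardAdjunction g')).homEquiv M _).symm ((lam0 g').app M) =
      (kresAug X').app ((pullCx g').obj M) :=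
  (Equiv.symm_apply_eq _).2 (Adjunction.homEquiv_unit _ _ _ _).symm

theorem bcData_lam (hM : KFlat.IsKFlat (KFlat.T X) M) (hq : DCoh.IsQCohD ((L₀ X).obj M)) :
    BCData g' (lam g' M) := by
  haveI := quasiIso_eta g' M
  refine ⟨Nice.mappingCocone _ (nice_kres M) (Nice.mappingCone _ (Nice.push g' ((pullCx g').obj M))
    (nice_kres _)), nice_kres _, ?_, fun x' => ⟨(stkCx (g' x')).obj M, (stkCx (g' x')).map (eta g' M), ?_, ?_, ?_⟩⟩
  · exact Groth.Misc4.QCohDPerf.isQCohD_of_iso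
      ((DerivedCategory.quotientCompQhIso X.Modules).app M ≪≫ asIso (DerivedCategory.Q.map (eta g' M))) hq
  · exact isKFlatCx_iff.1 ((KFlat.isKFlat_iff_stalk M).1 ((KFlat.isKFlat_iff M).2 hM) (g' x'))
  · infer_instance
  let l0 : M ⟶ (pushCx g').obj ((Jc g').obj M) := (lam0 g').app M
  have e1 : (stkCx (g' x')).map (eta g' M) ≫ stkLam g' x' (lam g' M) = stkLam g' x' l0 := by
    rw [stkLam, stkLam, ← Category.assoc, ← Functor.map_comp, eta_lam]
  have e2 := (congrArg (tr _) e1).trans (tr_stkLam g' x' M ((Jc g').obj M) l0)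
  have e3 : ((ExtZero.cxAdj (Scheme.Modules.pullbackPushforwardAdjunction g')).homEquiv M _).symm l0 =
      (kresAug X').app ((pullCx g').obj M) := cxAdj_symm_lam0 g' M
  let a : (pullCx g').obj M ⟶ (Jc g').obj M := (kresAug X').app ((pullCx g').obj M)
  haveI : QuasiIso a := inferInstanceAs (QuasiIso ((kresAug X').app ((pullCx g').obj M)))
  haveI ha : QuasiIso ((stkCx x').map a) := inferInstance
  rw [e2, e3]
  haveI : QuasiIso ((NatIso.mapHomologicalComplex (pullStkIso g' x') up).inv.app M) := quasiIso_of_isIso _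
  exact (quasiIso_iff_comp_left ((NatIso.mapHomologicalComplex (pullStkIso g' x') up).inv.app M) _).2 ha

end Data

section Units

variable {X Y : Scheme.{u}} (f : X ⟶ Y)

/-- `f_* K ⟶ Rf_* K` -/
noncomputable def beta [DCoh.HasRpush f] : pushCx f ⋙ L₀ Y ⟶ L₀ X ⋙ DCoh.Rpush f :=
  Functor.whiskerLeft (HomotopyCategory.quotient X.Modules up)
    ((DCoh.pushKh f).totalRightDerivedUnit DerivedCategory.Qh (HomotopyCategory.quasiIso X.Modules up))

/-- `Lf^* K ⟶ f^* K` -/
noncomputable def alpha [DCoh.HasLpull f] : L₀ Y ⋙ DCoh.Lpull f ⟶ pullCx f ⋙ L₀ X :=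
  Functor.whiskerLeft (HomotopyCategory.quotient Y.Modules up) (pullCounit f)

lemma isIso_beta_app [DCoh.HasRpush f] {K : CochainComplex X.Modules ℤ} (hK : WeakKInj K) :
    IsIso ((beta f).app K) := by
  have e : (pushCx f ⋙ L₀ Y).map ((kresAug X).app K) ≫ (beta f).app ((kres X).obj K) =
      (beta f).app K ≫ (L₀ X ⋙ DCoh.Rpush f).map ((kresAug X).app K) :=
    (beta f).naturality ((kresAug X).app K)
  haveI : IsIso ((beta f).app ((kres X).obj K)) := KFlat.isIso_pushUnit_app f ((kres X).obj K)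
  haveI : IsIso ((pushCx f ⋙ L₀ Y).map ((kresAug X).app K)) :=
    haveI := KFlat.quasiIso_pushCx f ((kresAug X).app K) hK (KFlat.weakKInj_of_isKInjective _)
    KFlat.isIso_L₀_map ((pushCx f).map ((kresAug X).app K))
  haveI : IsIso ((L₀ X ⋙ DCoh.Rpush f).map ((kresAug X).app K)) :=
    haveI := KFlat.isIso_L₀_map ((kresAug X).app K)
    inferInstanceAs (IsIso ((DCoh.Rpush f).map ((L₀ X).map _)))
  haveI : IsIso ((beta f).app K ≫ (L₀ X ⋙ DCoh.Rpush f).map ((kresAug X).app K)) := by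
    rw [← e]; infer_instance
  exact IsIso.of_isIso_comp_right _ ((L₀ X ⋙ DCoh.Rpush f).map ((kresAug X).app K))

lemma isIso_alpha_app [DCoh.HasLpull f] {P : CochainComplex Y.Modules ℤ}
    (hP : KFlat.IsKFlat (KFlat.T Y) P) : IsIso ((alpha f).app P) :=
  KFlat.isIso_pullCounit_app f P hP

variable [DCoh.HasLpull f] [DCoh.HasRpush f]

lemma unit_alpha (P : CochainComplex Y.Modules ℤ) :
    (lpullRpushAdj f).unit.app ((L₀ Y).obj P) ≫ (DCoh.Rpush f).map ((alpha f).app P) =
      (L₀ Y).map ((ExtZero.cxAdj (Scheme.Modules.pullbackPushforwardAdjunction f)).unit.app P) ≫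
        (beta f).app ((pullCx f).obj P) :=
  haveI := PushPull.isLeftDerivedFunctor_Lpull_comp f (DCoh.Rpush f)
  (DerivedAdj.mapHomotopyCategoryAdj (Scheme.Modules.pullbackPushforwardAdjunction f) up).derivedη_fac_app
    (HomotopyCategory.quasiIso Y.Modules up) _ _ ((HomotopyCategory.quotient Y.Modules up).obj P)

lemma homEquiv_alpha {P : CochainComplex Y.Modules ℤ} {L : CochainComplex X.Modules ℤ}
    (t : (pullCx f).obj P ⟶ L) :
    (lpullRpushAdj f).homEquiv _ _ ((alpha f).app P ≫ (L₀ X).map t) =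
      (L₀ Y).map ((ExtZero.cxAdj (Scheme.Modules.pullbackPushforwardAdjunction f)).homEquiv _ _ t) ≫
        (beta f).app L := by
  have e : (L₀ Y).map ((pushCx f).map t) ≫ (beta f).app L =
      (beta f).app ((pullCx f).obj P) ≫ (DCoh.Rpush f).map ((L₀ X).map t) := (beta f).naturality t
  rw [Adjunction.homEquiv_unit, Adjunction.homEquiv_unit, Functor.map_comp, Functor.map_comp]
  refine (Category.assoc _ _ _).symm.trans ((congrArg (· ≫ _) (unit_alpha f P)).trans ?_)
  refine (Category.assoc _ _ _).trans (Eq.trans ?_ (Category.assoc _ _ _).symm)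
  exact congrArg (_ ≫ ·) e.symm

end Units

lemma chase {𝒟 : Type*} [Category 𝒟] {P A B C D D' E E' B' A' A'' : 𝒟} (q : P ⟶ A) (b : A ⟶ B) (η : C ⟶ B)
    [IsIso η] (u : C ⟶ D) (θ₁ : D ⟶ D') (e₁ : D ⟶ E) (e₂ : D' ⟶ E') (θ₂ : E ⟶ E') (l : B ⟶ B')
    (β' : B' ⟶ D') (pl : A ⟶ A') (bf : A' ⟶ B') (s : A' ⟶ A'') (c : A'' ⟶ E')
    (h2 : e₁ ≫ θ₂ = θ₁ ≫ e₂) (h3 : u ≫ θ₁ = η ≫ l ≫ β') (h4 : pl ≫ bf = b ≫ l)
    (h5 : bf ≫ β' ≫ e₂ = s ≫ c) :
    (q ≫ b ≫ inv η) ≫ (u ≫ e₁) ≫ θ₂ = (q ≫ pl ≫ s) ≫ c := by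
  simp only [Category.assoc, h2, reassoc_of% h3, IsIso.inv_hom_id_assoc, ← reassoc_of% h4, h5]

section Square

variable {X S X' S' : Scheme.{u}} {f : X ⟶ S} {g : S' ⟶ S} {g' : X' ⟶ X} {f' : X' ⟶ S'}

/-- direct images of complexes commute -/
noncomputable def sqMapNat (w : g' ≫ f = f' ≫ g) : pushCx g' ⋙ pushCx f ≅ pushCx f' ⋙ pushCx g :=
  NatIso.ofComponents (fun D => sqMapCx w D) fun φ =>
    HomologicalComplex.hom_ext _ _ fun n => (sqMap w).hom.naturality (φ.f n)

variable (f g g' f') [DCoh.HasRpush f] [DCoh.HasRpush g] [DCoh.HasRpush g'] [DCoh.HasRpush f']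

/-- `f_* g'_* J ⟶ Rf_* Rg'_* J` -/
noncomputable def cNat : (pushCx g' ⋙ pushCx f) ⋙ L₀ S ⟶ L₀ X' ⋙ DCoh.Rpush g' ⋙ DCoh.Rpush f :=
  Functor.whiskerLeft (pushCx g') (beta f) ≫ Functor.whiskerRight (beta g') (DCoh.Rpush f)

lemma cNat_app (J : CochainComplex X'.Modules ℤ) :
    (cNat f g').app J = (beta f).app ((pushCx g').obj J) ≫ (DCoh.Rpush f).map ((beta g').app J) := rfl

lemma isIso_cNat_app (J : CochainComplex X'.Modules ℤ) [J.IsKInjective] : IsIso ((cNat f g').app J) := by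
  haveI := isIso_beta_app f (KFlat.weakKInj_pushCx g' J)
  haveI := isIso_beta_app g' (KFlat.weakKInj_of_isKInjective J)
  rw [cNat_app]
  exact IsIso.comp_isIso

variable {f g g' f'}

/-- the composite derived direct images, on complexes -/
noncomputable def tau (w : g' ≫ f = f' ≫ g) :
    L₀ X' ⋙ DCoh.Rpush g' ⋙ DCoh.Rpush f ≅ L₀ X' ⋙ DCoh.Rpush f' ⋙ DCoh.Rpush g :=
  let a := Functor.whiskerRight (kresAug X') (L₀ X' ⋙ DCoh.Rpush g' ⋙ DCoh.Rpush f)
  let a' := Functor.whiskerRight (kresAug X') (L₀ X' ⋙ DCoh.Rpush f' ⋙ DCoh.Rpush g)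
  let b := Functor.whiskerLeft (kres X') (cNat f g')
  let b' := Functor.whiskerLeft (kres X') (cNat g f')
  have : ∀ K, IsIso (a.app K) := fun K => by
    haveI := KFlat.isIso_L₀_map ((kresAug X').app K)
    exact inferInstanceAs (IsIso ((DCoh.Rpush f).map ((DCoh.Rpush g').map ((L₀ X').map _))))
  have : ∀ K, IsIso (a'.app K) := fun K => by
    haveI := KFlat.isIso_L₀_map ((kresAug X').app K)
    exact inferInstanceAs (IsIso ((DCoh.Rpush g).map ((DCoh.Rpush f').map ((L₀ X').map _))))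
  have : ∀ K, IsIso (b.app K) := fun K => isIso_cNat_app f g' ((kres X').obj K)
  have : ∀ K, IsIso (b'.app K) := fun K => isIso_cNat_app g f' ((kres X').obj K)
  haveI := NatIso.isIso_of_isIso_app a
  haveI := NatIso.isIso_of_isIso_app a'
  haveI := NatIso.isIso_of_isIso_app b
  haveI := NatIso.isIso_of_isIso_app b'
  asIso a ≪≫ (asIso b).symm ≪≫
    Functor.isoWhiskerLeft (kres X') (Functor.isoWhiskerRight (sqMapNat w) (L₀ S)) ≪≫
    asIso b' ≪≫ (asIso a').symm

lemma cNat_tau (w : g' ≫ f = f' ≫ g) (J : CochainComplex X'.Modules ℤ) :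
    (cNat f g').app J ≫ (tau w).hom.app J = (L₀ S).map (sqMapCx w J).hom ≫ (cNat g f').app J := by
  have e1 := (cNat f g').naturality ((kresAug X').app J)
  have e2 := (cNat g f').naturality ((kresAug X').app J)
  have e3 := (L₀ S).congr_map ((sqMapNat w).hom.naturality ((kresAug X').app J))
  haveI : IsIso ((L₀ X' ⋙ DCoh.Rpush f' ⋙ DCoh.Rpush g).map ((kresAug X').app J)) := by
    haveI := KFlat.isIso_L₀_map ((kresAug X').app J)
    exact inferInstanceAs (IsIso ((DCoh.Rpush g).map ((DCoh.Rpush f').map ((L₀ X').map _))))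
  haveI := isIso_cNat_app f g' ((kres X').obj J)
  rw [← cancel_mono ((L₀ X' ⋙ DCoh.Rpush f' ⋙ DCoh.Rpush g).map ((kresAug X').app J))]
  dsimp [tau, sqMapNat] at e1 e2 e3 ⊢
  simp only [Category.assoc, Functor.map_comp] at e3 ⊢
  simp
  rw [← reassoc_of% e1]
  simp [← e2, reassoc_of% e3]

/-- the composite derived direct images -/
noncomputable def eIso (w : g' ≫ f = f' ≫ g) :
    DCoh.Rpush g' ⋙ DCoh.Rpush f ≅ DCoh.Rpush f' ⋙ DCoh.Rpush g :=
  Localization.liftNatIso (L₀ X') (HomologicalComplex.quasiIso X'.Modules up)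
    (L₀ X' ⋙ DCoh.Rpush g' ⋙ DCoh.Rpush f) (L₀ X' ⋙ DCoh.Rpush f' ⋙ DCoh.Rpush g) _ _ (tau w)

lemma eIso_app (w : g' ≫ f = f' ≫ g) (J : CochainComplex X'.Modules ℤ) :
    (eIso w).hom.app ((L₀ X').obj J) = (tau w).hom.app J :=
  (Localization.liftNatTrans_app _ _ _ _ _ _ _ J).trans ((Category.id_comp _).trans (Category.comp_id _))

/-- `baseChangeApp` is natural -/
lemma baseChangeApp_naturality [DCoh.HasLpull g] [DCoh.HasLpull g'] (adjg : DCoh.Lpull g ⊣ DCoh.Rpush g)
    (adjg' : DCoh.Lpull g' ⊣ DCoh.Rpush g') (e : DCoh.Rpush g' ⋙ DCoh.Rpush f ≅ DCoh.Rpush f' ⋙ DCoh.Rpush g)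
    {K K' : DCoh.D X} (a : K ⟶ K') :
    (DCoh.Lpull g).map ((DCoh.Rpush f).map a) ≫ DCoh.baseChangeApp adjg adjg' e K' =
      DCoh.baseChangeApp adjg adjg' e K ≫ (DCoh.Rpush f').map ((DCoh.Lpull g').map a) := by
  rw [DCoh.baseChangeApp, DCoh.baseChangeApp, ← Adjunction.homEquiv_naturality_left_symm,
    ← Adjunction.homEquiv_naturality_right_symm]
  congr 1
  have h1 := (DCoh.Rpush f).congr_map (adjg'.unit.naturality a)
  have h2 := e.hom.naturality ((DCoh.Lpull g').map a)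
  dsimp at h1 h2 ⊢
  simp only [Functor.map_comp] at h1
  rw [reassoc_of% h1, h2, Category.assoc]

/-- changing the adjunctions -/
lemma baseChangeApp_adj [DCoh.HasLpull g] [DCoh.HasLpull g'] (a₁ a₂ : DCoh.Lpull g ⊣ DCoh.Rpush g)
    (b₁ b₂ : DCoh.Lpull g' ⊣ DCoh.Rpush g') (e : DCoh.Rpush g' ⋙ DCoh.Rpush f ≅ DCoh.Rpush f' ⋙ DCoh.Rpush g)
    (K : DCoh.D X) :
    DCoh.baseChangeApp a₁ b₁ e K = (a₁.leftAdjointUniq a₂).hom.app _ ≫ DCoh.baseChangeApp a₂ b₂ e K ≫
      (DCoh.Rpush f').map ((b₂.leftAdjointUniq b₁).hom.app K) := by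
  refine (a₁.homEquiv _ _).injective ?_
  have hu := Adjunction.unit_leftAdjointUniq_hom_app a₁ a₂ ((DCoh.Rpush f).obj K)
  have hv := (DCoh.Rpush f).congr_map (Adjunction.unit_leftAdjointUniq_hom_app b₂ b₁ K)
  have h2 := e.hom.naturality ((b₂.leftAdjointUniq b₁).hom.app K)
  dsimp at hu hv h2 ⊢
  rw [DCoh.baseChangeApp, Equiv.apply_symm_apply, Adjunction.homEquiv_unit, Functor.map_comp,
    reassoc_of% hu, DCoh.baseChangeApp, ← Adjunction.homEquiv_naturality_right_symm,
    ← Adjunction.homEquiv_unit, Equiv.apply_symm_apply, ← hv, Functor.map_comp, Category.assoc,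
    Category.assoc, h2]

variable [QuasiCompact f] [QuasiSeparated f] [DCoh.HasLpull g] [DCoh.HasLpull g']

/-- base change at K-flat complexes, for the canonical adjunctions -/
theorem isIso_baseChangeApp_L₀ (sq : IsPullback g' f' f g) (htor : TorInd f g)
    {M : CochainComplex X.Modules ℤ} (hM : KFlat.IsKFlat (KFlat.T X) M) (hq : DCoh.IsQCohD ((L₀ X).obj M)) :
    IsIso (DCoh.baseChangeApp (lpullRpushAdj g) (lpullRpushAdj g') (eIso sq.w) ((L₀ X).obj M)) := by
  have hbc := bcData_lam g' M hM hq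
  let J := (Jc g').obj M
  let P := (KFlat.flatResolution S).obj ((pushCx f).obj (W g' M))
  let q : P ⟶ (pushCx f).obj (W g' M) := (KFlat.flatResolutionAug S).app _
  haveI : QuasiIso q := KFlat.flatResolution_quasiIso _
  have hP : KFlat.IsKFlat (KFlat.T S) P := KFlat.flatResolution_isKFlat _
  let adjC := ExtZero.cxAdj (Scheme.Modules.pullbackPushforwardAdjunction g)
  let t := (adjC.homEquiv P ((pushCx f').obj J)).symm (q ≫ phiBC sq.w (lam g' M))
  haveI : QuasiIso t := quasiIso_adjunct sq (bcGen_of_bcData sq hbc htor) hP q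
  haveI := quasiIso_eta g' M
  haveI := KFlat.isIso_L₀_map (eta g' M)
  haveI := KFlat.isIso_L₀_map q
  haveI := KFlat.isIso_L₀_map t
  haveI := KFlat.isIso_L₀_map ((kresAug X').app ((pullCx g').obj M))
  haveI := isIso_alpha_app g' hM
  haveI := isIso_alpha_app g hP
  haveI := isIso_beta_app f hbc.niceC.weak
  haveI := isIso_beta_app f' hbc.niceD.weak
  let θ : (DCoh.Lpull g').obj ((L₀ X).obj M) ⟶ (L₀ X').obj J :=
    (alpha g').app M ≫ (L₀ X').map ((kresAug X').app ((pullCx g').obj M))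
  have hθ : (lpullRpushAdj g').unit.app ((L₀ X).obj M) ≫ (DCoh.Rpush g').map θ =
      (L₀ X).map (eta g' M) ≫ (L₀ X).map (lam g' M) ≫ (beta g').app J := by
    refine ((Adjunction.homEquiv_unit _ _ _ _).symm.trans
      (homEquiv_alpha g' ((kresAug X').app ((pullCx g').obj M)))).trans ?_
    rw [← Category.assoc, ← Functor.map_comp, eta_lam]
    refine congrArg (fun z => (L₀ X).map z ≫ (beta g').app J) ?_
    exact ((Equiv.symm_apply_eq _).1 (cxAdj_symm_lam0 g' M)).symm
  let ι : (L₀ S).obj P ⟶ (DCoh.Rpush f).obj ((L₀ X).obj M) :=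
    (L₀ S).map q ≫ (beta f).app (W g' M) ≫ inv ((DCoh.Rpush f).map ((L₀ X).map (eta g' M)))
  have key : (DCoh.Lpull g).map ι ≫ DCoh.baseChangeApp (lpullRpushAdj g) (lpullRpushAdj g') (eIso sq.w)
      ((L₀ X).obj M) ≫ (DCoh.Rpush f').map θ = ((alpha g).app P ≫ (L₀ S').map t) ≫ (beta f').app J := by
    refine ((lpullRpushAdj g).homEquiv _ _).injective ?_
    have r1 : (lpullRpushAdj g).homEquiv _ _ (((alpha g).app P ≫ (L₀ S').map t) ≫ (beta f').app J) =
        (L₀ S).map (q ≫ phiBC sq.w (lam g' M)) ≫ (beta g).app ((pushCx f').obj J) ≫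
          (DCoh.Rpush g).map ((beta f').app J) := by
      rw [Adjunction.homEquiv_naturality_right, homEquiv_alpha]
      rw [Category.assoc]
      congr 2
      exact (adjC.homEquiv P _).apply_symm_apply _
    refine Eq.trans ?_ r1.symm
    rw [Adjunction.homEquiv_naturality_left, Adjunction.homEquiv_naturality_right,
      DCoh.baseChangeApp, Equiv.apply_symm_apply]
    have h2 : (eIso sq.w).hom.app ((DCoh.Lpull g').obj ((L₀ X).obj M)) ≫ (DCoh.Rpush g).map ((DCoh.Rpush f').map θ) =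
        (DCoh.Rpush f).map ((DCoh.Rpush g').map θ) ≫ (tau sq.w).hom.app J := by
      rw [← eIso_app]
      exact ((eIso sq.w).hom.naturality θ).symm
    have h3 : (DCoh.Rpush f).map ((lpullRpushAdj g').unit.app ((L₀ X).obj M)) ≫
        (DCoh.Rpush f).map ((DCoh.Rpush g').map θ) = (DCoh.Rpush f).map ((L₀ X).map (eta g' M)) ≫
        (DCoh.Rpush f).map ((L₀ X).map (lam g' M)) ≫ (DCoh.Rpush f).map ((beta g').app J) := by
      rw [← Functor.map_comp, hθ, Functor.map_comp, Functor.map_comp]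
    have h4 : (L₀ S).map ((pushCx f).map (lam g' M)) ≫ (beta f).app ((pushCx g').obj J) =
        (beta f).app (W g' M) ≫ (DCoh.Rpush f).map ((L₀ X).map (lam g' M)) :=
      (beta f).naturality (lam g' M)
    have h5 : (beta f).app ((pushCx g').obj J) ≫ (DCoh.Rpush f).map ((beta g').app J) ≫ (tau sq.w).hom.app J =
        (L₀ S).map (sqMapCx sq.w J).hom ≫ ((beta g).app ((pushCx f').obj J) ≫
          (DCoh.Rpush g).map ((beta f').app J)) :=
      (Category.assoc _ _ _).symm.trans (cNat_tau sq.w J)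
    refine (chase ((L₀ S).map q) ((beta f).app (W g' M)) ((DCoh.Rpush f).map ((L₀ X).map (eta g' M)))
      ((DCoh.Rpush f).map ((lpullRpushAdj g').unit.app ((L₀ X).obj M)))
      ((DCoh.Rpush f).map ((DCoh.Rpush g').map θ))
      ((eIso sq.w).hom.app ((DCoh.Lpull g').obj ((L₀ X).obj M))) ((tau sq.w).hom.app J)
      ((DCoh.Rpush g).map ((DCoh.Rpush f').map θ)) ((DCoh.Rpush f).map ((L₀ X).map (lam g' M)))
      ((DCoh.Rpush f).map ((beta g').app J)) ((L₀ S).map ((pushCx f).map (lam g' M)))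
      ((beta f).app ((pushCx g').obj J)) ((L₀ S).map (sqMapCx sq.w J).hom) _ h2 h3 h4 h5).trans ?_
    rw [phiBC, Functor.map_comp, Functor.map_comp]
  have h1 : IsIso ((DCoh.Lpull g).map ι ≫ DCoh.baseChangeApp (lpullRpushAdj g) (lpullRpushAdj g') (eIso sq.w)
      ((L₀ X).obj M) ≫ (DCoh.Rpush f').map θ) := by
    rw [key]; infer_instance
  haveI := IsIso.of_isIso_comp_left ((DCoh.Lpull g).map ι)
    (DCoh.baseChangeApp (lpullRpushAdj g) (lpullRpushAdj g') (eIso sq.w) ((L₀ X).obj M) ≫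
      (DCoh.Rpush f').map θ)
  exact IsIso.of_isIso_comp_right _ ((DCoh.Rpush f').map θ)

/-- base change along tor independent squares -/
theorem exists_baseChange (sq : IsPullback g' f' f g) (htor : TorInd f g)
    (adjg : DCoh.Lpull g ⊣ DCoh.Rpush g) (adjg' : DCoh.Lpull g' ⊣ DCoh.Rpush g') :
    ∃ e : DCoh.Rpush g' ⋙ DCoh.Rpush f ≅ DCoh.Rpush f' ⋙ DCoh.Rpush g,
      ∀ E : DCoh.D X, DCoh.IsQCohD E → IsIso (DCoh.baseChangeApp adjg adjg' e E) := by
  refine ⟨eIso sq.w, fun E hE => ?_⟩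
  obtain ⟨K, hK⟩ := HomotopyCategory.quotient_obj_surjective
    ((DerivedCategory.Qh (C := X.Modules)).objPreimage E)
  let M := (KFlat.flatResolution X).obj K
  haveI := KFlat.flatResolution_quasiIso K
  haveI := KFlat.isIso_L₀_map ((KFlat.flatResolutionAug X).app K)
  let i : (L₀ X).obj M ≅ E := asIso ((L₀ X).map ((KFlat.flatResolutionAug X).app K)) ≪≫
    DerivedCategory.Qh.mapIso (eqToIso hK) ≪≫ DerivedCategory.Qh.objObjPreimageIso E
  haveI := isIso_baseChangeApp_L₀ sq htor (KFlat.flatResolution_isKFlat K)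
    (Groth.Misc4.QCohDPerf.isQCohD_of_iso i.symm hE)
  haveI : IsIso (DCoh.baseChangeApp adjg adjg' (eIso sq.w) ((L₀ X).obj M)) := by
    rw [baseChangeApp_adj adjg (lpullRpushAdj g) adjg' (lpullRpushAdj g')]
    exact IsIso.comp_isIso
  have h := baseChangeApp_naturality adjg adjg' (eIso sq.w) i.hom
  haveI : IsIso ((DCoh.Lpull g).map ((DCoh.Rpush f).map i.hom) ≫
      DCoh.baseChangeApp adjg adjg' (eIso sq.w) E) := by
    rw [h]; exact IsIso.comp_isIso
  exact IsIso.of_isIso_comp_left ((DCoh.Lpull g).map ((DCoh.Rpush f).map i.hom)) _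

end Square

end Groth.DerivedCoh.BaseChange
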