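import Groth.Agent.FlatCxBase.Core
import Groth.Prelude.Def_DRing2
import Mathlib.Algebra.Homology.HomologySequenceLemmas
import Mathlib.Algebra.Homology.Homotopy
import Mathlib.RingTheory.Localization.BaseChange

/-!
Maps of complexes of modules which localise the cohomology, and two-out-of-three for short exact rows.
-/

universe u

open CategoryTheory CategoryTheory.Limits HomologicalComplex

namespace Groth.DerivedCoh.BaseChange

local notation "up" => ComplexShape.up ℤ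

variable {B : Type u} [CommRing B]

/-- `φ` induces the localisation at `S` on cohomology, up to the invertibility of `S` on the target. -/
structure Loc (S : Submonoid B) {K L : DRing.Cx B} (φ : K ⟶ L) : Prop where
  inj : ∀ n z, K.d n (n + 1) z = 0 → ∀ w, L.d (n - 1) n w = φ.f n z →
    ∃ h ∈ S, ∃ v, K.d (n - 1) n v = h • z
  surj : ∀ n t, L.d n (n + 1) t = 0 →
    ∃ h ∈ S, ∃ z v, K.d n (n + 1) z = 0 ∧ φ.f n z + L.d (n - 1) n v = h • t

/-- `S` acts invertibly on the complex -/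
def Act (S : Submonoid B) (L : DRing.Cx B) : Prop :=
  ∀ h ∈ S, ∀ n, Function.Bijective fun x : L.X n => h • x

variable {K L M : DRing.Cx B} {φ : K ⟶ L}

lemma comm_apply (φ : K ⟶ L) (i j : ℤ) (x : K.X i) : L.d i j (φ.f i x) = φ.f j (K.d i j x) :=
  ConcreteCategory.congr_hom (φ.comm i j) x

theorem quasiIso_iff_cycles :
    QuasiIso φ ↔ ∀ n,
      (∀ z, K.d n (n + 1) z = 0 → (∃ w, L.d (n - 1) n w = φ.f n z) → ∃ v, K.d (n - 1) n v = z) ∧
      ∀ t, L.d n (n + 1) t = 0 → ∃ z v, K.d n (n + 1) z = 0 ∧ φ.f n z + L.d (n - 1) n v = t := by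
  rw [quasiIso_iff]
  refine forall_congr' fun n => ?_
  have hp : (up).prev n = n - 1 := (up).prev_eq' (by simp)
  have hn : (up).next n = n + 1 := (up).next_eq' (by simp)
  rw [quasiIsoAt_iff_isIso_homologyMap, ConcreteCategory.isIso_iff_bijective]
  exact and_congr (FlatCxBase.homologyMap_injective_iff φ hp hn) (FlatCxBase.homologyMap_surjective_iff φ hp hn)

theorem loc_bot_iff : Loc ⊥ φ ↔ QuasiIso φ := by
  rw [quasiIso_iff_cycles]
  constructor
  · intro h n
    refine ⟨fun z hz ⟨w, hw⟩ => ?_, fun t ht => ?_⟩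
    · obtain ⟨r, rfl : r = 1, v, hv⟩ := h.inj n z hz w hw
      exact ⟨v, hv.trans (one_smul _ _)⟩
    · obtain ⟨r, rfl : r = 1, z, v, hz, hv⟩ := h.surj n t ht
      exact ⟨z, v, hz, hv.trans (one_smul _ _)⟩
  · refine fun h => ⟨fun n z hz w hw => ?_, fun n t ht => ?_⟩
    · obtain ⟨v, hv⟩ := (h n).1 z hz ⟨w, hw⟩
      exact ⟨1, one_mem _, v, hv.trans (one_smul _ _).symm⟩
    · obtain ⟨z, v, hz, hv⟩ := (h n).2 t ht
      exact ⟨1, one_mem _, z, v, hz, hv.trans (one_smul _ _).symm⟩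

variable {S : Submonoid B}

lemma Loc.of_le {S' : Submonoid B} (h : Loc S φ) (hS : S ≤ S') : Loc S' φ :=
  ⟨fun n z hz w hw => by
    obtain ⟨r, hr, h2⟩ := h.inj n z hz w hw
    exact ⟨r, hS hr, h2⟩,
  fun n t ht => by
    obtain ⟨r, hr, h2⟩ := h.surj n t ht
    exact ⟨r, hS hr, h2⟩⟩

theorem Loc.comp_quasiIso (h : Loc S φ) (β : L ⟶ M) [QuasiIso β] : Loc S (φ ≫ β) := by
  have hb := quasiIso_iff_cycles.1 (inferInstance : QuasiIso β)
  refine ⟨fun n z hz w hw => ?_, fun n t ht => ?_⟩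
  · obtain ⟨v, hv⟩ := (hb n).1 (φ.f n z) (by rw [comm_apply, hz, map_zero]) ⟨w, hw⟩
    exact h.inj n z hz v hv
  · obtain ⟨y, v, hy, hv⟩ := (hb n).2 t ht
    obtain ⟨r, hr, z, u, hz, hu⟩ := h.surj n y hy
    refine ⟨r, hr, z, β.f (n - 1) u + r • v, hz, ?_⟩
    rw [map_add, map_smul, comm_apply, ← hv, smul_add, ← map_smul (β.f n).hom, ← hu, map_add, comp_f,
      ModuleCat.comp_apply]
    exact (add_assoc _ _ _).symm

theorem Loc.quasiIso_comp {A : DRing.Cx B} (α : A ⟶ K) [QuasiIso α] (h : Loc S φ) : Loc S (α ≫ φ) := by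
  have ha := quasiIso_iff_cycles.1 (inferInstance : QuasiIso α)
  refine ⟨fun n z hz w hw => ?_, fun n t ht => ?_⟩
  · obtain ⟨r, hr, v, hv⟩ := h.inj n (α.f n z) (by rw [comm_apply, hz, map_zero]) w hw
    refine ⟨r, hr, (ha n).1 (r • z) (by rw [map_smul, hz, smul_zero]) ⟨v, ?_⟩⟩
    rw [hv, map_smul]
  · obtain ⟨r, hr, z, v, hz, hv⟩ := h.surj n t ht
    obtain ⟨y, u, hy, hu⟩ := (ha n).2 z hz
    refine ⟨r, hr, y, φ.f (n - 1) u + v, hy, ?_⟩
    rw [map_add, comm_apply, ← hv, ← hu, map_add, comp_f, ModuleCat.comp_apply]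
    exact (add_assoc _ _ _).symm

theorem Loc.of_quasiIso_comp {A : DRing.Cx B} (α : A ⟶ K) [QuasiIso α] (h : Loc S (α ≫ φ)) : Loc S φ := by
  have ha := quasiIso_iff_cycles.1 (inferInstance : QuasiIso α)
  refine ⟨fun n z hz w hw => ?_, fun n t ht => ?_⟩
  · obtain ⟨y, u, hy, rfl⟩ := (ha n).2 z hz
    obtain ⟨r, hr, v, hv⟩ := h.inj n y hy (w - φ.f (n - 1) u) (by
      rw [map_sub, comm_apply, hw, map_add, comp_f, ModuleCat.comp_apply, add_sub_cancel_right])
    refine ⟨r, hr, α.f (n - 1) v + r • u, ?_⟩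
    rw [map_add, map_smul, comm_apply, hv, map_smul, smul_add]
  · obtain ⟨r, hr, z, v, hz, hv⟩ := h.surj n t ht
    exact ⟨r, hr, α.f n z, v, by rw [comm_apply, hz, map_zero], hv⟩

theorem Loc.homotopy {ψ : K ⟶ L} (h : Loc S φ) (H : Homotopy φ ψ) : Loc S ψ := by
  have key : ∀ n (z : K.X n), K.d n (n + 1) z = 0 →
      φ.f n z = L.d (n - 1) n (H.hom n (n - 1) z) + ψ.f n z := fun n z hz => by
    have e := ConcreteCategory.congr_hom (H.comm n) z
    rw [dNext_eq _ (show (up).Rel n (n + 1) by simp), prevD_eq _ (show (up).Rel (n - 1) n by simp)] at e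
    rw [e]
    simp [hz]
  refine ⟨fun n z hz w hw => ?_, fun n t ht => ?_⟩
  · exact h.inj n z hz (w + H.hom n (n - 1) z) (by rw [map_add, hw, key n z hz, add_comm])
  · obtain ⟨r, hr, z, v, hz, hv⟩ := h.surj n t ht
    refine ⟨r, hr, z, H.hom n (n - 1) z + v, hz, ?_⟩
    rw [map_add, ← hv, key n z hz, ← add_assoc, add_comm (ψ.f n z)]

theorem quasiIso_of_loc {K' : DRing.Cx B} {ι : K ⟶ K'} {ψ : K' ⟶ L} (hK : Act S K') (hL : Act S L)
    (hι : Loc S ι) (h : Loc S (ι ≫ ψ)) : QuasiIso ψ := by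
  rw [quasiIso_iff_cycles]
  refine fun n => ⟨fun z hz ⟨w, hw⟩ => ?_, fun t ht => ?_⟩
  · obtain ⟨r, hr, y, v, hy, hv⟩ := hι.surj n z hz
    obtain ⟨s, hs, u, hu⟩ := h.inj n y hy (r • w - ψ.f (n - 1) v) (by
      rw [map_sub, map_smul, hw, comm_apply, ← map_smul (ψ.f n).hom, ← hv, map_add, add_sub_cancel_right,
        comp_f, ModuleCat.comp_apply])
    obtain ⟨x, hx⟩ := (hK _ (mul_mem hs hr) (n - 1)).2 (ι.f (n - 1) u + s • v)
    refine ⟨x, (hK _ (mul_mem hs hr) n).1 ?_⟩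
    show (s * r) • K'.d (n - 1) n x = (s * r) • z
    rw [← map_smul, show (s * r) • x = _ from hx, map_add, map_smul, comm_apply, hu, map_smul, ← smul_add,
      hv, mul_smul]
  · obtain ⟨r, hr, z, v, hz, hv⟩ := h.surj n t ht
    obtain ⟨z', hz'⟩ := (hK _ hr n).2 (ι.f n z)
    obtain ⟨v', hv'⟩ := (hL _ hr (n - 1)).2 v
    refine ⟨z', v', (hK _ hr (n + 1)).1 ?_, (hL _ hr n).1 ?_⟩
    · show r • K'.d n (n + 1) z' = r • (0 : K'.X (n + 1))
      rw [← map_smul, show r • z' = _ from hz', comm_apply, hz, map_zero, smul_zero]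
    · show r • (ψ.f n z' + L.d (n - 1) n v') = r • t
      rw [smul_add, ← map_smul, ← map_smul, show r • z' = _ from hz', show r • v' = _ from hv', ← hv]
      rfl

theorem loc_of_isLocalizedModule {K' : DRing.Cx B} (ι : K ⟶ K')
    (h : ∀ n, IsLocalizedModule S (ι.f n).hom) : Loc S ι ∧ Act S K' := by
  refine ⟨⟨fun n z hz w hw => ?_, fun n t ht => ?_⟩, fun r hr n => ?_⟩
  · obtain ⟨⟨v, s, hs⟩, hv⟩ := IsLocalizedModule.surj S (ι.f (n - 1)).hom w
    obtain ⟨⟨c, hc⟩, e⟩ := IsLocalizedModule.exists_of_eq (S := S) (f := (ι.f n).hom)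
      (x₁ := K.d (n - 1) n v) (x₂ := s • z) (by
        rw [map_smul]
        exact (comm_apply ι _ _ v).symm.trans ((congrArg (K'.d (n - 1) n) hv.symm).trans
          ((map_smul (K'.d (n - 1) n).hom s w).trans (congrArg (s • ·) hw))))
    refine ⟨c * s, mul_mem hc hs, c • v, ?_⟩
    rw [map_smul, mul_smul]
    exact e
  · obtain ⟨⟨z, s, hs⟩, hz⟩ := IsLocalizedModule.surj S (ι.f n).hom t
    obtain ⟨⟨c, hc⟩, e⟩ := IsLocalizedModule.exists_of_eq (S := S) (f := (ι.f (n + 1)).hom)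
      (x₁ := K.d n (n + 1) z) (x₂ := 0) (by
        rw [map_zero]
        exact (comm_apply ι _ _ z).symm.trans ((congrArg (K'.d n (n + 1)) hz.symm).trans
          ((map_smul (K'.d n (n + 1)).hom s t).trans (by rw [ht, smul_zero]))))
    refine ⟨c * s, mul_mem hc hs, c • z, 0, ?_, ?_⟩
    · rw [map_smul]
      exact e.trans (smul_zero c)
    · rw [map_zero, add_zero, map_smul, mul_smul]
      exact congrArg (c • ·) hz.symm
  · exact (Module.End.isUnit_iff _).1 (IsLocalizedModule.map_units (S := S) (ι.f n).hom ⟨r, hr⟩)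

/-! ### Short exact rows -/

section Rows

variable {S₁ S₂ : ShortComplex (DRing.Cx B)} (φ : S₁ ⟶ S₂) (h₁ : S₁.ShortExact) (h₂ : S₂.ShortExact)
include h₁ h₂

open HomologicalComplex.HomologySequence ComposableArrows in
theorem quasiIso_τ₁ (h2 : QuasiIso φ.τ₂) (h3 : QuasiIso φ.τ₃) : QuasiIso φ.τ₁ := by
  rw [quasiIso_iff]
  intro i
  rw [quasiIsoAt_iff_isIso_homologyMap]
  have hij : (up).Rel (i - 1) i := by simp
  exact Abelian.isIso_of_epi_of_isIso_of_isIso_of_mono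
    ((composableArrows₅_exact h₁ (i - 1) i hij).δ₀) ((composableArrows₅_exact h₂ (i - 1) i hij).δ₀)
    (δ₀Functor.map (mapComposableArrows₅ φ h₁ h₂ (i - 1) i hij))
    (show Epi (homologyMap φ.τ₂ (i - 1)) from inferInstance)
    (show IsIso (homologyMap φ.τ₃ (i - 1)) from inferInstance)
    (show IsIso (homologyMap φ.τ₂ i) from inferInstance)
    (show Mono (homologyMap φ.τ₃ i) from inferInstance)

open HomologicalComplex.HomologySequence ComposableArrows in
theorem quasiIso_τ₂ (h1 : QuasiIso φ.τ₁) (h3 : QuasiIso φ.τ₃) : QuasiIso φ.τ₂ := by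
  rw [quasiIso_iff]
  intro i
  rw [quasiIsoAt_iff_isIso_homologyMap]
  have hij : (up).Rel (i - 1) i := by simp
  have hij' : (up).Rel i (i + 1) := by simp
  have : Mono (homologyMap φ.τ₂ i) := Abelian.mono_of_epi_of_mono_of_mono
    ((δ₀Functor ⋙ δ₀Functor).map (mapComposableArrows₅ φ h₁ h₂ (i - 1) i hij))
    ((composableArrows₅_exact h₁ (i - 1) i hij).δ₀.δ₀) ((composableArrows₅_exact h₂ (i - 1) i hij).δ₀.δ₀)
    (show Epi (homologyMap φ.τ₃ (i - 1)) from inferInstance)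
    (show Mono (homologyMap φ.τ₁ i) from inferInstance)
    (show Mono (homologyMap φ.τ₃ i) from inferInstance)
  have : Epi (homologyMap φ.τ₂ i) := Abelian.epi_of_epi_of_epi_of_mono
    ((δlastFunctor ⋙ δlastFunctor).map (mapComposableArrows₅ φ h₁ h₂ i (i + 1) hij'))
    ((composableArrows₅_exact h₁ i (i + 1) hij').δlast.δlast)
    ((composableArrows₅_exact h₂ i (i + 1) hij').δlast.δlast)
    (show Epi (homologyMap φ.τ₁ i) from inferInstance)
    (show Epi (homologyMap φ.τ₃ i) from inferInstance)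
    (show Mono (homologyMap φ.τ₁ (i + 1)) from inferInstance)
  exact isIso_of_mono_of_epi _

end Rows

end Groth.DerivedCoh.BaseChange
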