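import Groth.Agent.DerivedCoh.BaseChange.Affine
import Groth.Agent.DAlg.Semifree
import Groth.Agent.CohBase.MayerVietoris
import Mathlib.RingTheory.Flat.CategoryTheory

/-!
Base change for the sections of a complex over preimages of affine opens of the base.
-/

universe u

open CategoryTheory CategoryTheory.Limits AlgebraicGeometry HomologicalComplex TopologicalSpace Opposite
open MonoidalCategory
open scoped ChangeOfRings

namespace Groth.DerivedCoh.BaseChange

open Groth.DerivedCoh.KFlat (stk pushCx)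
open Groth.QCohMod (res resFun germ germ_res)
open DAlg KFlatMod

attribute [local instance] HasDerivedCategory.standard
set_option linter.style.haveILetI false

local notation "up" => ComplexShape.up ℤ

section Tensor

variable {A B : Type u} [CommRing A] [CommRing B] (φ : A →+* B)

/-- `B` as a module over `A` -/
noncomputable abbrev BA : ModuleCat.{u} A := (ModuleCat.restrictScalars φ).obj (ModuleCat.of B B)

/-- a flat resolution of `B` over `A` -/
noncomputable abbrev PB : DRing.Cx A := (resFunctor A).obj ((single (ModuleCat.{u} A) up 0).obj (BA φ))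

/-- `B ⊗_A M` in the two ways -/
noncomputable def tensorExtEquiv (M : ModuleCat.{u} A) :
    ((T A).obj (BA φ)).obj M ≃+ (ModuleCat.extendScalars φ ⋙ ModuleCat.restrictScalars φ).obj M :=
  AddEquiv.refl _

/-- `B ⊗_A -` in the two ways -/
noncomputable def tensorExt : (T A).obj (BA φ) ⟶ ModuleCat.extendScalars φ ⋙ ModuleCat.restrictScalars φ where
  app M := ModuleCat.ofHom (X := ((T A).obj (BA φ)).obj M)
    (Y := (ModuleCat.extendScalars φ ⋙ ModuleCat.restrictScalars φ).obj M)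
    { toFun := tensorExtEquiv φ M
      map_add' := map_add (tensorExtEquiv φ M)
      map_smul' := fun r z => by
        induction z using TensorProduct.induction_on with
        | zero => rw [smul_zero, map_zero]; exact (smul_zero r).symm
        | tmul b m => rfl
        | add x y hx hy =>
          rw [smul_add, map_add, map_add]
          exact (congrArg₂ (· + ·) hx hy).trans (smul_add r _ _).symm }
  naturality M N g := by
    refine ModuleCat.hom_ext (LinearMap.ext fun z => ?_)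
    induction z using TensorProduct.induction_on with
    | zero => exact (map_zero _).trans (map_zero _).symm
    | tmul b m => rfl
    | add x y hx hy => exact (map_add _ x y).trans ((congrArg₂ (· + ·) hx hy).trans (map_add _ x y).symm)

instance (M : ModuleCat.{u} A) : IsIso ((tensorExt φ).app M) :=
  (ConcreteCategory.isIso_iff_bijective _).2 Function.bijective_id

/-- the same for complexes -/
noncomputable def tensorExtCx :
    ((T A).obj (BA φ)).mapHomologicalComplex up ⟶ exCx φ ⋙ rsCx φ where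
  app K :=
    { f := fun n => (tensorExt φ).app (K.X n)
      comm' := fun i j _ => ((tensorExt φ).naturality (K.d i j)).symm }
  naturality _ _ g := HomologicalComplex.hom_ext _ _ fun n => (tensorExt φ).naturality (g.f n)

instance (K : DRing.Cx A) : IsIso ((tensorExtCx φ).app K) :=
  haveI : ∀ n, IsIso (((tensorExtCx φ).app K).f n) := fun n =>
    inferInstanceAs (IsIso ((tensorExt φ).app (K.X n)))
  HomologicalComplex.Hom.isIso_of_components _

lemma biSingleTensorIso_natural (N : ModuleCat.{u} A) {K K' : DRing.Cx A} (a : K ⟶ K') :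
    ((KFlat.Bi (T A)).obj ((single _ up 0).obj N)).map a ≫ (KFlat.biSingleTensorIso (T A) N K').hom =
      (KFlat.biSingleTensorIso (T A) N K).hom ≫
        KFlat.Cover.biSingle.map ((((T A).obj N).mapHomologicalComplex up).map a) := by
  refine HomologicalComplex.to_single_hom_ext ?_
  simp [KFlat.biSingleTensorIso, KFlat.Cover.biSingle]
  refine HomologicalComplex.hom_ext _ _ fun q => ?_
  exact ((T A).map (singleObjXSelf up 0 N).hom).naturality (a.f q)

/-- `B` in degree zero -/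
noncomputable abbrev SB0 : DRing.Cx A := (single (ModuleCat.{u} A) up 0).obj (BA φ)

/-- the augmentation, tensored -/
noncomputable def augT (K : DRing.Cx A) :
    (KFlat.totR (T A) (PB φ)).obj K ⟶ (KFlat.totR (T A) (SB0 φ)).obj K :=
  (KFlat.totL (T A) K).map ((resAug A).app (SB0 φ))

/-- tensoring with a module in degree zero -/
noncomputable def singleT (K : DRing.Cx A) :
    (KFlat.totR (T A) (SB0 φ)).obj K ≅ (((T A).obj (BA φ)).mapHomologicalComplex up).obj K :=
  KFlat.totSingleIso (T A) (BA φ) K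

lemma augT_natural {K K' : DRing.Cx A} (a : K ⟶ K') :
    (KFlat.totR (T A) (PB φ)).map a ≫ augT φ K' = augT φ K ≫ (KFlat.totR (T A) (SB0 φ)).map a :=
  ((T A).map₂CochainComplex.map ((resAug A).app (SB0 φ))).naturality a

lemma singleT_natural {K K' : DRing.Cx A} (a : K ⟶ K') :
    (KFlat.totR (T A) (SB0 φ)).map a ≫ (singleT φ K').hom =
      (singleT φ K).hom ≫ (((T A).obj (BA φ)).mapHomologicalComplex up).map a := by
  have h := (HomologicalComplex₂.totalFunctor (ModuleCat.{u} A) up up up).congr_map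
    (biSingleTensorIso_natural (BA φ) a)
  rw [Functor.map_comp, Functor.map_comp] at h
  have h2 := (KFlat.totRIso (T A) (SB0 φ)).hom.naturality a
  simp only [KFlat.totRIso, NatIso.ofComponents_hom_app, Iso.refl_hom] at h2
  have h3 := KFlat.Cover.totalSingleIso.hom.naturality ((((T A).obj (BA φ)).mapHomologicalComplex up).map a)
  erw [Category.comp_id, Category.id_comp] at h2
  simp only [singleT, KFlat.totSingleIso, Iso.trans_hom, Functor.mapIso_hom, Iso.app_hom, h2]
  erw [← Category.assoc, h, Category.assoc, h3]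
  rfl

/-- the derived tensor product computed by the resolution of `B` to the naive one -/
noncomputable def etaT (K : DRing.Cx A) :
    (KFlat.totR (T A) (PB φ)).obj K ⟶ (rsCx φ).obj ((exCx φ).obj K) :=
  augT φ K ≫ (singleT φ K).hom ≫ (tensorExtCx φ).app K

lemma etaT_natural {K K' : DRing.Cx A} (a : K ⟶ K') :
    (KFlat.totR (T A) (PB φ)).map a ≫ etaT φ K' = etaT φ K ≫ (rsCx φ).map ((exCx φ).map a) := by
  rw [etaT, etaT, ← Category.assoc, augT_natural, Category.assoc, ← Category.assoc _ (singleT φ K').hom,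
    singleT_natural, Category.assoc, (tensorExtCx φ).naturality a]
  simp only [Category.assoc]
  rfl

lemma quasiIso_etaT (Q : DRing.Cx A) [Q.IsKProjective] : QuasiIso (etaT φ Q) := by
  haveI := resAug_quasiIso (R := A) (SB0 φ)
  haveI : QuasiIso (augT φ Q) :=
    (isKFlatCx_iff.1 (isKFlatCx_of_isKProjective Q)).quasiIso_totL ((resAug A).app (SB0 φ))
  rw [etaT]
  infer_instance

variable {K : DRing.Cx A} {L : DRing.Cx B}

/-- the derived adjunct -/
noncomputable def psi (σ : K ⟶ (rsCx φ).obj L) : (KFlat.totR (T A) (PB φ)).obj K ⟶ (rsCx φ).obj L :=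
  etaT φ K ≫ (rsCx φ).map (tr φ σ)

lemma tr_comp {Q : DRing.Cx A} {L L' : DRing.Cx B} (g : Q ⟶ (rsCx φ).obj L) (b : L ⟶ L') :
    tr φ g ≫ b = tr φ (g ≫ (rsCx φ).map b) :=
  ((trAdj φ).homEquiv_naturality_right_symm g b).symm

lemma psi_natural {K' : DRing.Cx A} {L' : DRing.Cx B} (σ : K ⟶ (rsCx φ).obj L)
    (σ' : K' ⟶ (rsCx φ).obj L') (a : K ⟶ K') (b : L ⟶ L') (h : a ≫ σ' = σ ≫ (rsCx φ).map b) :
    (KFlat.totR (T A) (PB φ)).map a ≫ psi φ σ' = psi φ σ ≫ (rsCx φ).map b := by
  rw [psi, psi, reassoc_of% (etaT_natural φ a), Category.assoc, ← Functor.map_comp, ← Functor.map_comp,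
    map_tr, tr_comp, h]

lemma quasiIso_psi_iff (σ : K ⟶ (rsCx φ).obj L) (Q : DRing.Cx A) [Q.IsKProjective] (q : Q ⟶ K)
    [QuasiIso q] : QuasiIso (psi φ σ) ↔ QuasiIso (tr φ (q ≫ σ)) := by
  haveI := quasiIso_etaT φ Q
  haveI : QuasiIso ((KFlat.totR (T A) (PB φ)).map q) :=
    KFlat.quasiIso_totR (T A) (isKFlat_flip (isKFlatCx_iff.1 (res_isKFlat _))) q
  have e : (KFlat.totR (T A) (PB φ)).map q ≫ psi φ σ = etaT φ Q ≫ (rsCx φ).map (tr φ (q ≫ σ)) := by
    rw [psi, reassoc_of% (etaT_natural φ q), ← Functor.map_comp, map_tr]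
  constructor
  · intro h
    haveI := h
    haveI : QuasiIso (etaT φ Q ≫ (rsCx φ).map (tr φ (q ≫ σ))) := e ▸ inferInstance
    exact (quasiIso_rsCx_iff φ _).1 (quasiIso_of_comp_left (etaT φ Q) _)
  · intro h
    haveI := (quasiIso_rsCx_iff φ (tr φ (q ≫ σ))).2 h
    haveI : QuasiIso ((KFlat.totR (T A) (PB φ)).map q ≫ psi φ σ) := e.symm ▸ inferInstance
    exact quasiIso_of_comp_left ((KFlat.totR (T A) (PB φ)).map q) _

lemma shortExact_totR_PB {S : ShortComplex (DRing.Cx A)} (h : S.ShortExact) :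
    (S.map (KFlat.totR (T A) (PB φ))).ShortExact := by
  refine KFlat.shortExact_totR (T A) (PB φ) S fun p q => ?_
  haveI := res_flat ((single (ModuleCat.{u} A) up 0).obj (BA φ)) p
  have hq : (S.map (HomologicalComplex.eval _ up q)).ShortExact := h.map_of_exact _
  exact
    { exact := Module.Flat.lTensor_shortComplex_exact _ _ hq.exact
      mono_f := (ModuleCat.mono_iff_injective _).2
        (Module.Flat.lTensor_preserves_injective_linearMap _ ((ModuleCat.mono_iff_injective _).1 hq.mono_f))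
      epi_g := (ModuleCat.epi_iff_surjective _).2
        (LinearMap.lTensor_surjective _ ((ModuleCat.epi_iff_surjective _).1 hq.epi_g)) }

lemma shortExact_rsCx {S : ShortComplex (DRing.Cx B)} (h : S.ShortExact) :
    (S.map (rsCx φ)).ShortExact :=
  HomologicalComplex.shortExact_of_degreewise_shortExact _ fun n =>
    (h.map_of_exact (HomologicalComplex.eval _ up n)).map_of_exact (ModuleCat.restrictScalars.{u} φ)

/-- the row map induced by the derived adjuncts -/
noncomputable def psiRow {S₁ : ShortComplex (DRing.Cx A)} {S₂ : ShortComplex (DRing.Cx B)}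
    (s₁ : S₁.X₁ ⟶ (rsCx φ).obj S₂.X₁) (s₂ : S₁.X₂ ⟶ (rsCx φ).obj S₂.X₂)
    (s₃ : S₁.X₃ ⟶ (rsCx φ).obj S₂.X₃) (hf : S₁.f ≫ s₂ = s₁ ≫ (rsCx φ).map S₂.f)
    (hg : S₁.g ≫ s₃ = s₂ ≫ (rsCx φ).map S₂.g) :
    S₁.map (KFlat.totR (T A) (PB φ)) ⟶ S₂.map (rsCx φ) where
  τ₁ := psi φ s₁
  τ₂ := psi φ s₂
  τ₃ := psi φ s₃
  comm₁₂ := (psi_natural φ s₁ s₂ S₁.f S₂.f hf).symm
  comm₂₃ := (psi_natural φ s₂ s₃ S₁.g S₂.g hg).symm

/-- two Mayer–Vietoris rows with a common kernel -/
theorem quasiIso_psi_mv {KT KU KW KO : DRing.Cx A} {LT LU LW LO : DRing.Cx B}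
    (sT : KT ⟶ (rsCx φ).obj LT) (sU : KU ⟶ (rsCx φ).obj LU) (sW : KW ⟶ (rsCx φ).obj LW)
    (sO : KO ⟶ (rsCx φ).obj LO)
    {K₀ : DRing.Cx A} {L₀ : DRing.Cx B} (i : K₀ ⟶ KT) (rU : KT ⟶ KU) (wi : i ≫ rU = 0)
    (i' : K₀ ⟶ KW) (rO : KW ⟶ KO) (wi' : i' ≫ rO = 0) (rW : KT ⟶ KW) (hi : i ≫ rW = i')
    (j : L₀ ⟶ LT) (pU : LT ⟶ LU) (wj : j ≫ pU = 0)
    (j' : L₀ ⟶ LW) (pO : LW ⟶ LO) (wj' : j' ≫ pO = 0) (pW : LT ⟶ LW) (hj : j ≫ pW = j')
    (hK : (ShortComplex.mk i rU wi).ShortExact) (hK' : (ShortComplex.mk i' rO wi').ShortExact)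
    (hL : (ShortComplex.mk j pU wj).ShortExact) (hL' : (ShortComplex.mk j' pO wj').ShortExact)
    (cU : rU ≫ sU = sT ≫ (rsCx φ).map pU) (cO : rO ≫ sO = sW ≫ (rsCx φ).map pO)
    (cW : rW ≫ sW = sT ≫ (rsCx φ).map pW)
    (hU : QuasiIso (psi φ sU)) (hW : QuasiIso (psi φ sW)) (hO : QuasiIso (psi φ sO)) :
    QuasiIso (psi φ sT) := by
  have h := shortExact_rsCx φ hL
  haveI := h.mono_f
  let s₀ : K₀ ⟶ (rsCx φ).obj L₀ := h.exact.fIsKernel.lift (KernelFork.ofι (i ≫ sT) (by
    show (i ≫ sT) ≫ (rsCx φ).map pU = 0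
    rw [Category.assoc, ← cU, ← Category.assoc, wi, zero_comp]))
  have hs : s₀ ≫ (rsCx φ).map j = i ≫ sT := h.exact.fIsKernel.fac _ WalkingParallelPair.zero
  have hs' : s₀ ≫ (rsCx φ).map j' = i' ≫ sW := by
    rw [← hj, ← hi, Category.assoc, cW, Functor.map_comp, reassoc_of% hs]
  have h0 : QuasiIso (psi φ s₀) :=
    quasiIso_τ₁ (psiRow φ (S₁ := ShortComplex.mk i' rO wi') (S₂ := ShortComplex.mk j' pO wj') s₀ sW sO hs'.symm cO)
      (shortExact_totR_PB φ hK') (shortExact_rsCx φ hL') hW hO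
  exact quasiIso_τ₂ (psiRow φ (S₁ := ShortComplex.mk i rU wi) (S₂ := ShortComplex.mk j pU wj) s₀ sT sU hs.symm cU)
    (shortExact_totR_PB φ hK) (shortExact_rsCx φ hL) h0 hU

end Tensor

section MV

variable {X S : Scheme.{u}} (f : X ⟶ S) {V : S.Opens}

/-- the sections of flasque complexes form Mayer–Vietoris rows -/
theorem exists_rows {C : CochainComplex X.Modules ℤ} (hC : Nice C) {U W : X.Opens}
    (eT : U ⊔ W ≤ f ⁻¹ᵁ V) {T' U' W' O' : X.Opens} (eT' : T' ≤ f ⁻¹ᵁ V) (eU' : U' ≤ f ⁻¹ᵁ V)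
    (eW' : W' ≤ f ⁻¹ᵁ V) (eO' : O' ≤ f ⁻¹ᵁ V) (hT : T' = U' ⊔ W') (hO : O' = U' ⊓ W')
    (h₁ : U' ≤ T') (h₂ : W' ≤ T') (h₃ : O' ≤ U') (h₄ : O' ≤ W') :
    ∃ (K : DRing.Cx Γ(S, V)) (i : K ⟶ (secCx f eT').obj C) (i' : K ⟶ (secCx f eW').obj C)
      (wi : i ≫ (secRes f eT' eU' h₁).app C = 0) (wi' : i' ≫ (secRes f eW' eO' h₄).app C = 0),
      i ≫ (secRes f eT' eW' h₂).app C = i' ∧
        (ShortComplex.mk i ((secRes f eT' eU' h₁).app C) wi).ShortExact ∧
        (ShortComplex.mk i' ((secRes f eW' eO' h₄).app C) wi').ShortExact := by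
  let rU := (secRes f eT' eU' h₁).app C
  let rW := (secRes f eT' eW' h₂).app C
  let rO := (secRes f eW' eO' h₄).app C
  have hmv := fun n => Groth.CohBase.FlatBC.sec_mv (C.X n) (hC.flq n) hT hO h₁ h₂ h₃ h₄
  have hsquare : rW ≫ rO = rU ≫ (secRes f eU' eO' h₃).app C := by
    refine HomologicalComplex.hom_ext _ _ fun n => ModuleCat.hom_ext (LinearMap.ext fun s => ?_)
    exact (Groth.QCohMod.res_res (C.X n) h₂ h₄ _).trans (Groth.QCohMod.res_res (C.X n) h₁ h₃ _).symm
  have hepi : ∀ n, Epi (rU.f n) := fun n =>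
    (ModuleCat.epi_iff_surjective _).2 (hC.flq n T' U' h₁)
  haveI : Epi rU := HomologicalComplex.epi_of_epi_f _ hepi
  have hS : (ShortComplex.mk (kernel.ι rU) rU (kernel.condition _)).ShortExact :=
    { exact := ShortComplex.exact_of_f_is_kernel _ (kernelIsKernel rU) }
  have wi' : (kernel.ι rU ≫ rW) ≫ rO = 0 := by
    rw [Category.assoc, hsquare, ← Category.assoc, kernel.condition, zero_comp]
  refine ⟨kernel rU, kernel.ι rU, kernel.ι rU ≫ rW, kernel.condition _, wi', rfl, hS, ?_⟩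
  refine HomologicalComplex.shortExact_of_degreewise_shortExact _ fun n => ?_
  have hn := hS.map_of_exact (HomologicalComplex.eval _ up n)
  have hinj := (ModuleCat.mono_iff_injective _).1 hn.mono_f
  refine { exact := ?_, mono_f := ?_, epi_g := ?_ }
  · rw [ShortComplex.moduleCat_exact_iff]
    intro y hy
    obtain ⟨t, ht1, ht2⟩ := ((hmv n).2.2 0 (show Γ(C.X n, W') from y)).1
      ((map_zero (res (C.X n) h₃)).trans hy.symm)
    obtain ⟨k, hk⟩ := (ShortComplex.moduleCat_exact_iff _).1 hn.exact t ht1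
    refine ⟨k, ?_⟩
    exact (congrArg (rW.f n) hk).trans ht2
  · refine (ModuleCat.mono_iff_injective _).2 ((injective_iff_map_eq_zero _).2 fun k hk => hinj ?_)
    refine ((hmv n).1 (Prod.ext ?_ ?_)).trans (map_zero _).symm
    · exact (ConcreteCategory.congr_hom (HomologicalComplex.congr_hom (kernel.condition rU) n) k).trans (map_zero _).symm
    · exact hk.trans (map_zero _).symm
  · exact (ModuleCat.epi_iff_surjective _).2 (hC.flq n W' O' h₄)

end MV

end Groth.DerivedCoh.BaseChange
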