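import Groth.Agent.DerivedCoh.BaseChange.Main
import Groth.Agent.CohBase.FlatBC.QCQS

/-!
Base change for complexes of sections: the affine case and the induction over quasi-compact opens.
-/

universe u

open CategoryTheory CategoryTheory.Limits AlgebraicGeometry HomologicalComplex TopologicalSpace Opposite
open scoped ChangeOfRings

namespace Groth.DerivedCoh.BaseChange

open Groth.DerivedCoh.KFlat (stk pushCx)
open Groth.QCohMod (res resFun germ germ_res)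
open DAlg KFlatMod

attribute [local instance] HasDerivedCategory.standard
set_option linter.style.haveILetI false

local notation "up" => ComplexShape.up ℤ

variable {X S X' S' : Scheme.{u}} {f : X ⟶ S} {g : S' ⟶ S} {g' : X' ⟶ X} {f' : X' ⟶ S'}

/-- Tor independence on affine opens. -/
def TorInd (f : X ⟶ S) (g : S' ⟶ S) : Prop :=
  ∀ (V : S.Opens), IsAffineOpen V → ∀ (V' : S'.Opens), IsAffineOpen V' → ∀ (e : V' ≤ g ⁻¹ᵁ V)
    (U : X.Opens), IsAffineOpen U → ∀ (eU : U ≤ f ⁻¹ᵁ V), TI (g.appLE V V' e).hom (f.appLE V U eU).hom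

variable (g') in
/-- A map of nice complexes `C ⟶ g'_* D` which induces base change on stalks. -/
structure BCData {C : CochainComplex X.Modules ℤ} {D : CochainComplex X'.Modules ℤ}
    (lam : C ⟶ (pushCx g').obj D) : Prop where
  niceC : Nice C
  niceD : Nice D
  qc : DCoh.IsQCohD (DerivedCategory.Q.obj C)
  stalk : ∀ x' : X', ∃ (Ps : DRing.Cx (X.presheaf.stalk (g' x'))) (η : Ps ⟶ (stkCx (g' x')).obj C),
    KFlat.IsKFlat (T (X.presheaf.stalk (g' x'))) Ps ∧ QuasiIso η ∧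
      QuasiIso (tr (g'.stalkMap x').hom (η ≫ stkLam g' x' lam))

/-- sections over functions on the open itself, seen over the base -/
noncomputable def idEquiv (f : X ⟶ S) {V : S.Opens} {U : X.Opens} (eU : U ≤ f ⁻¹ᵁ V) (M : X.Modules) :
    (secF (𝟙 X) (idle U) ⋙ ModuleCat.restrictScalars (f.appLE V U eU).hom).obj M ≃+ (secF f eU).obj M :=
  AddEquiv.refl _

lemma idEquiv_smul (f : X ⟶ S) {V : S.Opens} {U : X.Opens} (eU : U ≤ f ⁻¹ᵁ V) (M : X.Modules) (r : Γ(S, V))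
    (m : (secF (𝟙 X) (idle U) ⋙ ModuleCat.restrictScalars (f.appLE V U eU).hom).obj M) :
    idEquiv f eU M (r • m) = r • idEquiv f eU M m := by
  show (𝟙 X : X ⟶ X).appLE U U (idle U) (f.appLE V U eU r) • (show Γ(M, U) from m) =
    f.appLE V U eU r • (show Γ(M, U) from m)
  rw [id_appLE_apply]

/-- complexes of sections over the open itself, seen over the base -/
noncomputable def idCx (f : X ⟶ S) {V : S.Opens} {U : X.Opens} (eU : U ≤ f ⁻¹ᵁ V)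
    (C : CochainComplex X.Modules ℤ) :
    (rsCx (f.appLE V U eU).hom).obj ((secCx (𝟙 X) (idle U)).obj C) ≅ (secCx f eU).obj C :=
  HomologicalComplex.Hom.isoOfComponents
    (fun n => ((idEquiv f eU (C.X n)).toLinearEquiv (idEquiv_smul f eU (C.X n))).toModuleIso)
    fun _ _ _ => rfl

variable (w : g' ≫ f = f' ≫ g) {V : S.Opens} {V' : S'.Opens} (e : V' ≤ g ⁻¹ᵁ V)
  {C : CochainComplex X.Modules ℤ} {D : CochainComplex X'.Modules ℤ} (lam : C ⟶ (pushCx g').obj D)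

/-- the predicate of the induction -/
def BCOn (U : X.Opens) : Prop :=
  ∀ (eU : U ≤ f ⁻¹ᵁ V) (U' : X'.Opens) (e₁ : U' ≤ g' ⁻¹ᵁ U) (e₂ : U' ≤ f' ⁻¹ᵁ V'),
    U' = g' ⁻¹ᵁ U ⊓ f' ⁻¹ᵁ V' → QuasiIso (psi (g.appLE V V' e).hom (sigma w e eU e₁ e₂ lam))

/-- base change on affine opens, over the functions on the open -/
theorem quasiIso_tr_affine (hbc : BCData g' lam) {U : X.Opens} (hU : IsAffineOpen U) {U' : X'.Opens}
    (hU' : IsAffineOpen U') (e₁ : U' ≤ g' ⁻¹ᵁ U) {F : DRing.Cx Γ(X, U)} [F.IsKProjective]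
    (a : F ⟶ (secCx (𝟙 X) (idle U)).obj C) [QuasiIso a] :
    QuasiIso (tr (g'.appLE U U' e₁).hom
      (a ≫ sigma (f := 𝟙 X) (g := g') (g' := g') (f' := 𝟙 X') (by simp) e₁ (idle U) e₁ (idle U') lam)) := by
  refine quasiIso_of_loc_germ hU' hbc.niceD _ fun x' hx => ?_
  have hx₀ : g' x' ∈ U := e₁ hx
  obtain ⟨Ps, η, hP, hη, h3⟩ := hbc.stalk x'
  have hsq : (g'.stalkMap x').hom.comp (stalkHom (𝟙 X) (idle U) hx₀) =
      (stalkHom (𝟙 X') (idle U') hx).comp (g'.appLE U U' e₁).hom := RingHom.ext fun r => by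
    show g'.stalkMap x' (X.presheaf.germ U (g' x') hx₀ ((𝟙 X : X ⟶ X).appLE U U (idle U) r)) =
      X'.presheaf.germ U' x' hx ((𝟙 X' : X' ⟶ X').appLE U' U' (idle U') (g'.appLE U U' e₁ r))
    rw [id_appLE_apply, id_appLE_apply, Scheme.Hom.germ_stalkMap_apply]
    exact (TopCat.Presheaf.germ_res_apply X'.presheaf (homOfLE e₁) x' hx (g'.app U r)).symm
  haveI := hη
  refine (stalkStep (g'.appLE U U' e₁).hom (stalkHom (𝟙 X) (idle U) hx₀) (stalkHom (𝟙 X') (idle U') hx)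
    (g'.stalkMap x').hom hsq (near (𝟙 X) (idle U) hx₀) (near (𝟙 X') (idle U') hx)
    (isLocalization_near hU hx₀) (isLocalization_near hU' hx) η hP (stkLam g' x' lam)
    (a ≫ germCx (𝟙 X) (idle U) hx₀ C) ((loc_germCx hU hbc.niceC hbc.qc hx₀).quasiIso_comp a) _ ?_).1 h3
  intro n m
  show (show (D.X n).presheaf.stalk x' from (germCx (𝟙 X') (idle U') hx D).f n
      ((tr (g'.appLE U U' e₁).hom (a ≫ sigma (f := 𝟙 X) (g := g') (g' := g') (f' := 𝟙 X') (by simp) e₁ (idle U) e₁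
        (idle U') lam)).f n (u1 (g'.appLE U U' e₁).hom m))) = _
  erw [tr_one]
  show germ (D.X n) x' hx (res (D.X n) e₁ ((lam.f n).app U (show Γ(C.X n, U) from a.f n m))) = _
  rw [germ_res]
  exact (stkLam_germ g' x' lam n hx₀ _).symm

/-- base change on affine opens -/
theorem bcOn_affine (sq : IsPullback g' f' f g) (hbc : BCData g' lam) (hV : IsAffineOpen V)
    (hV' : IsAffineOpen V') (htor : TorInd f g) {U : X.Opens} (hU : IsAffineOpen U) :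
    BCOn w e lam U := by
  intro eU U' e₁ e₂ hU'
  have hU'a : IsAffineOpen U' := CohBase.FlatBC.isAffineOpen_prod sq hU' hV hV' hU e eU
  let φ := (g.appLE V V' e).hom
  let fA := (f.appLE V U eU).hom
  let fB := (f'.appLE V' U' e₂).hom
  let ψR := (g'.appLE U U' e₁).hom
  have hsq : ψR.comp fA = fB.comp φ := RingHom.ext fun r => appLE_eq w e eU e₁ e₂ r
  let KR := (secCx (𝟙 X) (idle U)).obj C
  let F := Semifree.res KR
  haveI : F.IsKProjective := Semifree.isKProjective_res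
  haveI : QuasiIso (Semifree.aug KR) := Semifree.quasiIso_aug KR
  let Qc := Semifree.res ((rsCx fA).obj F)
  haveI : Qc.IsKProjective := Semifree.isKProjective_res
  let q₀ := Semifree.aug ((rsCx fA).obj F)
  haveI : QuasiIso q₀ := Semifree.quasiIso_aug _
  haveI : QuasiIso ((rsCx fA).map (Semifree.aug KR)) := (quasiIso_rsCx_iff fA _).2 inferInstance
  let q : Qc ⟶ (secCx f eU).obj C := q₀ ≫ (rsCx fA).map (Semifree.aug KR) ≫ (idCx f eU C).hom
  haveI : QuasiIso q := by dsimp only [q]; infer_instance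
  rw [quasiIso_psi_iff φ _ Qc q]
  haveI h1 := quasiIso_tr_affine lam hbc hU hU'a e₁ (Semifree.aug KR)
  haveI h1' := (quasiIso_rsCx_iff fB _).2 h1
  haveI h2 : QuasiIso ((exCx φ).map q₀) := htor V hV V' hV' e U hU eU F Qc q₀
  have hp := (isIso_pushoutSection_iff sq e eU hU').1
    (isIso_pushoutSection_of_isAffineOpen sq e eU hU' hV hV' hU)
  haveI := isIso_pushMap φ fA fB ψR hsq hp.flip F
  let σR : F ⟶ (rsCx ψR).obj ((secCx (𝟙 X') (idle U')).obj D) :=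
    Semifree.aug KR ≫ sigma (f := 𝟙 X) (g := g') (g' := g') (f' := 𝟙 X') (by simp) e₁ (idle U) e₁ (idle U') lam
  have key : (exCx φ).map q₀ ≫ pushMap φ fA fB ψR hsq F ≫
      (rsCx fB).map (tr ψR σR) ≫ (idCx f' e₂ D).hom = tr φ (q ≫ sigma w e eU e₁ e₂ lam) := by
    refine ext_one φ fun n m => ?_
    refine Eq.trans ?_ (tr_one φ (q ≫ sigma w e eU e₁ e₂ lam) n m).symm
    refine (congrArg (fun z => (idCx f' e₂ D).hom.f n ((tr ψR σR).f n z))
      (pushMap_one φ fA fB ψR hsq F n (q₀.f n m))).trans ?_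
    refine (congrArg (fun z => (idCx f' e₂ D).hom.f n z) (tr_one ψR σR n (q₀.f n m))).trans ?_
    rfl
  rw [← key]
  infer_instance

/-- base change on a union -/
theorem bcOn_sup (hC : Nice C) (hD : Nice D) {U W : X.Opens} (hU : BCOn w e lam U) (hW : BCOn w e lam W)
    (hUW : BCOn w e lam (U ⊓ W)) : BCOn w e lam (U ⊔ W) := by
  intro eT T' e₁ e₂ hT'
  have eU : U ≤ f ⁻¹ᵁ V := le_sup_left.trans eT
  have eW : W ≤ f ⁻¹ᵁ V := le_sup_right.trans eT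
  have eO : U ⊓ W ≤ f ⁻¹ᵁ V := inf_le_left.trans eU
  have hT₂ : T' = (g' ⁻¹ᵁ U ⊓ f' ⁻¹ᵁ V') ⊔ (g' ⁻¹ᵁ W ⊓ f' ⁻¹ᵁ V') := by
    rw [hT', Scheme.Hom.preimage_sup, inf_sup_right]
  have hO₂ : g' ⁻¹ᵁ (U ⊓ W) ⊓ f' ⁻¹ᵁ V' =
      (g' ⁻¹ᵁ U ⊓ f' ⁻¹ᵁ V') ⊓ (g' ⁻¹ᵁ W ⊓ f' ⁻¹ᵁ V') := by
    rw [Scheme.Hom.preimage_inf, inf_inf_distrib_right]
  have b₁ : g' ⁻¹ᵁ U ⊓ f' ⁻¹ᵁ V' ≤ T' := le_sup_left.trans hT₂.ge
  have b₂ : g' ⁻¹ᵁ W ⊓ f' ⁻¹ᵁ V' ≤ T' := le_sup_right.trans hT₂.ge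
  have b₃ : g' ⁻¹ᵁ (U ⊓ W) ⊓ f' ⁻¹ᵁ V' ≤ g' ⁻¹ᵁ U ⊓ f' ⁻¹ᵁ V' := hO₂.le.trans inf_le_left
  have b₄ : g' ⁻¹ᵁ (U ⊓ W) ⊓ f' ⁻¹ᵁ V' ≤ g' ⁻¹ᵁ W ⊓ f' ⁻¹ᵁ V' := hO₂.le.trans inf_le_right
  obtain ⟨K, i, i', wi, wi', hi, hK, hK'⟩ := exists_rows f hC eT (T' := U ⊔ W) (U' := U) (W' := W)
    (O' := U ⊓ W) eT eU eW eO rfl rfl le_sup_left le_sup_right inf_le_left inf_le_right
  obtain ⟨L, j, j', wj, wj', hj, hL, hL'⟩ := exists_rows f' hD
    (U := g' ⁻¹ᵁ U ⊓ f' ⁻¹ᵁ V') (W := g' ⁻¹ᵁ W ⊓ f' ⁻¹ᵁ V') (sup_le inf_le_right inf_le_right)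
    (T' := T') e₂ (U' := g' ⁻¹ᵁ U ⊓ f' ⁻¹ᵁ V') inf_le_right
    (W' := g' ⁻¹ᵁ W ⊓ f' ⁻¹ᵁ V') inf_le_right (O' := g' ⁻¹ᵁ (U ⊓ W) ⊓ f' ⁻¹ᵁ V') inf_le_right hT₂ hO₂
    b₁ b₂ b₃ b₄
  refine quasiIso_psi_mv (g.appLE V V' e).hom (sigma w e eT e₁ e₂ lam)
    (sigma w e eU inf_le_left inf_le_right lam) (sigma w e eW inf_le_left inf_le_right lam)
    (sigma w e eO inf_le_left inf_le_right lam) i _ wi i' _ wi' _ hi j _ wj j' _ wj' _ hj hK hK' hL hL'
    ?_ ?_ ?_ (hU eU _ _ _ rfl) (hW eW _ _ _ rfl) (hUW eO _ _ _ rfl)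
  all_goals
    refine HomologicalComplex.hom_ext _ _ fun n => ModuleCat.hom_ext (LinearMap.ext fun s => ?_)
    exact (congrArg (res (D.X n) _) (Groth.QCohMod.res_app (lam.f n) _ _).symm).trans
      ((Groth.QCohMod.res_res _ _ _ _).trans (Groth.QCohMod.res_res _ _ _ _).symm)

variable (g' f') in
/-- A map of nice complexes `C ⟶ g'_* D` which induces base change on sections over affine opens. -/
structure BCGen {C : CochainComplex X.Modules ℤ} {D : CochainComplex X'.Modules ℤ}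
    (w : g' ≫ f = f' ≫ g) (lam : C ⟶ (pushCx g').obj D) : Prop where
  niceC : Nice C
  niceD : Nice D
  qc : DCoh.IsQCohD (DerivedCategory.Q.obj C)
  affine : ∀ {V : S.Opens}, IsAffineOpen V → ∀ {V' : S'.Opens}, IsAffineOpen V' → ∀ (e : V' ≤ g ⁻¹ᵁ V)
    {U : X.Opens}, IsAffineOpen U → BCOn w e lam U

lemma bcGen_of_bcData {C : CochainComplex X.Modules ℤ} {D : CochainComplex X'.Modules ℤ}
    {lam : C ⟶ (pushCx g').obj D} (sq : IsPullback g' f' f g) (hbc : BCData g' lam) (htor : TorInd f g) :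
    BCGen g' f' sq.w lam :=
  ⟨hbc.niceC, hbc.niceD, hbc.qc,
    fun {_} hV {_} hV' e {_} hU => bcOn_affine sq.w e lam sq hbc hV hV' htor hU⟩

/-- base change for sections over preimages of affine opens -/
theorem bcOn_preimage (hbc : BCGen g' f' w lam) (hV : IsAffineOpen V)
    (hV' : IsAffineOpen V') [QuasiCompact f] [QuasiSeparated f] :
    BCOn w e lam (f ⁻¹ᵁ V) := by
  have : IsAffine V.toScheme := hV
  have : QuasiSeparatedSpace (f ⁻¹ᵁ V).toScheme := quasiSeparatedSpace_of_quasiSeparated (f ∣_ V)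
  have hq : IsQuasiSeparated ((f ⁻¹ᵁ V : X.Opens) : Set X) :=
    (isQuasiSeparated_iff_quasiSeparatedSpace ((f ⁻¹ᵁ V : X.Opens) : Set X) (f ⁻¹ᵁ V).2).mpr this
  exact Groth.CohBase.qcqs_induction_on (BCOn w e lam) _ hq
    (fun U hU _ => hbc.affine hV hV' e hU)
    (fun U W _ _ _ _ h₁ h₂ h₃ => bcOn_sup w e lam hbc.niceC hbc.niceD h₁ h₂ h₃) _
    (QuasiCompact.isCompact_preimage _ V.2 hV.isCompact) le_rfl

end Groth.DerivedCoh.BaseChange
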