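import Groth.Agent.DerivedCoh.BaseChange.RelStalk
import Groth.Agent.DerivedCoh.BaseChange.SectionsBC

/-!
Base change on affine opens for complexes with stalks K-flat over the base, without Tor independence.
-/

universe u

open CategoryTheory CategoryTheory.Limits AlgebraicGeometry HomologicalComplex TopologicalSpace
open scoped ChangeOfRings

namespace Groth.DerivedCoh.BaseChange

open Groth.DerivedCoh.KFlat (stk pushCx)
open Groth.QCohMod (res germ germ_res)
open DAlg KFlatMod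

attribute [local instance] HasDerivedCategory.standard
set_option linter.style.haveILetI false

local notation "up" => ComplexShape.up ℤ

variable {X S X' S' : Scheme.{u}} {f : X ⟶ S} {g : S' ⟶ S} {g' : X' ⟶ X} {f' : X' ⟶ S'}

variable (f g') in
/-- A map of nice complexes `C ⟶ g'_* D` which on stalks is the base change of complexes K-flat over `S`. -/
structure BCRel {C : CochainComplex X.Modules ℤ} {D : CochainComplex X'.Modules ℤ}
    (lam : C ⟶ (pushCx g').obj D) : Prop where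
  niceC : Nice C
  niceD : Nice D
  qc : DCoh.IsQCohD (DerivedCategory.Q.obj C)
  qcD : DCoh.IsQCohD (DerivedCategory.Q.obj D)
  stalk : ∀ x' : X', ∃ (Ps : DRing.Cx (X.presheaf.stalk (g' x'))) (η : Ps ⟶ (stkCx (g' x')).obj C),
    (∀ {V : S.Opens}, IsAffineOpen V → ∀ {U : X.Opens} (eU : U ≤ f ⁻¹ᵁ V) (hx : g' x' ∈ U),
      KFlat.IsKFlat (T Γ(S, V)) ((rsCx (stalkHom f eU hx)).obj Ps)) ∧ QuasiIso η ∧
      QuasiIso (tr (g'.stalkMap x').hom (η ≫ stkLam g' x' lam))

/-- base change on affine opens -/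
theorem bcOn_affine_of_rel (sq : IsPullback g' f' f g) {C : CochainComplex X.Modules ℤ}
    {D : CochainComplex X'.Modules ℤ} {lam : C ⟶ (pushCx g').obj D} (hbc : BCRel f g' lam)
    {V : S.Opens} (hV : IsAffineOpen V) {V' : S'.Opens} (hV' : IsAffineOpen V') (e : V' ≤ g ⁻¹ᵁ V)
    {U : X.Opens} (hU : IsAffineOpen U) : BCOn sq.w e lam U := by
  intro eU U' e₁ e₂ hU'
  have hU'a : IsAffineOpen U' := CohBase.FlatBC.isAffineOpen_prod sq hU' hV hV' hU e eU
  let φ := (g.appLE V V' e).hom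
  let fA := (f.appLE V U eU).hom
  let fB := (f'.appLE V' U' e₂).hom
  let ψR := (g'.appLE U U' e₁).hom
  have hsq : ψR.comp fA = fB.comp φ := RingHom.ext fun r => appLE_eq sq.w e eU e₁ e₂ r
  have hp := ((isIso_pushoutSection_iff sq e eU hU').1
    (isIso_pushoutSection_of_isAffineOpen sq e eU hU' hV hV' hU)).flip
  let K := (secCx (𝟙 X) (idle U)).obj C
  let L := (secCx (𝟙 X') (idle U')).obj D
  let σ : K ⟶ (rsCx ψR).obj L :=
    sigma (f := 𝟙 X) (g := g') (g' := g') (f' := 𝟙 X') (by simp) e₁ (idle U) e₁ (idle U') lam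
  suffices hΨ : QuasiIso (Psi φ fA fB ψR hsq σ) by
    haveI := hΨ
    haveI : QuasiIso ((rsCx φ).map (idCx f' e₂ D).hom) := (quasiIso_rsCx_iff φ _).2 inferInstance
    haveI : QuasiIso ((KFlat.totR (T Γ(S, V)) (PB φ)).map (idCx f eU C).hom) :=
      KFlat.quasiIso_totR (T Γ(S, V)) (isKFlat_flip (isKFlatCx_iff.1 (res_isKFlat _))) _
    have e3 : (KFlat.totR (T Γ(S, V)) (PB φ)).map (idCx f eU C).hom ≫ psi φ (sigma sq.w e eU e₁ e₂ lam) =
        Psi φ fA fB ψR hsq σ ≫ (rsCx φ).map (idCx f' e₂ D).hom :=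
      psi_natural φ _ _ (idCx f eU C).hom (idCx f' e₂ D).hom
        (HomologicalComplex.hom_ext _ _ fun n => ModuleCat.hom_ext (LinearMap.ext fun s => rfl))
    have : QuasiIso ((KFlat.totR (T Γ(S, V)) (PB φ)).map (idCx f eU C).hom ≫ psi φ (sigma sq.w e eU e₁ e₂ lam)) := by
      rw [e3]; infer_instance
    exact (quasiIso_iff_comp_left _ _).1 this
  have key : ∀ (P : PrimeSpectrum Γ(X', U')) (n : ℤ),
      (∀ m, homologyMap (Psi φ fA fB ψR hsq σ) n m = 0 →
        ∃ x ∈ P.asIdeal.primeCompl, act φ fA fB ψR hp n K x m = 0) ∧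
      ∀ t, ∃ x ∈ P.asIdeal.primeCompl, ∃ m,
        homologyMap (Psi φ fA fB ψR hsq σ) n m = hEnd n (mulR φ fB L x) t := by
    intro P n
    rw [← near_fromSpec hU'a P]
    let x' : X' := hU'a.fromSpec P
    have hx : x' ∈ U' := mem_fromSpec hU'a P
    have hx₀ : g' x' ∈ U := e₁ hx
    obtain ⟨Ps, η, hP, hη, h3⟩ := hbc.stalk x'
    have hsq2 : (g'.stalkMap x').hom.comp (stalkHom (𝟙 X) (idle U) hx₀) =
        (stalkHom (𝟙 X') (idle U') hx).comp ψR := RingHom.ext fun r => by
      show g'.stalkMap x' (X.presheaf.germ U (g' x') hx₀ ((𝟙 X : X ⟶ X).appLE U U (idle U) r)) =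
        X'.presheaf.germ U' x' hx ((𝟙 X' : X' ⟶ X').appLE U' U' (idle U') (g'.appLE U U' e₁ r))
      rw [id_appLE_apply, id_appLE_apply, Scheme.Hom.germ_stalkMap_apply]
      exact (TopCat.Presheaf.germ_res_apply X'.presheaf (homOfLE e₁) x' hx (g'.app U r)).symm
    have e4 : stalkHom f eU hx₀ = (stalkHom (𝟙 X) (idle U) hx₀).comp fA := RingHom.ext fun a => by
      show X.presheaf.germ U (g' x') hx₀ (f.appLE V U eU a) =
        X.presheaf.germ U (g' x') hx₀ ((𝟙 X : X ⟶ X).appLE U U (idle U) (f.appLE V U eU a))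
      rw [id_appLE_apply]
    haveI := hη
    exact Psi_at_prime φ fA fB ψR hsq hp (stalkHom (𝟙 X) (idle U) hx₀) (stalkHom (𝟙 X') (idle U') hx)
      (g'.stalkMap x').hom hsq2 (near (𝟙 X) (idle U) hx₀) (near (𝟙 X') (idle U') hx)
      (isLocalization_near hU hx₀) (isLocalization_near hU'a hx) σ
      (germCx (𝟙 X) (idle U) hx₀ C) (loc_germCx hU hbc.niceC hbc.qc hx₀)
      (germCx (𝟙 X') (idle U') hx D) (loc_germCx hU'a hbc.niceD hbc.qcD hx)
      (stkLam g' x' lam)
      (HomologicalComplex.hom_ext _ _ fun i => ModuleCat.hom_ext (LinearMap.ext fun s => by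
        show (show (D.X i).presheaf.stalk x' from (stkLam g' x' lam).f i (germ (C.X i) (g' x') hx₀ (show Γ(C.X i, U) from s))) =
          germ (D.X i) x' hx (res (D.X i) e₁ ((lam.f i).app U (show Γ(C.X i, U) from s)))
        rw [germ_res]
        exact stkLam_germ g' x' lam i hx₀ _))
      η (KFlat.IsKFlat.of_iso (hP hV eU hx₀) (rsCompIso fA (stalkHom (𝟙 X) (idle U) hx₀)
        (stalkHom f eU hx₀) e4 Ps)) h3 n
  exact quasiIso_Psi_of_primes φ fA fB ψR hsq hp σ
    (fun P n m hm => (key P n).1 m hm) fun P n t => (key P n).2 t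

/-- complexes K-flat over the base satisfy base change on affine opens -/
theorem bcGen_of_bcRel (sq : IsPullback g' f' f g) {C : CochainComplex X.Modules ℤ}
    {D : CochainComplex X'.Modules ℤ} {lam : C ⟶ (pushCx g').obj D} (hbc : BCRel f g' lam) :
    BCGen g' f' sq.w lam :=
  ⟨hbc.niceC, hbc.niceD, hbc.qc, fun {_} hV {_} hV' e {_} hU => bcOn_affine_of_rel sq hbc hV hV' e hU⟩

end Groth.DerivedCoh.BaseChange
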