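import Groth.Agent.DerivedCoh.BaseChange.Main
import Mathlib.Algebra.Homology.Linear
import Mathlib.RingTheory.TensorProduct.Maps
import Mathlib.RingTheory.IsTensorProduct

/-!
The derived tensor product with `B` of a complex of modules over an `A`-algebra `R`, as a module over
`B ⊗_A R` on cohomology.
-/

universe u

open CategoryTheory CategoryTheory.Limits HomologicalComplex MonoidalCategory
open scoped TensorProduct ChangeOfRings

namespace Groth.DerivedCoh.BaseChange

open DAlg KFlatMod

set_option linter.style.haveILetI false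
set_option linter.unusedSectionVars false

local notation "up" => ComplexShape.up ℤ

variable {A B : Type u} [CommRing A] [CommRing B] (φ : A →+* B)

/-- multiplication by a scalar, after restriction -/
noncomputable abbrev endo {R : Type u} [CommRing R] (f : A →+* R) (K : DRing.Cx R) (r : R) :
    (rsCx f).obj K ⟶ (rsCx f).obj K :=
  (rsCx f).map (r • 𝟙 K)

/-- multiplication by an element of `B`, on its resolution -/
noncomputable abbrev endoB (b : B) : PB φ ⟶ PB φ :=
  (resFunctor A).map ((single (ModuleCat.{u} A) up 0).map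
    ((ModuleCat.restrictScalars φ).map (b • 𝟙 (ModuleCat.of B B))))

lemma endoB_mul (b b' : B) : endoB φ (b * b') = endoB φ b ≫ endoB φ b' := by
  rw [endoB, endoB, endoB, ← Functor.map_comp, ← Functor.map_comp, ← Functor.map_comp]
  congr 3
  rw [Linear.smul_comp, Category.id_comp, smul_smul]

/-- the resolved tensor product -/
noncomputable abbrev TK (K : DRing.Cx A) : DRing.Cx A := (KFlat.totR (T A) (PB φ)).obj K

/-- `b` on the resolved tensor product -/
noncomputable abbrev TKb (K : DRing.Cx A) (b : B) : TK φ K ⟶ TK φ K :=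
  (KFlat.totL (T A) K).map (endoB φ b)

/-- `b` commutes with morphisms -/
lemma TKb_natural {K K' : DRing.Cx A} (u : K ⟶ K') (b : B) :
    (KFlat.totR (T A) (PB φ)).map u ≫ TKb φ K' b = TKb φ K b ≫ (KFlat.totR (T A) (PB φ)).map u :=
  ((T A).map₂CochainComplex.map (endoB φ b)).naturality u

lemma biSingleTensorIso_natural_left {N N' : ModuleCat.{u} A} (g : N ⟶ N') (K : DRing.Cx A) :
    ((KFlat.Bi (T A)).flip.obj K).map ((single _ up 0).map g) ≫ (KFlat.biSingleTensorIso (T A) N' K).hom =
      (KFlat.biSingleTensorIso (T A) N K).hom ≫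
        KFlat.Cover.biSingle.map ((NatTrans.mapHomologicalComplex ((T A).map g) up).app K) := by
  refine HomologicalComplex.to_single_hom_ext ?_
  simp [KFlat.biSingleTensorIso, KFlat.Cover.biSingle]
  refine HomologicalComplex.hom_ext _ _ fun q => ?_
  simp [single_map_f_self]
  erw [Category.assoc, Category.assoc, ← comp_whiskerRight_assoc (singleObjXSelf up 0 N').inv, Iso.inv_hom_id,
    id_whiskerRight, Category.id_comp]
  erw [id_whiskerRight, Category.id_comp]
  exact (Category.id_comp _).symm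

lemma singleT_natural_left (b : B) (K : DRing.Cx A) :
    (KFlat.totL (T A) K).map ((single (ModuleCat.{u} A) up 0).map
        ((ModuleCat.restrictScalars φ).map (b • 𝟙 (ModuleCat.of B B)))) ≫ (singleT φ K).hom =
      (singleT φ K).hom ≫
        (NatTrans.mapHomologicalComplex ((T A).map ((ModuleCat.restrictScalars φ).map (b • 𝟙 (ModuleCat.of B B)))) up).app K := by
  have h := (HomologicalComplex₂.totalFunctor (ModuleCat.{u} A) up up up).congr_map
    (biSingleTensorIso_natural_left ((ModuleCat.restrictScalars φ).map (b • 𝟙 (ModuleCat.of B B))) K)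
  rw [Functor.map_comp, Functor.map_comp] at h
  have h2 := (KFlat.totLIso (T A) K).hom.naturality ((single (ModuleCat.{u} A) up 0).map
    ((ModuleCat.restrictScalars φ).map (b • 𝟙 (ModuleCat.of B B))))
  simp only [KFlat.totLIso, NatIso.ofComponents_hom_app, Iso.refl_hom] at h2
  have h3 := KFlat.Cover.totalSingleIso.hom.naturality ((NatTrans.mapHomologicalComplex
    ((T A).map ((ModuleCat.restrictScalars φ).map (b • 𝟙 (ModuleCat.of B B)))) up).app K)
  erw [Category.comp_id, Category.id_comp] at h2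
  simp only [singleT, KFlat.totSingleIso, Iso.trans_hom, Functor.mapIso_hom, Iso.app_hom, h2]
  erw [← Category.assoc, h, Category.assoc, h3]
  rfl

/-- `b` and the comparison with the naive tensor product -/
lemma etaT_endoB (K : DRing.Cx A) (b : B) :
    TKb φ K b ≫ etaT φ K = etaT φ K ≫ endo φ ((exCx φ).obj K) b := by
  have e1 : TKb φ K b ≫ augT φ K = augT φ K ≫ (KFlat.totL (T A) K).map ((single (ModuleCat.{u} A) up 0).map
      ((ModuleCat.restrictScalars φ).map (b • 𝟙 (ModuleCat.of B B)))) := by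
    refine ((KFlat.totL (T A) K).map_comp _ _).symm.trans (Eq.trans ?_ ((KFlat.totL (T A) K).map_comp _ _))
    exact (KFlat.totL (T A) K).congr_map ((resAug A).naturality _)
  have e3 : (NatTrans.mapHomologicalComplex ((T A).map ((ModuleCat.restrictScalars φ).map (b • 𝟙 (ModuleCat.of B B)))) up).app K ≫
      (tensorExtCx φ).app K = (tensorExtCx φ).app K ≫ endo φ ((exCx φ).obj K) b := by
    refine HomologicalComplex.hom_ext _ _ fun n => ModuleCat.hom_ext (LinearMap.ext fun z => ?_)
    induction z using TensorProduct.induction_on with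
    | zero => exact (map_zero _).trans (map_zero _).symm
    | tmul c m => rfl
    | add x y hx hy => exact (map_add _ x y).trans ((congrArg₂ (· + ·) hx hy).trans (map_add _ x y).symm)
  rw [etaT, reassoc_of% e1, reassoc_of% (singleT_natural_left φ b K), e3]
  simp only [Category.assoc]

/-! ### Endomorphisms of the cohomology -/

/-- an endomorphism of a complex on cohomology -/
noncomputable def hEnd (n : ℤ) {L : DRing.Cx A} (a : L ⟶ L) : Module.End A (L.homology n) :=
  (homologyMap a n).hom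

lemma hEnd_comp (n : ℤ) {L : DRing.Cx A} (a a' : L ⟶ L) : hEnd n (a ≫ a') = hEnd n a' * hEnd n a := by
  rw [hEnd, homologyMap_comp]; rfl

lemma hEnd_id (n : ℤ) (L : DRing.Cx A) : hEnd n (𝟙 L) = 1 := by
  rw [hEnd, homologyMap_id]; rfl

lemma hEnd_add (n : ℤ) {L : DRing.Cx A} (a a' : L ⟶ L) : hEnd n (a + a') = hEnd n a + hEnd n a' := by
  rw [hEnd, homologyMap_add]; rfl

lemma hEnd_natural (n : ℤ) {L L' : DRing.Cx A} {u : L ⟶ L'} {a : L ⟶ L} {a' : L' ⟶ L'}
    (h : u ≫ a' = a ≫ u) (m : L.homology n) : hEnd n a' (homologyMap u n m) = homologyMap u n (hEnd n a m) := by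
  have e : homologyMap u n ≫ homologyMap a' n = homologyMap a n ≫ homologyMap u n := by
    rw [← homologyMap_comp, h, homologyMap_comp]
  exact ConcreteCategory.congr_hom e m

lemma endo_comm {R : Type u} [CommRing R] (f : A →+* R) {K K' : DRing.Cx R} (u : K ⟶ K') (r : R) :
    (rsCx f).map u ≫ endo f K' r = endo f K r ≫ (rsCx f).map u := by
  refine HomologicalComplex.hom_ext _ _ fun i => ModuleCat.hom_ext (LinearMap.ext fun z => ?_)
  exact (map_smul (u.f i).hom r (show K.X i from z)).symm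

lemma totR_endo_comm {R : Type u} [CommRing R] (f : A →+* R) {K K' : DRing.Cx R} (u : K ⟶ K') (r : R) :
    (KFlat.totR (T A) (PB φ)).map ((rsCx f).map u) ≫ (KFlat.totR (T A) (PB φ)).map (endo f K' r) =
      (KFlat.totR (T A) (PB φ)).map (endo f K r) ≫ (KFlat.totR (T A) (PB φ)).map ((rsCx f).map u) :=
  ((KFlat.totR (T A) (PB φ)).map_comp _ _).symm.trans
    (((KFlat.totR (T A) (PB φ)).congr_map (endo_comm f u r)).trans ((KFlat.totR (T A) (PB φ)).map_comp _ _))

section Ring

variable {R : Type u} [CommRing R] (f : A →+* R)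

lemma hEnd_endo_add (n : ℤ) (L : DRing.Cx R) (r r' : R) :
    hEnd n (endo f L (r + r')) = hEnd n (endo f L r) + hEnd n (endo f L r') := by
  rw [← hEnd_add]
  congr 1
  rw [endo, add_smul, Functor.map_add]

lemma hEnd_endo_mul (n : ℤ) (L : DRing.Cx R) (r r' : R) :
    hEnd n (endo f L (r * r')) = hEnd n (endo f L r) * hEnd n (endo f L r') := by
  rw [← hEnd_comp]
  congr 1
  rw [endo, ← Functor.map_comp, Linear.smul_comp, Category.id_comp, smul_smul, mul_comm]

lemma hEnd_endo_one (n : ℤ) (L : DRing.Cx R) : hEnd n (endo f L 1) = 1 := by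
  rw [endo, one_smul, CategoryTheory.Functor.map_id]
  exact hEnd_id n _

lemma hEnd_endo_algebraMap (n : ℤ) (L : DRing.Cx R) (a : A) :
    hEnd n (endo f L (f a)) = a • (1 : Module.End A _) := by
  refine LinearMap.ext fun m => ?_
  obtain ⟨x, rfl⟩ := FlatCxBase.cls_surjective n m
  refine (FlatCxBase.homologyMap_cls _ n x).trans (Eq.trans (congrArg _ ?_) (map_smul (FlatCxBase.cls _ n) a x))
  exact Subtype.ext rfl

/-- `b` on the cohomology -/
noncomputable def betaB (n : ℤ) (K : DRing.Cx R) (b : B) : Module.End A ((TK φ ((rsCx f).obj K)).homology n) :=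
  hEnd n (TKb φ _ b)

/-- `r` on the cohomology -/
noncomputable def rho (n : ℤ) (K : DRing.Cx R) (r : R) : Module.End A ((TK φ ((rsCx f).obj K)).homology n) :=
  hEnd n ((KFlat.totR (T A) (PB φ)).map (endo f K r))

lemma betaB_rho (n : ℤ) (K : DRing.Cx R) (b : B) (r : R) :
    betaB φ f n K b * rho φ f n K r = rho φ f n K r * betaB φ f n K b := by
  rw [betaB, rho, ← hEnd_comp, ← hEnd_comp]
  exact congrArg (hEnd n) (TKb_natural φ (endo f K r) b)

lemma rho_add (n : ℤ) (K : DRing.Cx R) (r r' : R) :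
    rho φ f n K (r + r') = rho φ f n K r + rho φ f n K r' := by
  rw [rho, rho, rho, ← hEnd_add]
  congr 1
  rw [endo, endo, endo, add_smul, Functor.map_add, Functor.map_add]

lemma rho_mul (n : ℤ) (K : DRing.Cx R) (r r' : R) :
    rho φ f n K (r * r') = rho φ f n K r * rho φ f n K r' := by
  rw [rho, rho, rho, ← hEnd_comp]
  congr 1
  rw [endo, endo, endo, ← Functor.map_comp, ← Functor.map_comp, Linear.smul_comp, Category.id_comp, smul_smul,
    mul_comm]

lemma rho_one (n : ℤ) (K : DRing.Cx R) : rho φ f n K 1 = 1 := by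
  rw [rho, endo, one_smul, CategoryTheory.Functor.map_id, CategoryTheory.Functor.map_id]
  exact hEnd_id n _

/-- identities between endomorphisms are checked on a K-projective resolution -/
lemma hEnd_transport (n : ℤ) {K : DRing.Cx A} (Q : DRing.Cx A) [Q.IsKProjective] (q : Q ⟶ K) [QuasiIso q]
    {α β : Module.End A ((TK φ K).homology n)} {α' β' : Module.End A ((TK φ Q).homology n)}
    (hα : ∀ m, α (homologyMap ((KFlat.totR (T A) (PB φ)).map q) n m) = homologyMap ((KFlat.totR (T A) (PB φ)).map q) n (α' m))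
    (hβ : ∀ m, β (homologyMap ((KFlat.totR (T A) (PB φ)).map q) n m) = homologyMap ((KFlat.totR (T A) (PB φ)).map q) n (β' m))
    (h : α' = β') : α = β := by
  haveI : QuasiIso ((KFlat.totR (T A) (PB φ)).map q) :=
    KFlat.quasiIso_totR (T A) (isKFlat_flip (isKFlatCx_iff.1 (res_isKFlat _))) q
  refine LinearMap.ext fun m => ?_
  obtain ⟨m, rfl⟩ := ((ConcreteCategory.isIso_iff_bijective
    (homologyMap ((KFlat.totR (T A) (PB φ)).map q) n)).1 inferInstance).2 m
  rw [hα, hβ, h]

lemma betaB_add (n : ℤ) (K : DRing.Cx R) (b b' : B) :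
    betaB φ f n K (b + b') = betaB φ f n K b + betaB φ f n K b' := by
  haveI : (Semifree.res ((rsCx f).obj K)).IsKProjective := Semifree.isKProjective_res
  haveI := Semifree.quasiIso_aug ((rsCx f).obj K)
  let Q := Semifree.res ((rsCx f).obj K)
  let q : Q ⟶ (rsCx f).obj K := Semifree.aug _
  refine hEnd_transport φ n Q q (α' := hEnd n (TKb φ Q (b + b'))) (β' := hEnd n (TKb φ Q b) + hEnd n (TKb φ Q b'))
    (fun m => hEnd_natural n (TKb_natural φ q _) m) (fun m => ?_) ?_
  · rw [LinearMap.add_apply, LinearMap.add_apply, map_add]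
    exact congrArg₂ (· + ·) (hEnd_natural n (TKb_natural φ q b) m) (hEnd_natural n (TKb_natural φ q b') m)
  · haveI := quasiIso_etaT φ Q
    refine LinearMap.ext fun m => ((ConcreteCategory.isIso_iff_bijective (homologyMap (etaT φ Q) n)).1 inferInstance).1 ?_
    rw [LinearMap.add_apply, map_add, ← hEnd_natural n (etaT_endoB φ Q _).symm, ← hEnd_natural n (etaT_endoB φ Q _).symm,
      ← hEnd_natural n (etaT_endoB φ Q _).symm, hEnd_endo_add]
    rfl

lemma betaB_algebraMap (n : ℤ) (K : DRing.Cx R) (a : A) : betaB φ f n K (φ a) = a • 1 := by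
  haveI : (Semifree.res ((rsCx f).obj K)).IsKProjective := Semifree.isKProjective_res
  haveI := Semifree.quasiIso_aug ((rsCx f).obj K)
  let Q := Semifree.res ((rsCx f).obj K)
  let q : Q ⟶ (rsCx f).obj K := Semifree.aug _
  refine hEnd_transport φ n Q q (α' := hEnd n (TKb φ Q (φ a))) (β' := a • 1)
    (fun m => hEnd_natural n (TKb_natural φ q _) m) (fun m => ?_) ?_
  · exact (map_smul (homologyMap ((KFlat.totR (T A) (PB φ)).map q) n).hom a m).symm
  · haveI := quasiIso_etaT φ Q
    refine LinearMap.ext fun m => ((ConcreteCategory.isIso_iff_bijective (homologyMap (etaT φ Q) n)).1 inferInstance).1 ?_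
    rw [← hEnd_natural n (etaT_endoB φ Q _).symm, hEnd_endo_algebraMap]
    exact (map_smul (homologyMap (etaT φ Q) n).hom a m).symm

lemma rho_algebraMap (n : ℤ) (K : DRing.Cx R) (a : A) : rho φ f n K (f a) = a • 1 := by
  haveI : (Semifree.res ((rsCx f).obj K)).IsKProjective := Semifree.isKProjective_res
  haveI := Semifree.quasiIso_aug ((rsCx f).obj K)
  let Q := Semifree.res ((rsCx f).obj K)
  let q : Q ⟶ (rsCx f).obj K := Semifree.aug _
  have hq : q ≫ endo f K (f a) = (a • 𝟙 Q) ≫ q := by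
    refine HomologicalComplex.hom_ext _ _ fun i => ModuleCat.hom_ext (LinearMap.ext fun z => ?_)
    exact (map_smul (q.f i).hom a z).symm
  refine hEnd_transport φ n Q q (α' := hEnd n ((KFlat.totR (T A) (PB φ)).map (a • 𝟙 Q))) (β' := a • 1)
    (fun m => hEnd_natural n (by rw [← Functor.map_comp, ← Functor.map_comp, hq]) m) (fun m => ?_) ?_
  · exact (map_smul (homologyMap ((KFlat.totR (T A) (PB φ)).map q) n).hom a m).symm
  · haveI := quasiIso_etaT φ Q
    refine LinearMap.ext fun m => ((ConcreteCategory.isIso_iff_bijective (homologyMap (etaT φ Q) n)).1 inferInstance).1 ?_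
    rw [← hEnd_natural n (etaT_natural φ (a • 𝟙 Q)).symm]
    have e : (rsCx φ).map ((exCx φ).map (a • 𝟙 Q)) = endo φ ((exCx φ).obj Q) (φ a) := by
      refine (rsCx φ).congr_map (ext_one φ fun i z => ?_)
      letI := φ.toAlgebra
      exact (TensorProduct.tmul_smul a (1 : B) z)
    rw [e, hEnd_endo_algebraMap]
    exact (map_smul (homologyMap (etaT φ Q) n).hom a m).symm

/-- `B ⊗_A R` acts on the cohomology -/
noncomputable def actT (n : ℤ) (K : DRing.Cx R) :
    letI := φ.toAlgebra
    letI := f.toAlgebra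
    B ⊗[A] R →ₐ[A] Module.End A ((TK φ ((rsCx f).obj K)).homology n) :=
  letI := φ.toAlgebra
  letI := f.toAlgebra
  Algebra.TensorProduct.lift
    (AlgHom.ofLinearMap
      { toFun := betaB φ f n K
        map_add' := betaB_add φ f n K
        map_smul' := fun a b => by
          show betaB φ f n K (φ a * b) = a • betaB φ f n K b
          rw [betaB]
          simp only [TKb, endoB_mul, Functor.map_comp, hEnd_comp]
          refine (congrArg (_ * ·) (betaB_algebraMap φ f n K a)).trans ?_
          rw [mul_smul_comm, mul_one]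
          rfl }
      (by
        show betaB φ f n K 1 = 1
        rw [← map_one φ, betaB_algebraMap, one_smul])
      fun b b' => by
        show betaB φ f n K (b * b') = betaB φ f n K b * betaB φ f n K b'
        rw [mul_comm, betaB]
        simp only [TKb, endoB_mul, Functor.map_comp, hEnd_comp]
        rfl)
    (AlgHom.ofLinearMap
      { toFun := rho φ f n K
        map_add' := rho_add φ f n K
        map_smul' := fun a r => by
          show rho φ f n K (f a * r) = a • rho φ f n K r
          rw [rho_mul, rho_algebraMap, smul_mul_assoc, one_mul] }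
      (rho_one φ f n K) (rho_mul φ f n K))
    fun b r => betaB_rho φ f n K b r

end Ring

/-! ### Base rings -/

section Square

variable {R R' : Type u} [CommRing R] [CommRing R'] (f : A →+* R) (fB : B →+* R') (ψR : R →+* R')
  (hsq : ψR.comp f = fB.comp φ)
  (hp : CategoryTheory.IsPushout (CommRingCat.ofHom φ) (CommRingCat.ofHom f) (CommRingCat.ofHom fB) (CommRingCat.ofHom ψR))

include hp in
/-- a pushout of rings is spanned by products -/
lemma pushout_induction {P : R' → Prop} (h0 : P 0) (ha : ∀ x y, P x → P y → P (x + y))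
    (hm : ∀ b r, P (fB b * ψR r)) (x : R') : P x := by
  letI := φ.toAlgebra
  letI := f.toAlgebra
  letI := fB.toAlgebra
  letI := ψR.toAlgebra
  letI : Algebra A R' := (fB.comp φ).toAlgebra
  haveI : IsScalarTower A B R' := .of_algebraMap_eq fun _ => rfl
  haveI : IsScalarTower A R R' := .of_algebraMap_eq fun a => (RingHom.congr_fun (congrArg CommRingCat.Hom.hom hp.w) a)
  haveI : Algebra.IsPushout A B R R' := CommRingCat.isPushout_iff_isPushout.1 hp
  obtain ⟨z, rfl⟩ := (Algebra.IsPushout.equiv A B R R').surjective x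
  induction z using TensorProduct.induction_on with
  | zero => rw [map_zero]; exact h0
  | tmul b r => rw [Algebra.IsPushout.equiv_tmul]; exact hm b r
  | add x y hx hy => rw [map_add]; exact ha _ _ hx hy

include hp in
/-- the action of the pushout -/
lemma exists_act (n : ℤ) (K : DRing.Cx R) :
    ∃ Φ : R' →+* Module.End A ((TK φ ((rsCx f).obj K)).homology n),
      (∀ b, Φ (fB b) = betaB φ f n K b) ∧ ∀ r, Φ (ψR r) = rho φ f n K r := by
  letI := φ.toAlgebra
  letI := f.toAlgebra
  letI := fB.toAlgebra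
  letI := ψR.toAlgebra
  letI : Algebra A R' := (fB.comp φ).toAlgebra
  haveI : IsScalarTower A B R' := .of_algebraMap_eq fun _ => rfl
  haveI : IsScalarTower A R R' := .of_algebraMap_eq fun a => (RingHom.congr_fun (congrArg CommRingCat.Hom.hom hp.w) a)
  haveI : Algebra.IsPushout A B R R' := CommRingCat.isPushout_iff_isPushout.1 hp
  let e := Algebra.IsPushout.equiv A B R R'
  refine ⟨(actT φ f n K).toRingHom.comp e.symm.toRingEquiv.toRingHom, fun b => ?_, fun r => ?_⟩
  · have he : e (b ⊗ₜ (1 : R)) = fB b := by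
      rw [Algebra.IsPushout.equiv_tmul, map_one, mul_one]; rfl
    show actT φ f n K (e.symm (fB b)) = _
    rw [← he, e.symm_apply_apply]
    refine (Algebra.TensorProduct.lift_tmul _ _ _ b 1).trans ?_
    show betaB φ f n K b * rho φ f n K 1 = _
    rw [rho_one, mul_one]
  · have he : e ((1 : B) ⊗ₜ r) = ψR r := by
      rw [Algebra.IsPushout.equiv_tmul, map_one, one_mul]; rfl
    show actT φ f n K (e.symm (ψR r)) = _
    rw [← he, e.symm_apply_apply]
    refine (Algebra.TensorProduct.lift_tmul _ _ _ 1 r).trans ?_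
    show betaB φ f n K 1 * rho φ f n K r = _
    rw [← map_one φ, betaB_algebraMap, one_smul, one_mul]

/-- the action of `R'` -/
noncomputable def act (n : ℤ) (K : DRing.Cx R) : R' →+* Module.End A ((TK φ ((rsCx f).obj K)).homology n) :=
  (exists_act φ f fB ψR hp n K).choose

lemma act_fB (n : ℤ) (K : DRing.Cx R) (b : B) : act φ f fB ψR hp n K (fB b) = betaB φ f n K b :=
  (exists_act φ f fB ψR hp n K).choose_spec.1 b

lemma act_ψR (n : ℤ) (K : DRing.Cx R) (r : R) : act φ f fB ψR hp n K (ψR r) = rho φ f n K r :=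
  (exists_act φ f fB ψR hp n K).choose_spec.2 r

/-- the comparison, for a map linear over `R` -/
noncomputable def Psi {K : DRing.Cx R} {L : DRing.Cx R'} (σ : K ⟶ (rsCx ψR).obj L) :
    TK φ ((rsCx f).obj K) ⟶ (rsCx φ).obj ((rsCx fB).obj L) :=
  psi φ ((rsCx f).map σ ≫ resCommCx φ f fB ψR hsq L)

/-- the action of `R'` on the target -/
noncomputable abbrev mulR (L : DRing.Cx R') (x : R') : (rsCx φ).obj ((rsCx fB).obj L) ⟶ (rsCx φ).obj ((rsCx fB).obj L) :=
  (rsCx φ).map (endo fB L x)

lemma Psi_rho {K : DRing.Cx R} {L : DRing.Cx R'} (σ : K ⟶ (rsCx ψR).obj L) (r : R) :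
    Psi φ f fB ψR hsq σ ≫ mulR φ fB L (ψR r) = (KFlat.totR (T A) (PB φ)).map (endo f K r) ≫ Psi φ f fB ψR hsq σ := by
  refine (psi_natural φ _ _ (endo f K r) (endo fB L (ψR r)) ?_).symm
  refine HomologicalComplex.hom_ext _ _ fun i => ModuleCat.hom_ext (LinearMap.ext fun z => ?_)
  exact map_smul (σ.f i).hom r (show K.X i from z)

lemma Psi_betaB {K : DRing.Cx R} {L : DRing.Cx R'} (σ : K ⟶ (rsCx ψR).obj L) (b : B) :
    Psi φ f fB ψR hsq σ ≫ mulR φ fB L (fB b) = TKb φ _ b ≫ Psi φ f fB ψR hsq σ := by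
  rw [Psi, psi, reassoc_of% (etaT_endoB φ ((rsCx f).obj K) b), Category.assoc, ← Functor.map_comp, endo,
    ← Functor.map_comp]
  congr 2
  refine HomologicalComplex.hom_ext _ _ fun i => ModuleCat.hom_ext (LinearMap.ext fun z => ?_)
  exact (map_smul ((tr φ ((rsCx f).map σ ≫ resCommCx φ f fB ψR hsq L)).f i).hom b z).symm

lemma Psi_natural {K K' : DRing.Cx R} {L L' : DRing.Cx R'} (σ : K ⟶ (rsCx ψR).obj L)
    (σ' : K' ⟶ (rsCx ψR).obj L') (u : K ⟶ K') (v : L ⟶ L') (h : u ≫ σ' = σ ≫ (rsCx ψR).map v) :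
    (KFlat.totR (T A) (PB φ)).map ((rsCx f).map u) ≫ Psi φ f fB ψR hsq σ' =
      Psi φ f fB ψR hsq σ ≫ (rsCx φ).map ((rsCx fB).map v) := by
  refine psi_natural φ _ _ ((rsCx f).map u) ((rsCx fB).map v) ?_
  rw [← Category.assoc, ← Functor.map_comp, h, Functor.map_comp, Category.assoc, Category.assoc]
  rfl

lemma mulR_add (n : ℤ) (L : DRing.Cx R') (x y : R') :
    hEnd n (mulR φ fB L (x + y)) = hEnd n (mulR φ fB L x) + hEnd n (mulR φ fB L y) := by
  rw [← hEnd_add, mulR, mulR, mulR, endo, endo, endo, add_smul, Functor.map_add, Functor.map_add]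

lemma mulR_mul (n : ℤ) (L : DRing.Cx R') (x y : R') :
    hEnd n (mulR φ fB L (x * y)) = hEnd n (mulR φ fB L x) * hEnd n (mulR φ fB L y) := by
  rw [← hEnd_comp, mulR, mulR, mulR, endo, endo, endo, ← Functor.map_comp, ← Functor.map_comp, Linear.smul_comp,
    Category.id_comp, smul_smul, mul_comm x y]

lemma mulR_zero (n : ℤ) (L : DRing.Cx R') : hEnd n (mulR φ fB L 0) = 0 := by
  have h := mulR_add φ fB n L 0 0
  rw [add_zero] at h
  exact left_eq_add.1 h

/-- `Psi` is linear over `R'` on cohomology -/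
theorem Psi_act {K : DRing.Cx R} {L : DRing.Cx R'} (σ : K ⟶ (rsCx ψR).obj L) (n : ℤ) (x : R')
    (m : (TK φ ((rsCx f).obj K)).homology n) :
    hEnd n (mulR φ fB L x) (homologyMap (Psi φ f fB ψR hsq σ) n m) =
      homologyMap (Psi φ f fB ψR hsq σ) n (act φ f fB ψR hp n K x m) := by
  revert m
  refine pushout_induction φ f fB ψR hp (P := fun x => ∀ m, hEnd n (mulR φ fB L x)
    (homologyMap (Psi φ f fB ψR hsq σ) n m) = homologyMap (Psi φ f fB ψR hsq σ) n (act φ f fB ψR hp n K x m))
    (fun m => ?_) (fun x y hx hy m => ?_) (fun b r m => ?_) x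
  · rw [mulR_zero, map_zero, LinearMap.zero_apply, LinearMap.zero_apply, map_zero]
  · rw [mulR_add, map_add, LinearMap.add_apply, LinearMap.add_apply, map_add, hx, hy]
  · rw [mulR_mul, map_mul, Module.End.mul_apply, Module.End.mul_apply, act_fB, act_ψR]
    refine (congrArg (hEnd n (mulR φ fB L (fB b))) (hEnd_natural n (Psi_rho φ f fB ψR hsq σ r) m)).trans ?_
    exact hEnd_natural n (Psi_betaB φ f fB ψR hsq σ b) _

/-- `act` is natural -/
theorem act_natural {K K' : DRing.Cx R} (u : K ⟶ K') (n : ℤ) (x : R')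
    (m : (TK φ ((rsCx f).obj K)).homology n) :
    act φ f fB ψR hp n K' x (homologyMap ((KFlat.totR (T A) (PB φ)).map ((rsCx f).map u)) n m) =
      homologyMap ((KFlat.totR (T A) (PB φ)).map ((rsCx f).map u)) n (act φ f fB ψR hp n K x m) := by
  revert m
  refine pushout_induction φ f fB ψR hp (P := fun x => ∀ m, act φ f fB ψR hp n K' x
    (homologyMap ((KFlat.totR (T A) (PB φ)).map ((rsCx f).map u)) n m) =
      homologyMap ((KFlat.totR (T A) (PB φ)).map ((rsCx f).map u)) n (act φ f fB ψR hp n K x m))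
    (fun m => ?_) (fun x y hx hy m => ?_) (fun b r m => ?_) x
  · rw [map_zero, map_zero, LinearMap.zero_apply, LinearMap.zero_apply, map_zero]
  · rw [map_add, map_add, LinearMap.add_apply, LinearMap.add_apply, map_add, hx, hy]
  · rw [map_mul, map_mul, Module.End.mul_apply, Module.End.mul_apply, act_fB, act_ψR, act_fB, act_ψR]
    refine (congrArg (betaB φ f n K' b) (hEnd_natural n (a := (KFlat.totR (T A) (PB φ)).map (endo f K r))
      (a' := (KFlat.totR (T A) (PB φ)).map (endo f K' r)) ?_ m)).trans ?_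
    · exact totR_endo_comm φ f u r
    · exact hEnd_natural n (TKb_natural φ _ b) _

include hp in
/-- a criterion with one element of `R'` for each prime -/
theorem quasiIso_Psi_of_primes {K : DRing.Cx R} {L : DRing.Cx R'} (σ : K ⟶ (rsCx ψR).obj L)
    (hi : ∀ (P : PrimeSpectrum R') (n : ℤ) m, homologyMap (Psi φ f fB ψR hsq σ) n m = 0 →
      ∃ x ∉ P.asIdeal, act φ f fB ψR hp n K x m = 0)
    (hs : ∀ (P : PrimeSpectrum R') (n : ℤ) t, ∃ x ∉ P.asIdeal, ∃ m,
      homologyMap (Psi φ f fB ψR hsq σ) n m = hEnd n (mulR φ fB L x) t) :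
    QuasiIso (Psi φ f fB ψR hsq σ) := by
  rw [quasiIso_iff]
  intro n
  rw [quasiIsoAt_iff_isIso_homologyMap, ConcreteCategory.isIso_iff_bijective]
  constructor
  · refine (injective_iff_map_eq_zero _).2 fun m hm => ?_
    let I : Ideal R' :=
      { carrier := {x | act φ f fB ψR hp n K x m = 0}
        add_mem' := fun {x y} (hx : act φ f fB ψR hp n K x m = 0) (hy : act φ f fB ψR hp n K y m = 0) => by
          show act φ f fB ψR hp n K (x + y) m = 0
          rw [map_add, LinearMap.add_apply, hx, hy, add_zero]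
        zero_mem' := by
          show act φ f fB ψR hp n K 0 m = 0
          rw [map_zero, LinearMap.zero_apply]
        smul_mem' := fun c x (hx : act φ f fB ψR hp n K x m = 0) => by
          show act φ f fB ψR hp n K (c * x) m = 0
          rw [map_mul, Module.End.mul_apply, hx, map_zero] }
    suffices hI : (1 : R') ∈ I by
      have : act φ f fB ψR hp n K 1 m = 0 := hI
      rwa [map_one, Module.End.one_apply] at this
    by_contra h
    obtain ⟨M, hM, hle⟩ := Ideal.exists_le_maximal I (fun e => h (e ▸ Submodule.mem_top))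
    obtain ⟨x, hx, hx'⟩ := hi ⟨M, hM.isPrime⟩ n m hm
    exact hx (hle hx')
  · intro t
    let I : Ideal R' :=
      { carrier := {x | ∃ m, homologyMap (Psi φ f fB ψR hsq σ) n m = hEnd n (mulR φ fB L x) t}
        add_mem' := fun {x y} ⟨a, ha⟩ ⟨b, hb⟩ => ⟨a + b, by rw [map_add, ha, hb, mulR_add]; rfl⟩
        zero_mem' := ⟨0, by rw [map_zero, mulR_zero]; rfl⟩
        smul_mem' := fun c x ⟨a, ha⟩ => ⟨act φ f fB ψR hp n K c a, by
          rw [← Psi_act φ f fB ψR hsq hp σ n c a, ha]
          show _ = hEnd n (mulR φ fB L (c * x)) t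
          rw [mulR_mul]; rfl⟩ }
    suffices hI : (1 : R') ∈ I by
      obtain ⟨m, hm⟩ := hI
      refine ⟨m, hm.trans ?_⟩
      rw [mulR, endo, one_smul, CategoryTheory.Functor.map_id, CategoryTheory.Functor.map_id, hEnd_id]
      rfl
    by_contra h
    obtain ⟨M, hM, hle⟩ := Ideal.exists_le_maximal I (fun e => h (e ▸ Submodule.mem_top))
    obtain ⟨x, hx, hx'⟩ := hs ⟨M, hM.isPrime⟩ n t
    exact hx (hle hx')

end Square

/-! ### Localisation -/

section Localisation

variable {R : Type u} [CommRing R] (f : A →+* R) (S : Submonoid R) {K K' : DRing.Cx R} (u : K ⟶ K')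
  (hu : ∀ i, IsLocalizedModule S (u.f i).hom)

/-- a summand of the resolved tensor product -/
noncomputable abbrev inT (M : DRing.Cx A) (n p q : ℤ) (h : p + q = n) : (PB φ).X p ⊗ M.X q ⟶ (TK φ M).X n :=
  ιMapBifunctor (PB φ) M (T A) up p q n h

open Classical in
/-- a projection of the resolved tensor product -/
noncomputable def outT (M : DRing.Cx A) (n : ℤ) (j : {j : ℤ × ℤ // j.1 + j.2 = n}) :
    (TK φ M).X n ⟶ (PB φ).X j.1.1 ⊗ M.X j.1.2 :=
  mapBifunctorDesc fun p q _ =>
    if h : p = j.1.1 ∧ q = j.1.2 then eqToHom (by rw [h.1, h.2]; rfl) else 0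

lemma inT_outT (M : DRing.Cx A) (n : ℤ) (j : {j : ℤ × ℤ // j.1 + j.2 = n}) :
    inT φ M n j.1.1 j.1.2 j.2 ≫ outT φ M n j = 𝟙 _ := by
  unfold inT outT
  exact (ι_mapBifunctorDesc _ _ _ _).trans ((dif_pos ⟨rfl, rfl⟩).trans (eqToHom_refl _ _))

lemma inT_outT_ne (M : DRing.Cx A) (n p q : ℤ) (h : p + q = n) (j : {j : ℤ × ℤ // j.1 + j.2 = n})
    (hj : ¬ (p = j.1.1 ∧ q = j.1.2)) : inT φ M n p q h ≫ outT φ M n j = 0 := by
  unfold inT outT
  exact (ι_mapBifunctorDesc _ _ _ _).trans (dif_neg hj)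

lemma inT_natural {M M' : DRing.Cx A} (v : M ⟶ M') (n p q : ℤ) (h : p + q = n) :
    inT φ M n p q h ≫ ((KFlat.totR (T A) (PB φ)).map v).f n = (PB φ).X p ◁ v.f q ≫ inT φ M' n p q h := by
  refine (ι_mapBifunctorMap (𝟙 (PB φ)) v (T A) up p q n h).trans ?_
  rw [HomologicalComplex.id_f, CategoryTheory.Functor.map_id, NatTrans.id_app, Category.id_comp]
  rfl

lemma outT_natural {M M' : DRing.Cx A} (v : M ⟶ M') (n : ℤ) (j : {j : ℤ × ℤ // j.1 + j.2 = n}) :
    ((KFlat.totR (T A) (PB φ)).map v).f n ≫ outT φ M' n j = outT φ M n j ≫ (PB φ).X j.1.1 ◁ v.f j.1.2 := by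
  refine mapBifunctor.hom_ext fun p q h => ?_
  show inT φ M n p q h ≫ _ = inT φ M n p q h ≫ _
  rw [reassoc_of% (inT_natural φ v n p q h)]
  by_cases hj : p = j.1.1 ∧ q = j.1.2
  · obtain ⟨rfl, rfl⟩ := hj
    rw [inT_outT, reassoc_of% (inT_outT φ M n j), Category.comp_id]
  · rw [inT_outT_ne φ M' n p q h j hj, reassoc_of% (inT_outT_ne φ M n p q h j hj), zero_comp, comp_zero]

/-- elements are sums over finitely many summands -/
lemma tot_induction (M : DRing.Cx A) (n : ℤ) {P : (TK φ M).X n → Prop} (h0 : P 0)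
    (ha : ∀ x y, P x → P y → P (x + y)) (hi : ∀ p q h z, P (inT φ M n p q h z)) (x : (TK φ M).X n) : P x := by
  let N : Submodule A ((TK φ M).X n) := Submodule.span A {x | ∃ p q h z, inT φ M n p q h z = x}
  have hN : N = ⊤ := by
    have e : ModuleCat.ofHom N.mkQ = (0 : (TK φ M).X n ⟶ ModuleCat.of A ((TK φ M).X n ⧸ N)) :=
      mapBifunctor.hom_ext fun p q h => ModuleCat.hom_ext (LinearMap.ext fun z =>
        (Submodule.Quotient.mk_eq_zero N).2 (Submodule.subset_span ⟨p, q, h, z, rfl⟩))
    exact top_unique fun y _ => (Submodule.Quotient.mk_eq_zero N).1 (ConcreteCategory.congr_hom e y)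
  suffices ∀ y ∈ N, ∀ a : A, P (a • y) by simpa using this x (hN.symm ▸ Submodule.mem_top) 1
  intro y hy
  induction hy using Submodule.span_induction with
  | mem y hy =>
    obtain ⟨p, q, h, z, rfl⟩ := hy
    intro a
    rw [← map_smul]
    exact hi _ _ _ _
  | zero => intro a; rw [smul_zero]; exact h0
  | add y y' _ _ hy hy' => intro a; rw [smul_add]; exact ha _ _ (hy a) (hy' a)
  | smul c y _ hy => intro a; rw [smul_smul]; exact hy _

open Classical in
lemma exists_sum (M : DRing.Cx A) (n : ℤ) (x : (TK φ M).X n) :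
    ∃ F : Finset {j : ℤ × ℤ // j.1 + j.2 = n}, (∀ j ∉ F, outT φ M n j x = 0) ∧
      x = ∑ j ∈ F, inT φ M n j.1.1 j.1.2 j.2 (outT φ M n j x) := by
  refine tot_induction φ M n (P := fun x => ∃ F : Finset {j : ℤ × ℤ // j.1 + j.2 = n},
    (∀ j ∉ F, outT φ M n j x = 0) ∧ x = ∑ j ∈ F, inT φ M n j.1.1 j.1.2 j.2 (outT φ M n j x))
    ⟨∅, fun j _ => map_zero _, by simp⟩ ?_ ?_ x
  · rintro x y ⟨F, hF, eF⟩ ⟨G, hG, eG⟩
    refine ⟨F ∪ G, fun j hj => ?_, ?_⟩
    · rw [map_add, hF j fun h => hj (Finset.mem_union_left _ h), hG j fun h => hj (Finset.mem_union_right _ h),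
        add_zero]
    · simp only [map_add, Finset.sum_add_distrib]
      rw [← Finset.sum_subset (Finset.subset_union_left (s₂ := G)) (fun j _ hj => by rw [hF j hj, map_zero]),
        ← Finset.sum_subset (Finset.subset_union_right (s₁ := F)) (fun j _ hj => by rw [hG j hj, map_zero]),
        ← eF, ← eG]
  · intro p q h z
    refine ⟨{⟨(p, q), h⟩}, fun j hj => ?_, ?_⟩
    · exact ConcreteCategory.congr_hom (inT_outT_ne φ M n p q h j fun e => hj (Finset.mem_singleton.2
        (Subtype.ext (Prod.ext e.1 e.2).symm))) z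
    · rw [Finset.sum_singleton]
      exact congrArg _ (ConcreteCategory.congr_hom (inT_outT φ M n ⟨(p, q), h⟩) z).symm

include hu in
lemma tot_inj (n : ℤ) (x : (TK φ ((rsCx f).obj K)).X n)
    (hx : ((KFlat.totR (T A) (PB φ)).map ((rsCx f).map u)).f n x = 0) :
    ∃ s ∈ S, ((KFlat.totR (T A) (PB φ)).map (endo f K s)).f n x = 0 := by
  classical
  obtain ⟨F, hF, eF⟩ := exists_sum φ _ n x
  have hloc : ∀ j, ∃ s ∈ S, ∀ s' ∈ S, ((PB φ).X j.1.1 ◁ (endo f K (s' * s)).f j.1.2) (outT φ _ n j x) = 0 := by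
    intro j
    let v : ((rsCx f).obj K).X j.1.2 →ₗ[A] ((rsCx f).obj K').X j.1.2 := (((rsCx f).map u).f j.1.2).hom
    haveI : Module.Flat A ((PB φ).X j.1.1) := res_flat ((single (ModuleCat.{u} A) up 0).obj (BA φ)) j.1.1
    have hz : v.lTensor ((PB φ).X j.1.1) (outT φ _ n j x) = 0 := by
      refine (ConcreteCategory.congr_hom (outT_natural φ ((rsCx f).map u) n j) x).symm.trans ?_
      show outT φ _ n j (((KFlat.totR (T A) (PB φ)).map ((rsCx f).map u)).f n x) = 0
      rw [hx, map_zero]
    obtain ⟨y, hy⟩ := (Module.Flat.lTensor_exact _ (LinearMap.exact_subtype_ker_map v) _).1 hz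
    rw [← hy]
    clear hy hz
    induction y using TensorProduct.induction_on with
    | zero => exact ⟨1, one_mem _, fun s' _ => by rw [map_zero]; exact map_zero _⟩
    | tmul m k =>
      haveI := hu j.1.2
      obtain ⟨⟨s, hs⟩, e⟩ := IsLocalizedModule.exists_of_eq (S := S) (f := (u.f j.1.2).hom)
        (x₁ := (show K.X j.1.2 from k.1)) (x₂ := 0) ((show (u.f j.1.2).hom _ = 0 from k.2).trans (map_zero _).symm)
      refine ⟨s, hs, fun s' _ => ?_⟩
      show m ⊗ₜ[A] (endo f K (s' * s)).f j.1.2 k.1 = 0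
      have e' : (endo f K (s' * s)).f j.1.2 k.1 = 0 := by
        show (s' * s) • (show K.X j.1.2 from k.1) = 0
        rw [mul_smul]
        exact (congrArg (s' • ·) (e.trans (smul_zero _))).trans (smul_zero _)
      rw [e', TensorProduct.tmul_zero]
    | add y y' hy hy' =>
      obtain ⟨s, hs, h1⟩ := hy
      obtain ⟨t, ht, h2⟩ := hy'
      refine ⟨t * s, mul_mem ht hs, fun s' hs' => ?_⟩
      rw [map_add]
      refine (map_add _ _ _).trans ?_
      have e1 := h1 (s' * t) (mul_mem hs' ht)
      have e2 := h2 (s' * s) (mul_mem hs' hs)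
      rw [mul_assoc] at e1
      rw [mul_assoc, mul_comm s t] at e2
      rw [e1, e2, add_zero]
  choose s hs hs' using hloc
  refine ⟨∏ j ∈ F, s j, prod_mem fun j _ => hs j, ?_⟩
  rw [eF, map_sum]
  refine Finset.sum_eq_zero fun j hj => ?_
  refine (ConcreteCategory.congr_hom (inT_natural φ (endo f K (∏ j ∈ F, s j)) n j.1.1 j.1.2 j.2) _).trans ?_
  show inT φ _ n j.1.1 j.1.2 j.2 (((PB φ).X j.1.1 ◁ (endo f K (∏ j ∈ F, s j)).f j.1.2) (outT φ _ n j x)) = 0
  have e := hs' j (∏ i ∈ F.erase j, s i) (prod_mem fun i _ => hs i)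
  rw [Finset.prod_erase_mul _ _ hj] at e
  rw [e, map_zero]

include hu in
lemma tot_surj (n : ℤ) (y : (TK φ ((rsCx f).obj K')).X n) :
    ∃ s ∈ S, ∃ x, ((KFlat.totR (T A) (PB φ)).map ((rsCx f).map u)).f n x =
      ((KFlat.totR (T A) (PB φ)).map (endo f K' s)).f n y := by
  have hmul : ∀ (L : DRing.Cx R) s t (z : (TK φ ((rsCx f).obj L)).X n),
      ((KFlat.totR (T A) (PB φ)).map (endo f L (s * t))).f n z =
        ((KFlat.totR (T A) (PB φ)).map (endo f L s)).f n (((KFlat.totR (T A) (PB φ)).map (endo f L t)).f n z) := by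
    intro L s t z
    rw [← ConcreteCategory.comp_apply, ← comp_f, ← Functor.map_comp, endo, endo, endo, ← Functor.map_comp,
      Linear.smul_comp, Category.id_comp, smul_smul, mul_comm]
  have hnat : ∀ t, (KFlat.totR (T A) (PB φ)).map (endo f K t) ≫ (KFlat.totR (T A) (PB φ)).map ((rsCx f).map u) =
      (KFlat.totR (T A) (PB φ)).map ((rsCx f).map u) ≫ (KFlat.totR (T A) (PB φ)).map (endo f K' t) := by
    intro t
    exact (totR_endo_comm φ f u t).symm
  have hcomm : ∀ t z, ((KFlat.totR (T A) (PB φ)).map ((rsCx f).map u)).f n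
      (((KFlat.totR (T A) (PB φ)).map (endo f K t)).f n z) =
    ((KFlat.totR (T A) (PB φ)).map (endo f K' t)).f n (((KFlat.totR (T A) (PB φ)).map ((rsCx f).map u)).f n z) :=
    fun t z => ConcreteCategory.congr_hom (HomologicalComplex.congr_hom (hnat t) n) z
  refine tot_induction φ _ n (P := fun y => ∃ s ∈ S, ∃ x, ((KFlat.totR (T A) (PB φ)).map ((rsCx f).map u)).f n x =
    ((KFlat.totR (T A) (PB φ)).map (endo f K' s)).f n y) ⟨1, one_mem _, 0, by rw [map_zero, map_zero]⟩ ?_ ?_ y
  · rintro a b ⟨s, hs, x, hx⟩ ⟨t, ht, z, hz⟩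
    refine ⟨t * s, mul_mem ht hs, ((KFlat.totR (T A) (PB φ)).map (endo f K t)).f n x +
      ((KFlat.totR (T A) (PB φ)).map (endo f K s)).f n z, ?_⟩
    rw [map_add, map_add, hcomm, hcomm, hx, hz, ← hmul, ← hmul, mul_comm s t]
  · intro p q h z
    suffices ∃ s ∈ S, ∃ w, ((PB φ).X p ◁ ((rsCx f).map u).f q) w = ((PB φ).X p ◁ (endo f K' s).f q) z by
      obtain ⟨s, hs, w, hw⟩ := this
      refine ⟨s, hs, inT φ _ n p q h w, ?_⟩
      refine (ConcreteCategory.congr_hom (inT_natural φ ((rsCx f).map u) n p q h) w).trans ?_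
      refine Eq.trans ?_ (ConcreteCategory.congr_hom (inT_natural φ (endo f K' s) n p q h) z).symm
      exact congrArg (inT φ _ n p q h) hw
    induction z using TensorProduct.induction_on with
    | zero => exact ⟨1, one_mem _, 0, (map_zero _).trans (map_zero _).symm⟩
    | tmul m k =>
      haveI := hu q
      obtain ⟨⟨v, s, hs⟩, hv⟩ := IsLocalizedModule.surj S (u.f q).hom (show K'.X q from k)
      exact ⟨s, hs, m ⊗ₜ[A] (show ((rsCx f).obj K).X q from v), congrArg (m ⊗ₜ[A] ·) hv.symm⟩
    | add a b ha hb =>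
      obtain ⟨s, hs, w, hw⟩ := ha
      obtain ⟨t, ht, v, hv⟩ := hb
      have em : ∀ (L : DRing.Cx R) c d (e : ((PB φ).X p ⊗ ((rsCx f).obj L).X q : ModuleCat.{u} A)),
          ((PB φ).X p ◁ (endo f L (c * d)).f q) e = ((PB φ).X p ◁ (endo f L c).f q) (((PB φ).X p ◁ (endo f L d).f q) e) := by
        intro L c d e
        rw [← ConcreteCategory.comp_apply, ← MonoidalCategory.whiskerLeft_comp, ← comp_f, endo, endo, endo,
          ← Functor.map_comp, Linear.smul_comp, Category.id_comp, smul_smul, mul_comm]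
      have ec : ∀ c e, ((PB φ).X p ◁ ((rsCx f).map u).f q) (((PB φ).X p ◁ (endo f K c).f q) e) =
          ((PB φ).X p ◁ (endo f K' c).f q) (((PB φ).X p ◁ ((rsCx f).map u).f q) e) := by
        intro c e
        rw [← ConcreteCategory.comp_apply, ← ConcreteCategory.comp_apply, ← MonoidalCategory.whiskerLeft_comp,
          ← MonoidalCategory.whiskerLeft_comp, ← comp_f, ← comp_f, endo, endo, ← Functor.map_comp, ← Functor.map_comp,
          Linear.smul_comp, Linear.comp_smul, Category.id_comp, Category.comp_id]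
      refine ⟨t * s, mul_mem ht hs, ((PB φ).X p ◁ (endo f K t).f q) w + ((PB φ).X p ◁ (endo f K s).f q) v, ?_⟩
      refine (map_add _ _ _).trans ?_
      rw [ec, ec, hw, hv, ← em, ← em, mul_comm s t]
      exact (map_add _ _ _).symm

include hu in
/-- localisations stay localisations on the cohomology of the resolved tensor product -/
theorem homology_TK_localisation (n : ℤ) :
    (∀ m, homologyMap ((KFlat.totR (T A) (PB φ)).map ((rsCx f).map u)) n m = 0 →
      ∃ s ∈ S, rho φ f n K s m = 0) ∧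
    ∀ t, ∃ s ∈ S, ∃ m, homologyMap ((KFlat.totR (T A) (PB φ)).map ((rsCx f).map u)) n m = rho φ f n K' s t := by
  let U := (KFlat.totR (T A) (PB φ)).map ((rsCx f).map u)
  have hp : (up).prev n = n - 1 := (up).prev_eq' (by simp)
  have hmul : ∀ (L : DRing.Cx R) s t i z, ((KFlat.totR (T A) (PB φ)).map (endo f L (s * t))).f i z =
      ((KFlat.totR (T A) (PB φ)).map (endo f L s)).f i (((KFlat.totR (T A) (PB φ)).map (endo f L t)).f i z) := by
    intro L s t i z
    rw [← ConcreteCategory.comp_apply, ← comp_f, ← Functor.map_comp, endo, endo, endo, ← Functor.map_comp,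
      Linear.smul_comp, Category.id_comp, smul_smul, mul_comm]
  refine ⟨fun m hm => ?_, fun t => ?_⟩
  · obtain ⟨z, rfl⟩ := FlatCxBase.cls_surjective n m
    rw [FlatCxBase.homologyMap_cls, FlatCxBase.cls_eq_zero_iff n hp] at hm
    obtain ⟨w, hw⟩ := hm
    obtain ⟨s, hs, x, hx⟩ := tot_surj φ f S u hu (n - 1) w
    have e : U.f n (((KFlat.totR (T A) (PB φ)).map (endo f K s)).f n z.1 - (TK φ ((rsCx f).obj K)).d (n - 1) n x) = 0 := by
      rw [map_sub, ← comm_apply U, hx, comm_apply, hw, sub_eq_zero]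
      exact ConcreteCategory.congr_hom (HomologicalComplex.congr_hom
        (show (KFlat.totR (T A) (PB φ)).map (endo f K s) ≫ U = U ≫ (KFlat.totR (T A) (PB φ)).map (endo f K' s) by
          exact (totR_endo_comm φ f u _).symm) n) z.1
    obtain ⟨s₂, hs₂, e₂⟩ := tot_inj φ f S u hu n _ e
    rw [map_sub, sub_eq_zero, ← hmul, ← comm_apply] at e₂
    refine ⟨s₂ * s, mul_mem hs₂ hs, ?_⟩
    show (homologyMap ((KFlat.totR (T A) (PB φ)).map (endo f K (s₂ * s))) n).hom (FlatCxBase.cls _ n z) = 0
    rw [FlatCxBase.homologyMap_cls, FlatCxBase.cls_eq_zero_iff n hp]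
    exact ⟨_, e₂.symm⟩
  · obtain ⟨y, rfl⟩ := FlatCxBase.cls_surjective n t
    obtain ⟨s, hs, x, hx⟩ := tot_surj φ f S u hu n y.1
    have e : U.f _ ((TK φ ((rsCx f).obj K)).d n ((up).next n) x) = 0 := by
      rw [← comm_apply U, hx, comm_apply, show (TK φ ((rsCx f).obj K')).d n ((up).next n) y.1 = 0 from y.2, map_zero]
    obtain ⟨s₂, hs₂, e₂⟩ := tot_inj φ f S u hu _ _ e
    rw [← comm_apply] at e₂
    refine ⟨s₂ * s, mul_mem hs₂ hs, FlatCxBase.cls _ n ⟨_, e₂⟩, ?_⟩
    show (homologyMap U n).hom _ = (homologyMap ((KFlat.totR (T A) (PB φ)).map (endo f K' (s₂ * s))) n).hom (FlatCxBase.cls _ n y)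
    rw [FlatCxBase.homologyMap_cls, FlatCxBase.homologyMap_cls]
    refine congrArg _ (Subtype.ext ?_)
    refine (ConcreteCategory.congr_hom (HomologicalComplex.congr_hom
        (show (KFlat.totR (T A) (PB φ)).map (endo f K s₂) ≫ U = U ≫ (KFlat.totR (T A) (PB φ)).map (endo f K' s₂) by
          exact (totR_endo_comm φ f u _).symm) n) x).trans ?_
    show ((KFlat.totR (T A) (PB φ)).map (endo f K' s₂)).f n (U.f n x) = _
    rw [hx, ← hmul]

end Localisation

end Groth.DerivedCoh.BaseChange
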