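import Groth.Agent.DerivedCoh.BaseChange.RelAffine
import Groth.Agent.DerivedCoh.BaseChange.Derived
import Groth.Agent.DerivedCoh.KFlat.LTensorMod
import Groth.Agent.DerivedCoh.KFlat.TensorPullback
import Groth.Agent.DerivedCoh.PerfPush.Amp
import Groth.Agent.DAlg.ResTot
import Groth.Agent.DAlg.TorAmpTot
import Groth.Agent.QCohMod.PullbackQCoh
import Mathlib.RingTheory.Flat.Localization

/-!
Base change for direct images of `E ⊗^L G` with `G` flat over the base.
-/

universe u

open CategoryTheory CategoryTheory.Limits AlgebraicGeometry HomologicalComplex MonoidalCategory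

namespace Groth.DerivedCoh.BaseChange

open Groth.DerivedCoh.KFlat (stk pushCx pullCx pullStkIso kres kresAug L₀ tmCx ltmIso tmStkIso)
open DAlg KFlatMod

attribute [local instance] HasDerivedCategory.standard
set_option linter.style.haveILetI false

local notation "up" => ComplexShape.up ℤ

section Ring

/-- commutativity of the tensor product of complexes -/
noncomputable def totComm {R : Type u} [CommRing R] (L P : DRing.Cx R) :
    KFlat.tot (T R) L P ≅ KFlat.tot (T R) P L :=
  (mapBifunctorFlipIso L P (T R) up).symm ≪≫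
    (HomologicalComplex₂.totalFunctor (ModuleCat.{u} R) up up up).mapIso (biFlipIso P L)

/-- a K-flat complex tensored with a module flat over the base is K-flat over the base -/
theorem isKFlat_rsCx_tensor {A O : Type u} [CommRing A] [CommRing O] (h : A →+* O) {M : DRing.Cx O}
    (hM : KFlat.IsKFlat (T O) M) (G : ModuleCat.{u} O)
    (hG : Module.Flat A ((ModuleCat.restrictScalars h).obj G)) :
    KFlat.IsKFlat (T A) ((rsCx h).obj ((((T O).obj G).mapHomologicalComplex up).obj M)) := by
  intro L hL i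
  haveI := hG
  have hGL : ((((T O).obj G).mapHomologicalComplex up).obj (extCx h L)).Acyclic := fun j => by
    have h1 : ((((T A).obj ((ModuleCat.restrictScalars h).obj G)).mapHomologicalComplex up).obj L).ExactAt j :=
      ShortComplex.Exact.map (hL j) ((T A).obj ((ModuleCat.restrictScalars h).obj G))
    exact (exactAt_restrictCx_iff h _ j).1
      (h1.of_iso ((NatIso.mapHomologicalComplex (KFlat.baseTensorIso h G) up).app L).symm)
  refine ExactAt.of_iso ?_ (totComm L _).symm
  refine ExactAt.of_iso ((exactAt_restrictCx_iff h _ i).2 ?_)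
    (resTotIso h ((((T O).obj G).mapHomologicalComplex up).obj M) L)
  refine ExactAt.of_iso ?_ (assocTotIso G M (extCx h L))
  refine ExactAt.of_iso ?_
    ((((T O).obj G).mapHomologicalComplex up).mapIso (totComm (extCx h L) M))
  exact ExactAt.of_iso (hM _ hGL i) (assocTotIso G (extCx h L) M).symm

end Ring

variable {X S X' S' : Scheme.{u}} {f : X ⟶ S} {g : S' ⟶ S} {g' : X' ⟶ X} {f' : X' ⟶ S'}

/-- inverse images of twisted complexes -/
noncomputable def pullTmIso (g' : X' ⟶ X) (G : X.Modules) :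
    tmCx G ⋙ pullCx g' ⟶ pullCx g' ⋙ tmCx ((Scheme.Modules.pullback g').obj G) where
  app M :=
    { f := fun n => (KFlat.pullTensor g' (M.X n) G).hom
      comm' := fun i j _ => (KFlat.pullTensor_left g' (M.d i j) G).symm }
  naturality M N u := HomologicalComplex.hom_ext _ _ fun n => KFlat.pullTensor_left g' (u.f n) G

instance (g' : X' ⟶ X) (G : X.Modules) (M : CochainComplex X.Modules ℤ) : IsIso ((pullTmIso g' G).app M) :=
  haveI : ∀ n, IsIso (((pullTmIso g' G).app M).f n) := fun n =>
    inferInstanceAs (IsIso (KFlat.pullTensor g' (M.X n) G).hom)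
  HomologicalComplex.Hom.isIso_of_components _

lemma flat_stalkHom (G : X.Modules) (hflat : FlatMod.IsFlatOver f G) {V : S.Opens} (hV : IsAffineOpen V)
    {U : X.Opens} (eU : U ≤ f ⁻¹ᵁ V) {x : X} (hx : x ∈ U) :
    Module.Flat Γ(S, V) ((ModuleCat.restrictScalars (stalkHom f eU hx)).obj ((stk x).obj G)) := by
  letI := TopCat.Presheaf.algebra_section_stalk S.presheaf ⟨f x, eU hx⟩
  letI := FlatMod.moduleStalkOver f G x
  haveI : Module.Flat (S.presheaf.stalk (f x)) (G.presheaf.stalk x) := hflat x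
  letI : Module Γ(S, V) (G.presheaf.stalk x) := Module.compHom _ (algebraMap Γ(S, V) (S.presheaf.stalk (f x)))
  haveI : IsScalarTower Γ(S, V) (S.presheaf.stalk (f x)) (G.presheaf.stalk x) :=
    IsScalarTower.of_algebraMap_smul fun _ _ => rfl
  haveI := hV.isLocalization_stalk ⟨f x, eU hx⟩
  haveI : Module.Flat Γ(S, V) (S.presheaf.stalk (f x)) :=
    IsLocalization.flat _ (hV.primeIdealOf ⟨f x, eU hx⟩).asIdeal.primeCompl
  haveI : Module.Flat Γ(S, V) (G.presheaf.stalk x) := Module.Flat.trans Γ(S, V) (S.presheaf.stalk (f x)) _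
  let e : G.presheaf.stalk x ≃ₗ[Γ(S, V)] (ModuleCat.restrictScalars (stalkHom f eU hx)).obj ((stk x).obj G) :=
    { AddEquiv.refl (G.presheaf.stalk x) with
      map_smul' := fun a m => by
        show f.stalkMap x (S.presheaf.germ V (f x) (eU hx) a) • m =
          X.presheaf.germ U x hx (f.appLE V U eU a) • m
        rw [Scheme.Hom.germ_stalkMap_apply]
        congr 1
        exact (TopCat.Presheaf.germ_res_apply X.presheaf (homOfLE eU) x hx (f.app V a)).symm }
  exact Module.Flat.of_linearEquiv e.symm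

/-- the data of base change for `M ⊗ G` -/
theorem bcRel_lam (g' : X' ⟶ X) (G : X.Modules) (hG : Coh.IsQCoh G) (hflat : FlatMod.IsFlatOver f G)
    [DCoh.HasLTensorMod G] [DCoh.HasLpull g'] [DCoh.HasLTensorMod ((Scheme.Modules.pullback g').obj G)]
    {M : CochainComplex X.Modules ℤ} (hM : KFlat.IsKFlat (KFlat.T X) M) (hq : DCoh.IsQCohD ((L₀ X).obj M)) :
    BCRel f g' (lam g' ((tmCx G).obj M)) := by
  let N := (tmCx G).obj M
  haveI := quasiIso_eta g' N
  have hqN : DCoh.IsQCohD (DerivedCategory.Q.obj N) :=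
    Groth.Misc4.QCohDPerf.isQCohD_of_iso
      (ltmIso G M hM ≪≫ (DerivedCategory.quotientCompQhIso X.Modules).app N)
      (PerfPush.isQCohD_LTensorMod G hG _ hq)
  refine ⟨Nice.mappingCocone _ (nice_kres N) (Nice.mappingCone _ (Nice.push g' ((pullCx g').obj N))
    (nice_kres _)), nice_kres _,
    Groth.Misc4.QCohDPerf.isQCohD_of_iso (asIso (DerivedCategory.Q.map (eta g' N))) hqN, ?_, fun x' =>
    ⟨(stkCx (g' x')).obj N, (stkCx (g' x')).map (eta g' N), ?_, ?_, ?_⟩⟩
  · haveI : G.IsQuasicoherent := hG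
    haveI := isIso_alpha_app g' hM
    let e : (L₀ X').obj ((pullCx g').obj N) ≅
        (DCoh.LTensorMod ((Scheme.Modules.pullback g').obj G)).obj ((DCoh.Lpull g').obj ((L₀ X).obj M)) :=
      (L₀ X').mapIso (asIso ((pullTmIso g' G).app M)) ≪≫
        (ltmIso _ _ (KFlat.isKFlat_pullCx g' M hM)).symm ≪≫
        (DCoh.LTensorMod _).mapIso (asIso ((alpha g').app M)).symm
    haveI : QuasiIso ((kresAug X').app ((pullCx g').obj N)) := inferInstance
    exact Groth.Misc4.QCohDPerf.isQCohD_of_iso
      (e.symm ≪≫ (DerivedCategory.quotientCompQhIso X'.Modules).app _ ≪≫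
        asIso (DerivedCategory.Q.map ((kresAug X').app ((pullCx g').obj N))))
      (PerfPush.isQCohD_LTensorMod _ (Groth.QCohMod.isQCoh_pullback_obj g' G) _
        (Groth.Misc4.QCohDColim.isQCohD_Lpull g' hq))
  · intro V hV U eU hx
    exact KFlat.IsKFlat.of_iso
      (isKFlat_rsCx_tensor (stalkHom f eU hx)
        (isKFlatCx_iff.1 ((KFlat.isKFlat_iff_stalk M).1 ((KFlat.isKFlat_iff M).2 hM) (g' x')))
        ((stk (g' x')).obj G) (flat_stalkHom G hflat hV eU hx))
      ((rsCx (stalkHom f eU hx)).mapIso ((NatIso.mapHomologicalComplex (tmStkIso G (g' x')) up).app M).symm)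
  · infer_instance
  let l0 : N ⟶ (pushCx g').obj ((Jc g').obj N) := (lam0 g').app N
  have e1 : (stkCx (g' x')).map (eta g' N) ≫ stkLam g' x' (lam g' N) = stkLam g' x' l0 := by
    rw [stkLam, stkLam, ← Category.assoc, ← Functor.map_comp, eta_lam]
  have e2 := (congrArg (tr _) e1).trans (tr_stkLam g' x' N ((Jc g').obj N) l0)
  have e3 : ((ExtZero.cxAdj (Scheme.Modules.pullbackPushforwardAdjunction g')).homEquiv N _).symm l0 =
      (kresAug X').app ((pullCx g').obj N) := cxAdj_symm_lam0 g' N
  let a : (pullCx g').obj N ⟶ (Jc g').obj N := (kresAug X').app ((pullCx g').obj N)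
  haveI : QuasiIso a := inferInstanceAs (QuasiIso ((kresAug X').app ((pullCx g').obj N)))
  haveI ha : QuasiIso ((stkCx x').map a) := inferInstance
  rw [e2, e3]
  haveI : QuasiIso ((NatIso.mapHomologicalComplex (pullStkIso g' x') up).inv.app N) := quasiIso_of_isIso _
  exact (quasiIso_iff_comp_left ((NatIso.mapHomologicalComplex (pullStkIso g' x') up).inv.app N) _).2 ha

/-- base change for `E ⊗^L G` with `G` flat over the base -/
theorem nonempty_baseChange_flatOver (sq : IsPullback g' f' f g) [QuasiCompact f] [QuasiSeparated f]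
    (E : DCoh.D X) (hE : DCoh.IsQCohD E) (G : X.Modules) (hG : Coh.IsQCoh G) (hflat : FlatMod.IsFlatOver f G)
    [DCoh.HasLTensorMod G] [DCoh.HasRpush f] [DCoh.HasLpull g] [DCoh.HasLpull g'] [DCoh.HasRpush f']
    [DCoh.HasLTensorMod ((Scheme.Modules.pullback g').obj G)] :
    Nonempty ((DCoh.Lpull g).obj ((DCoh.Rpush f).obj ((DCoh.LTensorMod G).obj E)) ≅
      (DCoh.Rpush f').obj ((DCoh.LTensorMod ((Scheme.Modules.pullback g').obj G)).obj ((DCoh.Lpull g').obj E))) := by
  obtain ⟨K, hK⟩ := HomotopyCategory.quotient_obj_surjective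
    ((DerivedCategory.Qh (C := X.Modules)).objPreimage E)
  let M := (KFlat.flatResolution X).obj K
  haveI := KFlat.flatResolution_quasiIso K
  haveI := KFlat.isIso_L₀_map ((KFlat.flatResolutionAug X).app K)
  let i : (L₀ X).obj M ≅ E := asIso ((L₀ X).map ((KFlat.flatResolutionAug X).app K)) ≪≫
    DerivedCategory.Qh.mapIso (eqToIso hK) ≪≫ DerivedCategory.Qh.objObjPreimageIso E
  have hM : KFlat.IsKFlat (KFlat.T X) M := KFlat.flatResolution_isKFlat K
  have hq := Groth.Misc4.QCohDPerf.isQCohD_of_iso i.symm hE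
  have hbc := bcGen_of_bcRel sq (bcRel_lam g' G hG hflat hM hq)
  let N := (tmCx G).obj M
  let J := (Jc g').obj N
  let P := (KFlat.flatResolution S).obj ((pushCx f).obj (W g' N))
  let q : P ⟶ (pushCx f).obj (W g' N) := (KFlat.flatResolutionAug S).app _
  haveI : QuasiIso q := KFlat.flatResolution_quasiIso _
  have hP : KFlat.IsKFlat (KFlat.T S) P := KFlat.flatResolution_isKFlat _
  let t := ((ExtZero.cxAdj (Scheme.Modules.pullbackPushforwardAdjunction g)).homEquiv P ((pushCx f').obj J)).symm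
    (q ≫ phiBC sq.w (lam g' N))
  haveI : QuasiIso t := quasiIso_adjunct sq hbc hP q
  haveI := quasiIso_eta g' N
  haveI := KFlat.isIso_L₀_map (eta g' N)
  haveI := KFlat.isIso_L₀_map q
  haveI := KFlat.isIso_L₀_map t
  haveI := KFlat.isIso_L₀_map ((kresAug X').app ((pullCx g').obj N))
  haveI := isIso_alpha_app g hP
  haveI := isIso_alpha_app g' hM
  haveI := isIso_beta_app f hbc.niceC.weak
  haveI := isIso_beta_app f' hbc.niceD.weak
  let eL : (DCoh.Rpush f).obj ((DCoh.LTensorMod G).obj E) ≅ (L₀ S).obj P :=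
    (DCoh.Rpush f).mapIso ((DCoh.LTensorMod G).mapIso i.symm ≪≫ ltmIso G M hM ≪≫ asIso ((L₀ X).map (eta g' N))) ≪≫
      (asIso ((beta f).app (W g' N))).symm ≪≫ (asIso ((L₀ S).map q)).symm
  let eR : (L₀ X').obj J ≅
      (DCoh.LTensorMod ((Scheme.Modules.pullback g').obj G)).obj ((DCoh.Lpull g').obj E) :=
    (asIso ((L₀ X').map ((kresAug X').app ((pullCx g').obj N)))).symm ≪≫
      (L₀ X').mapIso (asIso ((pullTmIso g' G).app M)) ≪≫
        (ltmIso _ _ (KFlat.isKFlat_pullCx g' M hM)).symm ≪≫
        (DCoh.LTensorMod _).mapIso ((asIso ((alpha g').app M)).symm ≪≫ (DCoh.Lpull g').mapIso i)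
  exact ⟨(DCoh.Lpull g).mapIso eL ≪≫ asIso ((alpha g).app P) ≪≫ asIso ((L₀ S').map t) ≪≫
    asIso ((beta f').app J) ≪≫ (DCoh.Rpush f').mapIso eR⟩

end Groth.DerivedCoh.BaseChange
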