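import Groth.Agent.DerivedCoh.BaseChange.RelAlg

/-!
Base change on sections over affine opens, for complexes whose stalks are K-flat over the base.
-/

universe u

open CategoryTheory CategoryTheory.Limits AlgebraicGeometry HomologicalComplex TopologicalSpace
open scoped ChangeOfRings

namespace Groth.DerivedCoh.BaseChange

open Groth.DerivedCoh.KFlat (stk pushCx)
open Groth.QCohMod (res germ germ_res)
open DAlg KFlatMod

attribute [local instance] HasDerivedCategory.standard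
set_option linter.style.haveILetI false

local notation "up" => ComplexShape.up ℤ

section Rings

variable {A B : Type u} [CommRing A] [CommRing B] (φ : A →+* B)

lemma quasiIso_etaT_of_isKFlat {K : DRing.Cx A} (hK : KFlat.IsKFlat (T A) K) : QuasiIso (etaT φ K) := by
  haveI := resAug_quasiIso (R := A) (SB0 φ)
  haveI : QuasiIso (augT φ K) := hK.quasiIso_totL ((resAug A).app (SB0 φ))
  rw [etaT]
  infer_instance

/-- restrictions compose -/
noncomputable def rsCompIso {R O : Type u} [CommRing R] [CommRing O] (f : A →+* R) (ρ : R →+* O) (h : A →+* O)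
    (e : h = ρ.comp f) (P : DRing.Cx O) : (rsCx h).obj P ≅ (rsCx f).obj ((rsCx ρ).obj P) :=
  HomologicalComplex.Hom.isoOfComponents
    (fun i => ({ AddEquiv.refl (P.X i) with
        map_smul' := fun a z => by subst e; rfl } :
      (ModuleCat.restrictScalars h).obj (P.X i) ≃ₗ[A]
        (ModuleCat.restrictScalars f).obj ((ModuleCat.restrictScalars ρ).obj (P.X i))).toModuleIso)
    fun _ _ _ => rfl

/-- local modules are their own localisations -/
lemma isIso_tr_id {R O : Type u} [CommRing R] [CommRing O] (ρ : R →+* O) (S : Submonoid R)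
    (hS : letI := ρ.toAlgebra; IsLocalization S O) (P : DRing.Cx O) :
    IsIso (tr ρ (𝟙 ((rsCx ρ).obj P))) := by
  have hu : ∀ h ∈ S, IsUnit (ρ h) := fun h hh =>
    letI := ρ.toAlgebra
    haveI : IsLocalization S O := hS
    IsLocalization.map_units O ⟨h, hh⟩
  have e := unit_tr' ρ (𝟙 ((rsCx ρ).obj P))
  suffices ∀ i, IsIso ((tr ρ (𝟙 ((rsCx ρ).obj P))).f i) from HomologicalComplex.Hom.isIso_of_components _
  intro i
  let N := ((rsCx ρ).obj P).X i
  let η : N ⟶ ((rsCx ρ).obj ((exCx ρ).obj ((rsCx ρ).obj P))).X i := ((trAdj ρ).unit.app ((rsCx ρ).obj P)).f i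
  let c := ((rsCx ρ).map (tr ρ (𝟙 ((rsCx ρ).obj P)))).f i
  have hc : η ≫ c = 𝟙 _ := HomologicalComplex.congr_hom e i
  haveI : IsLocalizedModule S η.hom := isLocalizedModule_unit ρ S hS N
  have hη : Function.Bijective η := by
    refine ⟨fun a b h => ?_, fun z => ?_⟩
    · have := congrArg c h
      rwa [← ConcreteCategory.comp_apply, ← ConcreteCategory.comp_apply, hc] at this
    · obtain ⟨⟨v, s, hs⟩, hv⟩ := IsLocalizedModule.surj S η.hom z
      obtain ⟨w, hw⟩ := (act_rsCx ρ S hu P s hs i).2 v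
      refine ⟨w, (act_rsCx ρ S hu ((exCx ρ).obj ((rsCx ρ).obj P)) s hs i).1 ?_⟩
      show s • η w = s • z
      rw [← map_smul, show s • w = v from hw]
      exact hv.symm
  rw [ConcreteCategory.isIso_iff_bijective]
  have e2 : ∀ w, c (η w) = w := fun w => ConcreteCategory.congr_hom hc w
  refine ⟨fun a b h => ?_, fun z => ⟨η z, e2 z⟩⟩
  obtain ⟨a, rfl⟩ := hη.2 a
  obtain ⟨b, rfl⟩ := hη.2 b
  exact congrArg η ((e2 a).symm.trans (h.trans (e2 b)))
where
  unit_tr' {R O : Type u} [CommRing R] [CommRing O] (ρ : R →+* O) {Q : DRing.Cx R} {L : DRing.Cx O}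
      (g : Q ⟶ (rsCx ρ).obj L) : (trAdj ρ).unit.app Q ≫ (rsCx ρ).map (tr ρ g) = g :=
    ((trAdj ρ).homEquiv_unit _ _ _).symm.trans (((trAdj ρ).homEquiv Q L).apply_symm_apply g)

variable {R R' : Type u} [CommRing R] [CommRing R'] (f : A →+* R) (fB : B →+* R') (ψR : R →+* R')
  (hsq : ψR.comp f = fB.comp φ)
  (hp : CategoryTheory.IsPushout (CommRingCat.ofHom φ) (CommRingCat.ofHom f) (CommRingCat.ofHom fB) (CommRingCat.ofHom ψR))

lemma mulR_natural (n : ℤ) {L L' : DRing.Cx R'} (v : L ⟶ L') (x : R') (t : ((rsCx φ).obj ((rsCx fB).obj L)).homology n) :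
    hEnd n (mulR φ fB L' x) (homologyMap ((rsCx φ).map ((rsCx fB).map v)) n t) =
      homologyMap ((rsCx φ).map ((rsCx fB).map v)) n (hEnd n (mulR φ fB L x) t) :=
  hEnd_natural n (((rsCx φ).map_comp _ _).symm.trans
    (((rsCx φ).congr_map (endo_comm fB v x)).trans ((rsCx φ).map_comp _ _))) t

/-- localisations on cycles are localisations on cohomology -/
lemma loc_homology (SB : Submonoid R') {L L' : DRing.Cx R'} {v : L ⟶ L'} (h : Loc SB v) (n : ℤ) :
    (∀ t, homologyMap ((rsCx φ).map ((rsCx fB).map v)) n t = 0 → ∃ x ∈ SB, hEnd n (mulR φ fB L x) t = 0) ∧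
    ∀ t, ∃ x ∈ SB, ∃ m, homologyMap ((rsCx φ).map ((rsCx fB).map v)) n m = hEnd n (mulR φ fB L' x) t := by
  have hp : (up).prev n = n - 1 := (up).prev_eq' (by simp)
  have hn : (up).next n = n + 1 := (up).next_eq' (by simp)
  refine ⟨fun t ht => ?_, fun t => ?_⟩
  · obtain ⟨z, rfl⟩ := FlatCxBase.cls_surjective n t
    rw [FlatCxBase.homologyMap_cls, FlatCxBase.cls_eq_zero_iff n hp] at ht
    obtain ⟨w, hw⟩ := ht
    have hz : L.d n (n + 1) (show L.X n from z.1) = 0 := hn ▸ z.2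
    obtain ⟨x, hx, u, hu⟩ := h.inj n (show L.X n from z.1) hz (show L'.X (n - 1) from w) hw
    refine ⟨x, hx, ?_⟩
    show (homologyMap (mulR φ fB L x) n).hom (FlatCxBase.cls _ n z) = 0
    rw [FlatCxBase.homologyMap_cls, FlatCxBase.cls_eq_zero_iff n hp]
    exact ⟨u, hu⟩
  · obtain ⟨y, rfl⟩ := FlatCxBase.cls_surjective n t
    have hy : L'.d n (n + 1) (show L'.X n from y.1) = 0 := hn ▸ y.2
    obtain ⟨x, hx, z, u, hz, hu⟩ := h.surj n (show L'.X n from y.1) hy
    refine ⟨x, hx, FlatCxBase.cls _ n ⟨(show ((rsCx φ).obj ((rsCx fB).obj L)).X n from z), hn.symm ▸ hz⟩, ?_⟩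
    show _ = (homologyMap (mulR φ fB L' x) n).hom (FlatCxBase.cls _ n y)
    rw [FlatCxBase.homologyMap_cls, FlatCxBase.homologyMap_cls, eq_comm, ← sub_eq_zero, ← map_sub,
      FlatCxBase.cls_eq_zero_iff n hp]
    exact ⟨u, eq_sub_of_add_eq' hu⟩

variable {O O' : Type u} [CommRing O] [CommRing O'] (ρ : R →+* O) (ρ' : R' →+* O') (ψ : O →+* O')
  (hsq2 : ψ.comp ρ = ρ'.comp ψR) (SA : Submonoid R) (SB : Submonoid R')
  (hA : letI := ρ.toAlgebra; IsLocalization SA O) (hB : letI := ρ'.toAlgebra; IsLocalization SB O')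

include hsq hp hsq2 hA hB in
/-- localising the comparison at a prime of `R'` -/
theorem Psi_at_prime {K : DRing.Cx R} {L : DRing.Cx R'} (σ : K ⟶ (rsCx ψR).obj L)
    {Ks Ps : DRing.Cx O} {Ls : DRing.Cx O'} (a : K ⟶ (rsCx ρ).obj Ks) (ha : Loc SA a)
    (b : L ⟶ (rsCx ρ').obj Ls) (hb : Loc SB b) (σs : Ks ⟶ (rsCx ψ).obj Ls)
    (hab : a ≫ (rsCx ρ).map σs ≫ resCommCx ψR ρ ρ' ψ hsq2 Ls = σ ≫ (rsCx ψR).map b)
    (η : Ps ⟶ Ks) [QuasiIso η] (hP : KFlat.IsKFlat (T A) ((rsCx f).obj ((rsCx ρ).obj Ps)))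
    (hq : QuasiIso (tr ψ (η ≫ σs))) (n : ℤ) :
    (∀ m, homologyMap (Psi φ f fB ψR hsq σ) n m = 0 → ∃ x ∈ SB, act φ f fB ψR hp n K x m = 0) ∧
    ∀ t, ∃ x ∈ SB, ∃ m, homologyMap (Psi φ f fB ψR hsq σ) n m = hEnd n (mulR φ fB L x) t := by
  have hTu : ∀ h ∈ SA, IsUnit (ρ h) := fun h hh =>
    letI := ρ.toAlgebra
    haveI : IsLocalization SA O := hA
    IsLocalization.map_units O ⟨h, hh⟩
  -- the two localisations
  let G := KFlat.totR (T A) (PB φ)
  let u : K ⟶ (rsCx ρ).obj ((exCx ρ).obj K) := (trAdj ρ).unit.app K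
  let as' := tr ρ a
  have e1 : u ≫ (rsCx ρ).map as' = a := isIso_tr_id.unit_tr' ρ a
  haveI : QuasiIso as' := (quasiIso_rsCx_iff ρ as').1
    (quasiIso_of_loc (loc_of_isLocalizedModule u fun i => isLocalizedModule_unit ρ SA hA (K.X i)).2
      (act_rsCx ρ SA hTu Ks) (loc_of_isLocalizedModule u fun i => isLocalizedModule_unit ρ SA hA (K.X i)).1
      (e1.symm ▸ ha))
  haveI hflat := isKFlat_flip (isKFlatCx_iff.1 (res_isKFlat (SB0 φ)))
  haveI : QuasiIso ((rsCx ρ).map as') := (quasiIso_rsCx_iff ρ _).2 inferInstance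
  haveI : QuasiIso ((rsCx f).map ((rsCx ρ).map as')) := (quasiIso_rsCx_iff f _).2 inferInstance
  haveI : QuasiIso (G.map ((rsCx f).map ((rsCx ρ).map as'))) := KFlat.quasiIso_totR (T A) hflat _
  haveI : QuasiIso ((rsCx ρ).map η) := (quasiIso_rsCx_iff ρ _).2 inferInstance
  haveI : QuasiIso ((rsCx f).map ((rsCx ρ).map η)) := (quasiIso_rsCx_iff f _).2 inferInstance
  haveI : QuasiIso (G.map ((rsCx f).map ((rsCx ρ).map η))) := KFlat.quasiIso_totR (T A) hflat _
  obtain ⟨ji, js⟩ := homology_TK_localisation φ f SA u (fun i => isLocalizedModule_unit ρ SA hA (K.X i)) n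
  have bas := (ConcreteCategory.isIso_iff_bijective
    (homologyMap (G.map ((rsCx f).map ((rsCx ρ).map as'))) n)).1 inferInstance
  have bη := (ConcreteCategory.isIso_iff_bijective
    (homologyMap (G.map ((rsCx f).map ((rsCx ρ).map η))) n)).1 inferInstance
  have hja : ∀ m, homologyMap (G.map ((rsCx f).map a)) n m = homologyMap (G.map ((rsCx f).map ((rsCx ρ).map as'))) n
      (homologyMap (G.map ((rsCx f).map u)) n m) := fun m => by
    rw [← ConcreteCategory.comp_apply, ← homologyMap_comp, ← Functor.map_comp, ← Functor.map_comp, e1]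
  -- the comparison at the prime
  let N := (rsCx ρ).obj Ps
  let σ0 : N ⟶ (rsCx ψR).obj ((exCx ψR).obj N) := (trAdj ψR).unit.app N
  let σC : (rsCx ρ).obj Ks ⟶ (rsCx ψR).obj ((rsCx ρ').obj Ls) := (rsCx ρ).map σs ≫ resCommCx ψR ρ ρ' ψ hsq2 Ls
  let σN : N ⟶ (rsCx ψR).obj ((rsCx ρ').obj Ls) := (rsCx ρ).map η ≫ σC
  let v := tr ψR σN
  haveI h0 : QuasiIso (Psi φ f fB ψR hsq σ0) := by
    haveI := quasiIso_etaT_of_isKFlat φ hP
    haveI := isIso_pushMap φ f fB ψR hsq hp N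
    show QuasiIso (etaT φ ((rsCx f).obj N) ≫ (rsCx φ).map (pushMap φ f fB ψR hsq N))
    infer_instance
  have b0 := (ConcreteCategory.isIso_iff_bijective (homologyMap (Psi φ f fB ψR hsq σ0) n)).1 inferInstance
  have hv : Loc SB v := by
    haveI := isIso_tr_id ρ SA hA Ps
    haveI : QuasiIso ((exCx ψ).map (tr ρ (𝟙 N)) ≫ tr ψ (η ≫ σs)) := by
      haveI := hq; infer_instance
    haveI := (quasiIso_rsCx_iff ρ' ((exCx ψ).map (tr ρ (𝟙 N)) ≫ tr ψ (η ≫ σs))).2 inferInstance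
    have h1 := ((loc_of_isLocalizedModule (sqUnit ψR ρ ρ' ψ hsq2 N)
      (isLocalizedModule_sqUnit ψR ρ ρ' ψ hsq2 SB hB N)).1).comp_quasiIso
        ((rsCx ρ').map ((exCx ψ).map (tr ρ (𝟙 N)) ≫ tr ψ (η ≫ σs)))
    have e3 : sqUnit ψR ρ ρ' ψ hsq2 N ≫ (rsCx ρ').map ((exCx ψ).map (tr ρ (𝟙 N)) ≫ tr ψ (η ≫ σs)) = v := by
      refine ext_one ψR fun i z => ?_
      refine Eq.trans ?_ (tr_one ψR σN i z).symm
      show (tr ψ (η ≫ σs)).f i (((exCx ψ).map (tr ρ (𝟙 N))).f i ((sqUnit ψR ρ ρ' ψ hsq2 N).f i (u1 ψR z))) = _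
      rw [sqUnit_one ψR ρ ρ' ψ hsq2 N i z]
      refine (congrArg ((tr ψ (η ≫ σs)).f i)
        (show ((exCx ψ).map (tr ρ (𝟙 N))).f i (u1 ψ (u1 ρ z)) = u1 ψ (show Ps.X i from z) from
          congrArg (u1 ψ) (tr_one ρ (𝟙 N) i z))).trans ?_
      exact (tr_one ψ (η ≫ σs) i (show Ps.X i from z)).trans rfl
    rwa [e3] at h1
  obtain ⟨vi, vs⟩ := loc_homology φ fB SB hv n
  obtain ⟨gi, gs⟩ := loc_homology φ fB SB hb n
  -- compatibilities
  let gb := (rsCx φ).map ((rsCx fB).map b)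
  have c1 : ∀ m, homologyMap gb n (homologyMap (Psi φ f fB ψR hsq σ) n m) =
      homologyMap (Psi φ f fB ψR hsq σC) n (homologyMap (G.map ((rsCx f).map a)) n m) := fun m => by
    rw [← ConcreteCategory.comp_apply, ← ConcreteCategory.comp_apply, ← homologyMap_comp, ← homologyMap_comp,
      ← Psi_natural φ f fB ψR hsq σ σC a b hab]
  have c2 : ∀ y, homologyMap (Psi φ f fB ψR hsq σC) n (homologyMap (G.map ((rsCx f).map ((rsCx ρ).map η))) n y) =
      homologyMap ((rsCx φ).map ((rsCx fB).map v)) n (homologyMap (Psi φ f fB ψR hsq σ0) n y) := fun y => by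
    have e4 : (𝟙 N) ≫ σN = σ0 ≫ (rsCx ψR).map v := (Category.id_comp _).trans (isIso_tr_id.unit_tr' ψR σN).symm
    have e5 := Psi_natural φ f fB ψR hsq σN σC ((rsCx ρ).map η) (𝟙 _)
      (by rw [CategoryTheory.Functor.map_id]; exact (Category.comp_id _).symm)
    have e6 := Psi_natural φ f fB ψR hsq σ0 σN (𝟙 N) v e4
    rw [CategoryTheory.Functor.map_id, CategoryTheory.Functor.map_id, Category.id_comp] at e6
    rw [CategoryTheory.Functor.map_id, CategoryTheory.Functor.map_id, Category.comp_id, e6] at e5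
    rw [← ConcreteCategory.comp_apply, ← ConcreteCategory.comp_apply, ← homologyMap_comp, ← homologyMap_comp, e5]
  have hmem : ∀ s ∈ SA, ∀ x : R', x ∈ SB → ∃ c ∈ SB, ∃ r, r * (ψR s * x) = c := by
    intro s hs x hx
    letI := ρ'.toAlgebra
    haveI : IsLocalization SB O' := hB
    have hu : IsUnit (algebraMap R' O' (ψR s * x)) := by
      rw [map_mul]
      refine IsUnit.mul ?_ (IsLocalization.map_units O' ⟨x, hx⟩)
      show IsUnit ((ρ'.comp ψR) s)
      rw [← hsq2]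
      exact (hTu s hs).map ψ
    obtain ⟨c, hc, r, hr⟩ := (IsLocalization.algebraMap_isUnit_iff SB).1 hu
    exact ⟨c, hc, r, (mul_comm _ _).trans hr.symm⟩
  refine ⟨fun m hm => ?_, fun t => ?_⟩
  · obtain ⟨y, hy⟩ := bη.2 (homologyMap (G.map ((rsCx f).map a)) n m)
    have h2 : homologyMap ((rsCx φ).map ((rsCx fB).map v)) n (homologyMap (Psi φ f fB ψR hsq σ0) n y) = 0 := by
      rw [← c2, hy, ← c1, hm, map_zero]
    obtain ⟨x, hx, h3⟩ := vi _ h2
    rw [Psi_act φ f fB ψR hsq hp σ0 n x y] at h3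
    have h4 : act φ f fB ψR hp n N x y = 0 := b0.1 (h3.trans (map_zero _).symm)
    have h5 : homologyMap (G.map ((rsCx f).map u)) n (act φ f fB ψR hp n K x m) = 0 := by
      refine bas.1 (Eq.trans ?_ (map_zero _).symm)
      rw [← hja, ← act_natural φ f fB ψR hp a n x m, ← hy, act_natural φ f fB ψR hp ((rsCx ρ).map η) n x y, h4,
        map_zero]
    obtain ⟨s, hs, h6⟩ := ji _ h5
    obtain ⟨c, hc, r, hr⟩ := hmem s hs x hx
    refine ⟨c, hc, ?_⟩
    rw [← hr, map_mul, map_mul, Module.End.mul_apply, Module.End.mul_apply, act_ψR, h6, map_zero]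
  · obtain ⟨x, hx, w, hw⟩ := vs (homologyMap gb n t)
    obtain ⟨y, rfl⟩ := b0.2 w
    rw [← c2] at hw
    obtain ⟨z, hz⟩ := bas.2 (homologyMap (G.map ((rsCx f).map ((rsCx ρ).map η))) n y)
    obtain ⟨s, hs, m, hm⟩ := js z
    have h7 : homologyMap gb n (homologyMap (Psi φ f fB ψR hsq σ) n m) =
        homologyMap gb n (hEnd n (mulR φ fB L (ψR s * x)) t) := by
      rw [c1, hja, hm, ← act_ψR φ f fB ψR hp, ← act_natural φ f fB ψR hp ((rsCx ρ).map as') n (ψR s) z, hz,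
        ← Psi_act φ f fB ψR hsq hp σC n (ψR s), hw, mulR_mul, Module.End.mul_apply, mulR_natural, mulR_natural]
    obtain ⟨x', hx', h8⟩ := gi _ (show homologyMap gb n (homologyMap (Psi φ f fB ψR hsq σ) n m -
      hEnd n (mulR φ fB L (ψR s * x)) t) = 0 by rw [map_sub, h7, sub_self])
    rw [map_sub, sub_eq_zero, Psi_act φ f fB ψR hsq hp σ n x' m, ← Module.End.mul_apply, ← mulR_mul] at h8
    obtain ⟨c, hc, r, hr⟩ := hmem s hs (x' * x) (mul_mem hx' hx)
    refine ⟨c, hc, act φ f fB ψR hp n K r (act φ f fB ψR hp n K x' m), ?_⟩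
    rw [← Psi_act φ f fB ψR hsq hp σ n r, h8, ← Module.End.mul_apply, ← mulR_mul, ← hr]
    congr 4
    ring

end Rings

end Groth.DerivedCoh.BaseChange
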