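import Groth.Agent.DerivedCoh.BaseChange.Alg
import Groth.Agent.DerivedCoh.KFlat.RpushComp
import Groth.Agent.CohBase.FlatBC.SecZero
import Mathlib.Algebra.Homology.HomotopyCategory.MappingCocone

/-!
Complexes of sections and stalks, comparison maps of a commutative square, flasque complexes.
-/

universe u

open CategoryTheory CategoryTheory.Limits AlgebraicGeometry HomologicalComplex TopologicalSpace
open scoped ChangeOfRings

namespace Groth.DerivedCoh.BaseChange

open Groth.DerivedCoh.KFlat (stk WeakKInj pushCx pullCx kres pullStkIso)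
open Groth.CohBase.FlatBC (secMod secModMap secModRes)
open Groth.QCohMod (res resFun germ germ_res germ_smul res_smul exists_germ pullGerm pullGerm_germ)
open Groth.PicAux (pullSec)

attribute [local instance] HasDerivedCategory.standard

local notation "up" => ComplexShape.up ℤ

variable {X Y : Scheme.{u}} (f : X ⟶ Y) {V : Y.Opens}

/-- sections as modules over functions on an open of the base -/
noncomputable def secF {U : X.Opens} (eU : U ≤ f ⁻¹ᵁ V) : X.Modules ⥤ ModuleCat.{u} Γ(Y, V) where
  obj M := secMod f M eU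
  map φ := (ModuleCat.restrictScalars (f.appLE V U eU).hom).map (ModuleCat.ofHom (Groth.QCohMod.appₗ φ U))
  map_id _ := rfl
  map_comp _ _ := rfl

instance {U : X.Opens} (eU : U ≤ f ⁻¹ᵁ V) : (secF f eU).Additive where
  map_add := rfl

/-- complexes of sections -/
noncomputable abbrev secCx {U : X.Opens} (eU : U ≤ f ⁻¹ᵁ V) :
    CochainComplex X.Modules ℤ ⥤ DRing.Cx Γ(Y, V) :=
  (secF f eU).mapHomologicalComplex up

/-- restriction -/
noncomputable def resNat {U U₂ : X.Opens} (eU : U ≤ f ⁻¹ᵁ V) (eU₂ : U₂ ≤ f ⁻¹ᵁ V) (h : U₂ ≤ U) :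
    secF f eU ⟶ secF f eU₂ where
  app M := ModuleCat.ofHom (X := secMod f M eU) (Y := secMod f M eU₂) (secModRes f M eU eU₂ h)
  naturality _ _ φ := ModuleCat.hom_ext (Groth.CohBase.FlatBC.secModRes_map f φ eU eU₂ h).symm

/-- restriction of complexes -/
noncomputable def secRes {U U₂ : X.Opens} (eU : U ≤ f ⁻¹ᵁ V) (eU₂ : U₂ ≤ f ⁻¹ᵁ V) (h : U₂ ≤ U) :
    secCx f eU ⟶ secCx f eU₂ :=
  NatTrans.mapHomologicalComplex (resNat f eU eU₂ h) up

lemma secRes_apply {U U₂ : X.Opens} (eU : U ≤ f ⁻¹ᵁ V) (eU₂ : U₂ ≤ f ⁻¹ᵁ V) (h : U₂ ≤ U)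
    (C : CochainComplex X.Modules ℤ) (n : ℤ) (s : ((secCx f eU).obj C).X n) :
    (show Γ(C.X n, U₂) from ((secRes f eU eU₂ h).app C).f n s) = res (C.X n) h (show Γ(C.X n, U) from s) :=
  rfl

/-- functions on an open of the base to the functions near a point -/
noncomputable def stalkHom {U : X.Opens} (eU : U ≤ f ⁻¹ᵁ V) {x : X} (hx : x ∈ U) :
    Γ(Y, V) →+* X.presheaf.stalk x :=
  (X.presheaf.germ U x hx).hom.comp (f.appLE V U eU).hom

/-- germs -/
noncomputable def germNat {U : X.Opens} (eU : U ≤ f ⁻¹ᵁ V) {x : X} (hx : x ∈ U) :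
    secF f eU ⟶ stk x ⋙ ModuleCat.restrictScalars (stalkHom f eU hx) where
  app M := ModuleCat.ofHom (X := secMod f M eU)
    (Y := (ModuleCat.restrictScalars (stalkHom f eU hx)).obj ((stk x).obj M))
    { toFun := fun m : secMod f M eU =>
        (show (ModuleCat.restrictScalars (stalkHom f eU hx)).obj ((stk x).obj M) from
          germ M x hx (show Γ(M, U) from m))
      map_add' := map_add (germ M x hx)
      map_smul' := fun r m => germ_smul M x hx (f.appLE V U eU r) (show Γ(M, U) from m) }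
  naturality M _ φ := ModuleCat.hom_ext (LinearMap.ext fun m =>
    (DerSch.stalkFunctor_map_germ x φ U hx (show Γ(M, U) from m)).symm)

/-- the stalks of a complex -/
noncomputable abbrev stkCx (x : X) : CochainComplex X.Modules ℤ ⥤ DRing.Cx (X.presheaf.stalk x) :=
  (stk x).mapHomologicalComplex up

/-- germs of complexes -/
noncomputable def germCx {U : X.Opens} (eU : U ≤ f ⁻¹ᵁ V) {x : X} (hx : x ∈ U)
    (C : CochainComplex X.Modules ℤ) :
    (secCx f eU).obj C ⟶ (rsCx (stalkHom f eU hx)).obj ((stkCx x).obj C) :=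
  ((NatTrans.mapHomologicalComplex (germNat f eU hx) up).app C :)

lemma germCx_apply {U : X.Opens} (eU : U ≤ f ⁻¹ᵁ V) {x : X} (hx : x ∈ U)
    (C : CochainComplex X.Modules ℤ) (n : ℤ) (s : ((secCx f eU).obj C).X n) :
    (show (C.X n).presheaf.stalk x from (germCx f eU hx C).f n s) = germ (C.X n) x hx (show Γ(C.X n, U) from s) :=
  rfl

/-! ### Squares -/

section Square

variable {X' Y' : Scheme.{u}} {g : Y' ⟶ Y} {g' : X' ⟶ X} {f' : X' ⟶ Y'} {f}
  (w : g' ≫ f = f' ≫ g) {V' : Y'.Opens} (e : V' ≤ g ⁻¹ᵁ V) {U : X.Opens} (eU : U ≤ f ⁻¹ᵁ V)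
  {U' : X'.Opens} (e₁ : U' ≤ g' ⁻¹ᵁ U) (e₂ : U' ≤ f' ⁻¹ᵁ V')

include w in
lemma appLE_eq (r : Γ(Y, V)) :
    g'.appLE U U' e₁ (f.appLE V U eU r) = f'.appLE V' U' e₂ (g.appLE V V' e r) :=
  Groth.CohBase.FlatBC.SecZero.appLE_eq w e eU e₁ e₂ r

/-- `Γ(U, g'_* N) ⟶ Γ(U', N)` -/
noncomputable def presNat :
    Scheme.Modules.pushforward g' ⋙ secF f eU ⟶
      secF f' e₂ ⋙ ModuleCat.restrictScalars (g.appLE V V' e).hom where
  app N := ModuleCat.ofHom (X := secMod f ((Scheme.Modules.pushforward g').obj N) eU)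
    (Y := (ModuleCat.restrictScalars (g.appLE V V' e).hom).obj (secMod f' N e₂))
    { toFun := fun m : secMod f ((Scheme.Modules.pushforward g').obj N) eU =>
        (show (ModuleCat.restrictScalars (g.appLE V V' e).hom).obj (secMod f' N e₂) from
          res N e₁ (show Γ(N, g' ⁻¹ᵁ U) from m))
      map_add' := map_add (res N e₁)
      map_smul' := fun r m => by
        show res N e₁ (g'.app U (f.appLE V U eU r) • (show Γ(N, g' ⁻¹ᵁ U) from m)) =
          f'.appLE V' U' e₂ (g.appLE V V' e r) • res N e₁ (show Γ(N, g' ⁻¹ᵁ U) from m)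
        rw [res_smul, ← appLE_eq w e eU e₁ e₂ r]
        rfl }
  naturality N N' φ := ModuleCat.hom_ext (LinearMap.ext fun m =>
    Groth.QCohMod.res_app φ e₁ (show Γ(N, g' ⁻¹ᵁ U) from m))

/-- the comparison of sections -/
noncomputable def sigma {C : CochainComplex X.Modules ℤ} {D : CochainComplex X'.Modules ℤ}
    (lam : C ⟶ (pushCx g').obj D) :
    (secCx f eU).obj C ⟶ (rsCx (g.appLE V V' e).hom).obj ((secCx f' e₂).obj D) :=
  (secCx f eU).map lam ≫ ((NatTrans.mapHomologicalComplex (presNat w e eU e₁ e₂) up).app D :)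

lemma sigma_apply {C : CochainComplex X.Modules ℤ} {D : CochainComplex X'.Modules ℤ}
    (lam : C ⟶ (pushCx g').obj D) (n : ℤ) (s : ((secCx f eU).obj C).X n) :
    (show Γ(D.X n, U') from (sigma w e eU e₁ e₂ lam).f n s) =
      res (D.X n) e₁ (show Γ(D.X n, g' ⁻¹ᵁ U) from (lam.f n).app U (show Γ(C.X n, U) from s)) := rfl

end Square

section StkTr

variable {X' : Scheme.{u}} (g' : X' ⟶ X) (x : X')

/-- stalks of a direct image -/
noncomputable def stkTr :
    Scheme.Modules.pushforward g' ⋙ stk (g' x) ⟶ stk x ⋙ ModuleCat.restrictScalars (g'.stalkMap x).hom where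
  app N := ModuleCat.ofHom (X := (stk (g' x)).obj ((Scheme.Modules.pushforward g').obj N))
    (Y := (ModuleCat.restrictScalars (g'.stalkMap x).hom).obj ((stk x).obj N))
    { toFun := fun t : (stk (g' x)).obj ((Scheme.Modules.pushforward g').obj N) =>
        (show (ModuleCat.restrictScalars (g'.stalkMap x).hom).obj ((stk x).obj N) from
          (stk x).map ((Scheme.Modules.pullbackPushforwardAdjunction g').counit.app N)
            (pullGerm g' ((Scheme.Modules.pushforward g').obj N) x t))
      map_add' := fun t t' => (congrArg _ (map_add (pullGerm g' _ x) t t')).trans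
        (map_add ((stk x).map _).hom _ _)
      map_smul' := fun r t => by
        refine Eq.trans ?_ (map_smul ((stk x).map _).hom (g'.stalkMap x r) _)
        exact congrArg _ (Groth.QCohMod.pullGerm_smul g' _ x r t) }
  naturality N N' φ := by
    refine ModuleCat.hom_ext (LinearMap.ext fun (t : ((Scheme.Modules.pushforward g').obj N).presheaf.stalk (g' x)) => ?_)
    obtain ⟨U, hU, s, rfl⟩ := exists_germ _ _ t
    show (stk x).map _ (pullGerm g' _ x ((stk (g' x)).map ((Scheme.Modules.pushforward g').map φ) _)) =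
      (stk x).map φ ((stk x).map _ (pullGerm g' _ x _))
    erw [DerSch.stalkFunctor_map_germ, pullGerm_germ, pullGerm_germ]
    rw [← Groth.PicAux.pullSec_map]
    erw [DerSch.stalkFunctor_map_germ, DerSch.stalkFunctor_map_germ, DerSch.stalkFunctor_map_germ]
    refine congrArg _ ?_
    exact congr($(congrArg (fun a => Scheme.Modules.Hom.app a (g' ⁻¹ᵁ U))
      ((Scheme.Modules.pullbackPushforwardAdjunction g').counit.naturality φ)) (pullSec g' _ s))

lemma stkTr_germ (N : X'.Modules) {U : X.Opens} (hU : g' x ∈ U) (s : Γ(N, g' ⁻¹ᵁ U)) :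
    (show N.presheaf.stalk x from (stkTr g' x).app N
      (germ ((Scheme.Modules.pushforward g').obj N) (g' x) hU (show Γ((Scheme.Modules.pushforward g').obj N, U) from s))) =
      germ N (U := g' ⁻¹ᵁ U) x hU s := by
  show (stk x).map _ (pullGerm g' _ x _) = _
  erw [pullGerm_germ, DerSch.stalkFunctor_map_germ]
  refine congrArg _ ?_
  exact congr($(congrArg (fun a => Scheme.Modules.Hom.app a U)
    ((Scheme.Modules.pullbackPushforwardAdjunction g').right_triangle_components N)) s)

/-- stalks of complexes of direct images -/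
noncomputable def stkLam {C : CochainComplex X.Modules ℤ} {D : CochainComplex X'.Modules ℤ}
    (lam : C ⟶ (pushCx g').obj D) :
    (stkCx (g' x)).obj C ⟶ (rsCx (g'.stalkMap x).hom).obj ((stkCx x).obj D) :=
  (stkCx (g' x)).map lam ≫ ((NatTrans.mapHomologicalComplex (stkTr g' x) up).app D :)

lemma stkLam_germ {C : CochainComplex X.Modules ℤ} {D : CochainComplex X'.Modules ℤ}
    (lam : C ⟶ (pushCx g').obj D) (n : ℤ) {U : X.Opens} (hU : g' x ∈ U) (s : Γ(C.X n, U)) :
    (show (D.X n).presheaf.stalk x from (stkLam g' x lam).f n (germ (C.X n) (g' x) hU s)) =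
      germ (D.X n) (U := g' ⁻¹ᵁ U) x hU ((lam.f n).app U s) := by
  show (stkTr g' x).app (D.X n) ((stk (g' x)).map (lam.f n) (germ (C.X n) (g' x) hU s)) = _
  erw [DerSch.stalkFunctor_map_germ]
  exact stkTr_germ g' x (D.X n) hU ((lam.f n).app U s)

/-- adjuncts on stalks -/
lemma tr_stkLam (C : CochainComplex X.Modules ℤ) (D : CochainComplex X'.Modules ℤ)
    (lam : C ⟶ (pushCx g').obj D) :
    tr (g'.stalkMap x).hom (stkLam g' x lam) =
      ((NatIso.mapHomologicalComplex (pullStkIso g' x) up).inv.app C :) ≫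
        (stkCx x).map
          (((ExtZero.cxAdj (Scheme.Modules.pullbackPushforwardAdjunction g')).homEquiv C D).symm lam) := by
  refine ext_one _ fun n (m : (C.X n).presheaf.stalk (g' x)) => ?_
  refine (tr_one _ (stkLam g' x lam) n m).trans ?_
  obtain ⟨U, hU, s, rfl⟩ := exists_germ _ _ m
  refine (stkLam_germ g' x lam n hU s).trans (Eq.symm ?_)
  letI := Groth.QCohMod.stalkAlg g' x
  show (stk x).map (((Scheme.Modules.pullbackPushforwardAdjunction g').homEquiv _ _).symm (lam.f n))
    (Groth.QCohMod.pullStalkHom g' (C.X n) x (1 ⊗ₜ germ (C.X n) (g' x) hU s)) = _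
  erw [Groth.QCohMod.pullStalkHom_tmul, one_smul, pullGerm_germ, DerSch.stalkFunctor_map_germ]
  refine congrArg _ ?_
  exact congr($(congrArg (fun a => Scheme.Modules.Hom.app a U)
    ((((Scheme.Modules.pullbackPushforwardAdjunction g').homEquiv_unit (f :=
      ((Scheme.Modules.pullbackPushforwardAdjunction g').homEquiv _ _).symm (lam.f n))).symm.trans
        (Equiv.apply_symm_apply _ _)))) s)

end StkTr

/-! ### Flasque complexes -/

/-- flasque modules -/
def Flq (M : X.Modules) : Prop :=
  ∀ (A B : X.Opens) (h : B ≤ A), Function.Surjective (res M h)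

lemma flq_of_injective (M : X.Modules) [Injective M] : Flq M := fun A B h =>
  haveI : Injective (C := SheafOfModules X.ringCatSheaf) M := inferInstanceAs (Injective M)
  haveI : Mono (homOfLE h) := ⟨fun _ _ _ => Subsingleton.elim _ _⟩
  Groth.SiteCohomology.surjective_map_of_injective_module X.ringCatSheaf M (homOfLE h)

lemma flq_pushforward {X' : Scheme.{u}} (g' : X' ⟶ X) {N : X'.Modules} (h : Flq N) :
    Flq ((Scheme.Modules.pushforward g').obj N) := fun _ _ hAB =>
  h _ _ (g'.preimage_mono hAB)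

/-- complexes which compute their cohomology on every open -/
structure Nice (C : CochainComplex X.Modules ℤ) : Prop where
  weak : WeakKInj C
  flq : ∀ n, Flq (C.X n)

lemma nice_kres (M : CochainComplex X.Modules ℤ) : Nice ((kres X).obj M) :=
  ⟨KFlat.weakKInj_of_isKInjective _, fun n =>
    haveI := (KFlat.kresAug_spec M).2.2.2 n
    flq_of_injective _⟩

lemma Nice.push {X' : Scheme.{u}} (g' : X' ⟶ X) (M : CochainComplex X'.Modules ℤ) :
    Nice ((pushCx g').obj ((kres X').obj M)) :=
  ⟨KFlat.weakKInj_pushCx g' _, fun n => flq_pushforward g' ((nice_kres M).flq n)⟩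

lemma Nice.mappingCone {C C' : CochainComplex X.Modules ℤ} (u : C ⟶ C') (h : Nice C) (h' : Nice C') :
    Nice (CochainComplex.mappingCone u) := by
  refine ⟨h.weak.mappingCone u h'.weak, fun n A B hAB s => ?_⟩
  obtain ⟨a, ha⟩ := h.flq (n + 1) A B hAB (((CochainComplex.mappingCone.fst u).1.v n (n + 1) rfl).app B s)
  obtain ⟨b, hb⟩ := h'.flq n A B hAB (((CochainComplex.mappingCone.snd u).v n n (add_zero n)).app B s)
  refine ⟨((CochainComplex.mappingCone.inl u).v (n + 1) n (by lia)).app A a +
    ((CochainComplex.mappingCone.inr u).f n).app A b, ?_⟩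
  rw [map_add, Groth.QCohMod.res_app, Groth.QCohMod.res_app, ha, hb]
  exact congr($(congrArg (fun a => Scheme.Modules.Hom.app a B)
    (CochainComplex.mappingCone.id_X u n (n + 1) rfl)) s)

lemma Nice.shift {C : CochainComplex X.Modules ℤ} (h : Nice C) (k : ℤ) : Nice (C⟦k⟧) :=
  ⟨h.weak.shift k, fun n => h.flq (n + k)⟩

lemma Nice.mappingCocone {C C' : CochainComplex X.Modules ℤ} (u : C ⟶ C') (h : Nice C) (h' : Nice C') :
    Nice (CochainComplex.mappingCocone u) :=
  (h.mappingCone u h').shift (-1)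

/-- quasi-isomorphisms of nice complexes are quasi-isomorphisms on sections -/
theorem quasiIso_secCx {C C' : CochainComplex X.Modules ℤ} (u : C ⟶ C') [QuasiIso u] (h : Nice C)
    (h' : Nice C') {U : X.Opens} (eU : U ≤ f ⁻¹ᵁ V) : QuasiIso ((secCx f eU).map u) := by
  rw [FlatCxBase.quasiIso_iff_cone_acyclic]
  intro i
  refine ExactAt.of_iso ?_ (CochainComplex.mappingCone.mapHomologicalComplexIso u (secF f eU))
  rw [exactAt_iff_isZero_homology,
    FlatCxBase.isZero_homology_iff ((up).prev_eq' (show (up).Rel (i - 1) i by simp))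
      ((up).next_eq' (show (up).Rel i (i + 1) by simp))]
  intro s hs
  exact (h.weak.mappingCone u h'.weak).exact_sections (KFlat.acyclic_mappingCone_of_quasiIso u) U i
    (show Γ((CochainComplex.mappingCone u).X i, U) from s) hs

end Groth.DerivedCoh.BaseChange
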