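import Groth.Agent.DerivedCoh.BaseChange.SectionsBC

/-!
From base change for sections to the adjunct on complexes: localisation, colimits over basic opens, stalks.
-/

universe u

open CategoryTheory CategoryTheory.Limits AlgebraicGeometry HomologicalComplex TopologicalSpace Opposite
open scoped ChangeOfRings

namespace Groth.DerivedCoh.BaseChange

open Groth.DerivedCoh.KFlat (stk pushCx pullCx pullStkIso)
open Groth.QCohMod (res resFun germ germ_res germ_smul exists_germ exists_res_eq_of_germ_eq)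
open DAlg KFlatMod

attribute [local instance] HasDerivedCategory.standard
set_option linter.style.haveILetI false

local notation "up" => ComplexShape.up ℤ

lemma unit_tr {A B : Type u} [CommRing A] [CommRing B] (φ : A →+* B) {Q : DRing.Cx A} {L : DRing.Cx B}
    (g : Q ⟶ (rsCx φ).obj L) : (trAdj φ).unit.app Q ≫ (rsCx φ).map (tr φ g) = g :=
  ((trAdj φ).homEquiv_unit _ _ _).symm.trans (((trAdj φ).homEquiv Q L).apply_symm_apply g)

lemma quasiIso_tr_of_bijective {A B : Type u} [CommRing A] [CommRing B] (φ : A →+* B)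
    (hφ : Function.Bijective φ) {Q : DRing.Cx A} {L : DRing.Cx B} (g : Q ⟶ (rsCx φ).obj L) [QuasiIso g] :
    QuasiIso (tr φ g) := by
  have hloc : letI := φ.toAlgebra; IsLocalization (⊥ : Submonoid A) B := by
    letI := φ.toAlgebra
    haveI : IsLocalization (⊥ : Submonoid A) A := IsLocalization.self bot_le
    exact IsLocalization.isLocalization_of_algEquiv ⊥ (AlgEquiv.ofBijective (Algebra.ofId A B) hφ)
  obtain ⟨h1, -⟩ := loc_of_isLocalizedModule (S := ⊥) ((trAdj φ).unit.app Q)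
    (fun n => isLocalizedModule_unit φ ⊥ hloc (Q.X n))
  haveI : QuasiIso ((trAdj φ).unit.app Q) := loc_bot_iff.1 h1
  haveI : QuasiIso ((trAdj φ).unit.app Q ≫ (rsCx φ).map (tr φ g)) :=
    (unit_tr φ g).symm ▸ inferInstance
  exact (quasiIso_rsCx_iff φ _).1 (quasiIso_of_comp_left ((trAdj φ).unit.app Q) _)

/-- the identity, to the restriction along the identity -/
noncomputable def toRsId {A : Type u} [CommRing A] (W : DRing.Cx A) : W ≅ (rsCx (RingHom.id A)).obj W :=
  HomologicalComplex.Hom.isoOfComponents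
    (fun n => (({ AddEquiv.refl (W.X n) with map_smul' := fun _ _ => rfl } :
      W.X n ≃ₗ[A] (ModuleCat.restrictScalars (RingHom.id A)).obj (W.X n))).toModuleIso)
    fun _ _ _ => rfl

lemma toRsId_apply {A : Type u} [CommRing A] (W : DRing.Cx A) (n : ℤ) (x : W.X n) :
    (show W.X n from (toRsId W).hom.f n x) = x := rfl

section Base

variable {X S : Scheme.{u}} (f : X ⟶ S) {V V₂ : S.Opens} (hle : V₂ ≤ V)

/-- sections of a direct image over an open of the base -/
noncomputable def baseEquiv (M : X.Modules) :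
    (secF (𝟙 S) (U := V₂) (V := V) hle).obj ((Scheme.Modules.pushforward f).obj M) ≃+
      (secF f (U := f ⁻¹ᵁ V₂) (V := V₂) le_rfl ⋙ ModuleCat.restrictScalars (resFun S hle)).obj M :=
  AddEquiv.refl _

lemma baseEquiv_smul (M : X.Modules) (r : Γ(S, V))
    (m : (secF (𝟙 S) (U := V₂) (V := V) hle).obj ((Scheme.Modules.pushforward f).obj M)) :
    baseEquiv f hle M (r • m) = r • baseEquiv f hle M m := by
  show f.app V₂ ((𝟙 S : S ⟶ S).appLE V V₂ hle r) • (show Γ(M, f ⁻¹ᵁ V₂) from m) =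
    f.appLE V₂ (f ⁻¹ᵁ V₂) le_rfl (resFun S hle r) • (show Γ(M, f ⁻¹ᵁ V₂) from m)
  rw [Scheme.Hom.app_eq_appLE]
  rfl

/-- complexes of sections of a direct image over an open of the base -/
noncomputable def baseCx (C : CochainComplex X.Modules ℤ) :
    (secCx (𝟙 S) (U := V₂) (V := V) hle).obj ((pushCx f).obj C) ≅
      (rsCx (resFun S hle)).obj ((secCx f (U := f ⁻¹ᵁ V₂) (V := V₂) le_rfl).obj C) :=
  HomologicalComplex.Hom.isoOfComponents
    (fun n => ((baseEquiv f hle (C.X n)).toLinearEquiv (baseEquiv_smul f hle (C.X n))).toModuleIso)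
    fun _ _ _ => rfl

variable (V) in
/-- the same, on the open itself -/
noncomputable def baseCx₀ (C : CochainComplex X.Modules ℤ) :
    (secCx (𝟙 S) (idle V)).obj ((pushCx f).obj C) ≅ (secCx f (U := f ⁻¹ᵁ V) (V := V) le_rfl).obj C :=
  HomologicalComplex.Hom.isoOfComponents
    (fun n => ({ baseEquiv f le_rfl (C.X n) with
        map_smul' := fun r m => by
          show f.app V ((𝟙 S : S ⟶ S).appLE V V (idle V) r) • (show Γ(C.X n, f ⁻¹ᵁ V) from m) =
            f.appLE V (f ⁻¹ᵁ V) le_rfl r • (show Γ(C.X n, f ⁻¹ᵁ V) from m)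
          rw [Scheme.Hom.app_eq_appLE, id_appLE_apply] } :
      (secF (𝟙 S) (idle V)).obj ((Scheme.Modules.pushforward f).obj (C.X n)) ≃ₗ[Γ(S, V)]
        (secF f (U := f ⁻¹ᵁ V) (V := V) le_rfl).obj (C.X n)).toModuleIso)
    fun _ _ _ => rfl

end Base

/-- germs are localisations if restrictions to basic opens are -/
theorem loc_germ_of_basicOpen {S : Scheme.{u}} {G : CochainComplex S.Modules ℤ} {V : S.Opens}
    (hV : IsAffineOpen V) {s : S} (hs : s ∈ V) {K : DRing.Cx Γ(S, V)}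
    (φ : K ⟶ (secCx (𝟙 S) (idle V)).obj G)
    (h : ∀ r : Γ(S, V), s ∈ S.basicOpen r → Loc (Submonoid.powers r)
      (φ ≫ (secRes (𝟙 S) (idle V) (U₂ := S.basicOpen r) (S.basicOpen_le r) (S.basicOpen_le r)).app G)) :
    Loc (near (𝟙 S) (idle V) hs) (φ ≫ germCx (𝟙 S) (idle V) hs G) := by
  have hpow : ∀ (r : Γ(S, V)), s ∈ S.basicOpen r → ∀ a ∈ Submonoid.powers r, a ∈ near (𝟙 S) (idle V) hs := by
    intro r hr a ha
    exact Submonoid.powers_le.2 ((mem_near hs r).2 hr) ha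
  refine ⟨fun n z hz (w : (G.X (n - 1)).presheaf.stalk s) hw => ?_,
    fun n (t : (G.X n).presheaf.stalk s) ht => ?_⟩
  · obtain ⟨W, hW, w, rfl⟩ := exists_germ _ _ w
    obtain ⟨W₂, hW₂, h₁, h₂, he⟩ := exists_res_eq_of_germ_eq s hW hs ((G.d (n - 1) n).app W w)
      (show Γ(G.X n, V) from φ.f n z)
      ((DerSch.stalkFunctor_map_germ s (G.d (n - 1) n) W hW w).symm.trans hw)
    obtain ⟨r, hr₁, hr₂⟩ := hV.exists_basicOpen_le ⟨s, hW₂⟩ hs
    obtain ⟨a, ha, v, hv⟩ := (h r hr₂).inj n z hz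
      (show Γ(G.X (n - 1), S.basicOpen r) from res _ (hr₁.trans h₁) w) (by
        show (G.d (n - 1) n).app (S.basicOpen r) (res _ (hr₁.trans h₁) w) =
          res _ (S.basicOpen_le r) (show Γ(G.X n, V) from φ.f n z)
        rw [← Groth.QCohMod.res_app, ← Groth.QCohMod.res_res _ h₁ hr₁, he, Groth.QCohMod.res_res])
    exact ⟨a, hpow r hr₂ a ha, v, hv⟩
  · obtain ⟨W, hW, t, rfl⟩ := exists_germ _ _ t
    obtain ⟨W₂, hW₂, h₁, h₂, he⟩ := exists_res_eq_of_germ_eq s hW hW ((G.d n (n + 1)).app W t) 0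
      (((DerSch.stalkFunctor_map_germ s (G.d n (n + 1)) W hW t).symm.trans ht).trans (map_zero _).symm)
    obtain ⟨r, hr₁, hr₂⟩ := hV.exists_basicOpen_le ⟨s, hW₂⟩ hs
    obtain ⟨a, ha, z, v, hz, hv⟩ := (h r hr₂).surj n
      (show Γ(G.X n, S.basicOpen r) from res _ (hr₁.trans h₁) t) (by
        show (G.d n (n + 1)).app (S.basicOpen r) (res _ (hr₁.trans h₁) t) = 0
        rw [← Groth.QCohMod.res_app, ← Groth.QCohMod.res_res _ h₁ hr₁, he, map_zero, map_zero])
    refine ⟨a, hpow r hr₂ a ha, z, germ (G.X (n - 1)) s hr₂ (show Γ(G.X (n - 1), S.basicOpen r) from v), hz, ?_⟩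
    have hv' := congrArg (germ (G.X n) s hr₂) (show (show Γ(G.X n, S.basicOpen r) from
        res _ (S.basicOpen_le r) (show Γ(G.X n, V) from φ.f n z)) + (G.d (n - 1) n).app (S.basicOpen r) v =
      (𝟙 S : S ⟶ S).appLE V (S.basicOpen r) (S.basicOpen_le r) a • res _ (hr₁.trans h₁) t from hv)
    rw [map_add, germ_res, germ_smul, germ_res] at hv'
    refine Eq.trans ?_ (hv'.trans ?_)
    · exact congrArg (_ + ·) (DerSch.stalkFunctor_map_germ s (G.d (n - 1) n) (S.basicOpen r) hr₂ v)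
    · refine congrArg (· • germ (G.X n) s hW t) ?_
      show S.presheaf.germ (S.basicOpen r) s hr₂ (resFun S (S.basicOpen_le r) a) =
        S.presheaf.germ V s hs ((𝟙 S : S ⟶ S).appLE V V (idle V) a)
      rw [id_appLE_apply]
      exact TopCat.Presheaf.germ_res_apply S.presheaf _ _ _ _

section Main

variable {X S X' S' : Scheme.{u}} {f : X ⟶ S} {g : S' ⟶ S} {g' : X' ⟶ X} {f' : X' ⟶ S'}

lemma torInd_id (f : X ⟶ S) : TorInd f (𝟙 S) := fun _ hV _ hV' e _ _ eU =>
  ti_of_flat _ _ (Flat.flat_appLE (𝟙 S) hV hV' e)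

/-- the identity, as a map to a direct image -/
noncomputable def lamId (C : CochainComplex X.Modules ℤ) : C ⟶ (pushCx (𝟙 X)).obj C where
  f n := (Scheme.Modules.pushforwardId X).inv.app (C.X n)
  comm' i j _ := ((Scheme.Modules.pushforwardId X).inv.naturality (C.d i j)).symm

lemma bcData_lamId {C : CochainComplex X.Modules ℤ} (hC : Nice C)
    (hq : DCoh.IsQCohD (DerivedCategory.Q.obj C)) : BCData (𝟙 X) (lamId C) := by
  refine ⟨hC, hC, hq, fun x => ?_⟩
  let W := (stkCx x).obj C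
  refine ⟨Semifree.res W, Semifree.aug W, ?_, Semifree.quasiIso_aug W, ?_⟩
  · haveI : CochainComplex.IsKProjective (Semifree.res W) := Semifree.isKProjective_res
    exact isKFlatCx_iff.1 (isKFlatCx_of_isKProjective (Semifree.res W))
  haveI := Semifree.quasiIso_aug W
  have hb : ∀ n, Function.Bijective ((stkLam (𝟙 X) x (lamId C)).f n) := fun n => by
    suffices ∀ t : (C.X n).presheaf.stalk x,
        (show (C.X n).presheaf.stalk x from (stkLam (𝟙 X) x (lamId C)).f n t) = t from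
      ⟨fun a b h => (this a).symm.trans (Eq.trans h (this b)), fun b => ⟨b, this b⟩⟩
    intro t
    obtain ⟨U, hU, t, rfl⟩ := exists_germ _ _ t
    exact stkLam_germ (𝟙 X) x (lamId C) n hU t
  haveI : ∀ n, IsIso ((stkLam (𝟙 X) x (lamId C)).f n) := fun n =>
    (ConcreteCategory.isIso_iff_bijective _).2 (hb n)
  haveI : IsIso (stkLam (𝟙 X) x (lamId C)) := HomologicalComplex.Hom.isIso_of_components _
  haveI : QuasiIso (stkLam (𝟙 X) x (lamId C)) := quasiIso_of_isIso _
  haveI : QuasiIso (Semifree.aug W ≫ stkLam (𝟙 X) x (lamId C)) :=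
    (quasiIso_iff_comp_left (Semifree.aug W) (stkLam (𝟙 X) x (lamId C))).2 this
  refine @quasiIso_tr_of_bijective _ _ _ _ ((𝟙 X : X ⟶ X).stalkMap x).hom ?_ _ _
    (Semifree.aug W ≫ stkLam (𝟙 X) x (lamId C)) this
  rw [Scheme.Hom.stalkMap_id]
  exact Function.bijective_id

variable (f) in
/-- sections over preimages of affine opens localise to preimages of basic opens -/
theorem loc_secRes [QuasiCompact f] [QuasiSeparated f] {C : CochainComplex X.Modules ℤ} (hC : Nice C)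
    (hq : DCoh.IsQCohD (DerivedCategory.Q.obj C)) {V : S.Opens} (hV : IsAffineOpen V) (r : Γ(S, V)) :
    Loc (Submonoid.powers r)
      ((secRes (𝟙 S) (idle V) (U₂ := S.basicOpen r) (S.basicOpen_le r) (S.basicOpen_le r)).app
        ((pushCx f).obj C)) := by
  have e : S.basicOpen r ≤ (𝟙 S : S ⟶ S) ⁻¹ᵁ V := S.basicOpen_le r
  have sq : IsPullback (𝟙 X) f f (𝟙 S) := IsPullback.of_horiz_isIso ⟨by simp⟩
  have hU' : f ⁻¹ᵁ S.basicOpen r ≤ (𝟙 X : X ⟶ X) ⁻¹ᵁ (f ⁻¹ᵁ V) := f.preimage_mono (S.basicOpen_le r)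
  have hbc := bcOn_preimage (by simp) e (lamId C) (bcGen_of_bcData sq (bcData_lamId hC hq) (torInd_id f)) hV (hV.basicOpen r)
    le_rfl (f ⁻¹ᵁ S.basicOpen r) hU' le_rfl (inf_eq_right.2 hU').symm
  let φ := ((𝟙 S : S ⟶ S).appLE V (S.basicOpen r) e).hom
  let σ := sigma (show (𝟙 X) ≫ f = f ≫ 𝟙 S by simp) e (U := f ⁻¹ᵁ V) le_rfl hU'
    (le_refl (f ⁻¹ᵁ S.basicOpen r)) (lamId C)
  let W := (secCx f (U := f ⁻¹ᵁ V) (V := V) le_rfl).obj C
  haveI : (Semifree.res W).IsKProjective := Semifree.isKProjective_res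
  haveI := Semifree.quasiIso_aug W
  haveI h1 := (quasiIso_psi_iff φ σ (Semifree.res W) (Semifree.aug W)).1 hbc
  haveI := (quasiIso_rsCx_iff φ _).2 h1
  have hloc : letI := φ.toAlgebra; IsLocalization (Submonoid.powers r) Γ(S, S.basicOpen r) :=
    hV.isLocalization_basicOpen r
  obtain ⟨hu, -⟩ := loc_of_isLocalizedModule ((trAdj φ).unit.app (Semifree.res W))
    (fun n => isLocalizedModule_unit φ _ hloc _)
  have h2 := hu.comp_quasiIso ((rsCx φ).map (tr φ (Semifree.aug W ≫ σ)))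
  rw [unit_tr] at h2
  have h3 := (Loc.of_quasiIso_comp (Semifree.aug W) h2).comp_quasiIso (baseCx f (S.basicOpen_le r) C).inv
  exact Loc.quasiIso_comp (baseCx₀ f V C).hom h3

variable (g' f') in
/-- base change for the adjunct: sections on basic opens -/
theorem loc_tr_basicOpen (sq : IsPullback g' f' f g) [QuasiCompact f] [QuasiSeparated f]
    {C : CochainComplex X.Modules ℤ} {D : CochainComplex X'.Modules ℤ} {lam : C ⟶ (pushCx g').obj D}
    (hbc : BCGen g' f' sq.w lam) {V : S.Opens} (hV : IsAffineOpen V) {V' : S'.Opens}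
    (hV' : IsAffineOpen V') (e : V' ≤ g ⁻¹ᵁ V) (e' : f' ⁻¹ᵁ V' ≤ g' ⁻¹ᵁ (f ⁻¹ᵁ V)) (r : Γ(S', V'))
    {Q : DRing.Cx Γ(S, V)} [Q.IsKProjective] (q : Q ⟶ (secCx f (U := f ⁻¹ᵁ V) (V := V) le_rfl).obj C)
    [QuasiIso q] :
    Loc (Submonoid.powers r)
      ((tr (g.appLE V V' e).hom (q ≫ sigma sq.w e le_rfl e' le_rfl lam) ≫ (baseCx₀ f' V' D).inv) ≫
        (secRes (𝟙 S') (idle V') (U₂ := S'.basicOpen r) (S'.basicOpen_le r) (S'.basicOpen_le r)).app
          ((pushCx f').obj D)) := by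
  let hle := S'.basicOpen_le r
  have e2 : S'.basicOpen r ≤ g ⁻¹ᵁ V := hle.trans e
  have e2' : f' ⁻¹ᵁ S'.basicOpen r ≤ g' ⁻¹ᵁ (f ⁻¹ᵁ V) := (f'.preimage_mono hle).trans e'
  let φ := (g.appLE V V' e).hom
  let φ2 := (g.appLE V (S'.basicOpen r) e2).hom
  let σ2 := sigma sq.w e2 (U := f ⁻¹ᵁ V) le_rfl e2' (le_refl (f' ⁻¹ᵁ S'.basicOpen r)) lam
  haveI h2 := (quasiIso_psi_iff φ2 σ2 Q q).1 (bcOn_preimage sq.w e2 lam hbc hV (hV'.basicOpen r)
    le_rfl (f' ⁻¹ᵁ S'.basicOpen r) e2' le_rfl (inf_eq_right.2 e2').symm)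
  have hsq : φ2.comp (RingHom.id _) = (resFun S' hle).comp φ := RingHom.ext fun a =>
    (congr($(Scheme.Hom.appLE_map g e (homOfLE hle).op) a)).symm
  have hT : letI := (RingHom.id Γ(S, V)).toAlgebra; IsLocalization (⊥ : Submonoid Γ(S, V)) Γ(S, V) :=
    IsLocalization.self bot_le
  let m := (tr φ (q ≫ sigma sq.w e le_rfl e' le_rfl lam) ≫ (baseCx₀ f' V' D).inv) ≫
    (secRes (𝟙 S') (idle V') (U₂ := S'.basicOpen r) hle hle).app ((pushCx f').obj D)
  have h3 : Loc (Submonoid.powers r) (m ≫ (baseCx f' hle D).hom) :=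
    (stalkStep φ (RingHom.id _) (resFun S' hle) φ2 hsq ⊥ (Submonoid.powers r) hT (hV'.isLocalization_basicOpen r)
      q (isKFlatCx_iff.1 (isKFlatCx_of_isKProjective Q)) σ2 (q ≫ (toRsId _).hom)
      (loc_bot_iff.2 inferInstance) (m ≫ (baseCx f' hle D).hom) (fun n x => by
        show res (D.X n) (f'.preimage_mono hle)
          (show Γ(D.X n, f' ⁻¹ᵁ V') from (tr φ (q ≫ sigma sq.w e le_rfl e' le_rfl lam)).f n (u1 φ x)) = _
        erw [tr_one]
        exact Groth.QCohMod.res_res _ _ _ _)).1 h2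
  have h4 := h3.comp_quasiIso (baseCx f' hle D).inv
  rwa [Category.assoc, Iso.hom_inv_id, Category.comp_id] at h4

/-- the two composite direct images agree -/
noncomputable def sqMap (w : g' ≫ f = f' ≫ g) :
    Scheme.Modules.pushforward g' ⋙ Scheme.Modules.pushforward f ≅
      Scheme.Modules.pushforward f' ⋙ Scheme.Modules.pushforward g :=
  Scheme.Modules.pushforwardComp g' f ≪≫ Scheme.Modules.pushforwardCongr w ≪≫
    (Scheme.Modules.pushforwardComp f' g).symm

/-- the two composite direct images of complexes agree -/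
noncomputable def sqMapCx (w : g' ≫ f = f' ≫ g) (D : CochainComplex X'.Modules ℤ) :
    (pushCx f).obj ((pushCx g').obj D) ≅ (pushCx g).obj ((pushCx f').obj D) :=
  HomologicalComplex.Hom.isoOfComponents (fun n => (sqMap w).app (D.X n))
    fun i j _ => ((sqMap w).hom.naturality (D.d i j)).symm

/-- `f_* C ⟶ g_* f'_* D` -/
noncomputable def phiBC (w : g' ≫ f = f' ≫ g) {C : CochainComplex X.Modules ℤ}
    {D : CochainComplex X'.Modules ℤ} (lam : C ⟶ (pushCx g').obj D) :
    (pushCx f).obj C ⟶ (pushCx g).obj ((pushCx f').obj D) :=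
  (pushCx f).map lam ≫ (sqMapCx w D).hom

/-- base change for complexes: the adjunct is a quasi-isomorphism -/
theorem quasiIso_adjunct (sq : IsPullback g' f' f g) [QuasiCompact f] [QuasiSeparated f]
    {C : CochainComplex X.Modules ℤ} {D : CochainComplex X'.Modules ℤ} {lam : C ⟶ (pushCx g').obj D}
    (hbc : BCGen g' f' sq.w lam) {P : CochainComplex S.Modules ℤ}
    (hP : KFlat.IsKFlat (KFlat.T S) P) (q : P ⟶ (pushCx f).obj C) [QuasiIso q] :
    QuasiIso (((ExtZero.cxAdj (Scheme.Modules.pullbackPushforwardAdjunction g)).homEquiv P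
      ((pushCx f').obj D)).symm (q ≫ phiBC sq.w lam)) := by
  refine quasiIso_of_stk _ fun s' => ?_
  obtain ⟨V, hV, hs, -⟩ := exists_isAffineOpen_mem_and_subset (x := g s') (U := ⊤) trivial
  obtain ⟨V', hV', hs', e⟩ := exists_isAffineOpen_mem_and_subset (x := s') (U := g ⁻¹ᵁ V) hs
  have e' : f' ⁻¹ᵁ V' ≤ g' ⁻¹ᵁ (f ⁻¹ᵁ V) := by
    rw [← Scheme.Hom.comp_preimage, sq.w, Scheme.Hom.comp_preimage]
    exact f'.preimage_mono e
  suffices h : QuasiIso (tr (g.stalkMap s').hom ((stkCx (g s')).map q ≫ stkLam g s' (phiBC sq.w lam))) by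
    have e1 : (stkCx (g s')).map q ≫ stkLam g s' (phiBC sq.w lam) = stkLam g s' (q ≫ phiBC sq.w lam) := by
      rw [stkLam, stkLam, Functor.map_comp, Category.assoc]
    rw [e1, tr_stkLam] at h
    exact (quasiIso_iff_comp_left ((NatIso.mapHomologicalComplex (pullStkIso g s') up).inv.app P) _).1 h
  let W := (secCx f (U := f ⁻¹ᵁ V) (V := V) le_rfl).obj C
  haveI : (Semifree.res W).IsKProjective := Semifree.isKProjective_res
  haveI := Semifree.quasiIso_aug W
  let qa := Semifree.aug W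
  let φ := (g.appLE V V' e).hom
  have hsq : (g.stalkMap s').hom.comp (stalkHom (𝟙 S) (idle V) hs) =
      (stalkHom (𝟙 S') (idle V') hs').comp φ := RingHom.ext fun a => by
    show g.stalkMap s' (S.presheaf.germ V (g s') hs ((𝟙 S : S ⟶ S).appLE V V (idle V) a)) =
      S'.presheaf.germ V' s' hs' ((𝟙 S' : S' ⟶ S').appLE V' V' (idle V') (g.appLE V V' e a))
    rw [id_appLE_apply, id_appLE_apply, Scheme.Hom.germ_stalkMap_apply]
    exact (TopCat.Presheaf.germ_res_apply S'.presheaf (homOfLE e) s' hs' (g.app V a)).symm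
  have hPs : KFlat.IsKFlat (T (S.presheaf.stalk (g s'))) ((stkCx (g s')).obj P) :=
    isKFlatCx_iff.1 ((KFlat.isKFlat_iff_stalk P).1 ((KFlat.isKFlat_iff P).2 hP) (g s'))
  have ha : Loc (near (𝟙 S) (idle V) hs)
      ((qa ≫ (baseCx₀ f V C).inv) ≫ germCx (𝟙 S) (idle V) hs ((pushCx f).obj C)) :=
    loc_germ_of_basicOpen hV hs _ fun r _ => (loc_secRes f hbc.niceC hbc.qc hV r).quasiIso_comp _
  have hφK := loc_germ_of_basicOpen hV' hs'
    (tr φ (qa ≫ sigma sq.w e le_rfl e' le_rfl lam) ≫ (baseCx₀ f' V' D).inv)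
    fun r _ => loc_tr_basicOpen g' f' sq hbc hV hV' e e' r qa
  refine (stalkStep φ (stalkHom (𝟙 S) (idle V) hs) (stalkHom (𝟙 S') (idle V') hs') (g.stalkMap s').hom hsq
    (near (𝟙 S) (idle V) hs) (near (𝟙 S') (idle V') hs') (isLocalization_near hV hs)
    (isLocalization_near hV' hs') ((stkCx (g s')).map q) hPs (stkLam g s' (phiBC sq.w lam))
    _ ha _ fun n m => ?_).2 hφK
  show germ ((Scheme.Modules.pushforward f').obj (D.X n)) s' hs'
    (show Γ(D.X n, f' ⁻¹ᵁ V') from (tr φ (qa ≫ sigma sq.w e le_rfl e' le_rfl lam)).f n (u1 φ m)) = _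
  erw [tr_one]
  refine Eq.trans ?_ (stkLam_germ g s' (phiBC sq.w lam) n hs (show Γ(C.X n, f ⁻¹ᵁ V) from qa.f n m)).symm
  refine Eq.trans ?_ (germ_res ((Scheme.Modules.pushforward f').obj (D.X n)) e s' hs'
    (((phiBC sq.w lam).f n).app V (show Γ(C.X n, f ⁻¹ᵁ V) from qa.f n m)))
  refine congrArg _ ?_
  exact (Groth.QCohMod.res_res (D.X n) _ _ _).symm

end Main

end Groth.DerivedCoh.BaseChange
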