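import Groth.Agent.DerivedCoh.BaseChange.Derived
import Groth.Agent.HTopHyper.HTor.Balance
import Groth.Agent.FrobLCI.PerfectTor
import Groth.Prelude.Def_W4c1perfhdescPerf

/-!
Tor independent squares: flat, given by vanishing of `Tor`, perfect schemes.
-/

universe u

open CategoryTheory CategoryTheory.Limits AlgebraicGeometry

namespace Groth.DerivedCoh.BaseChange

attribute [local instance] HasDerivedCategory.standard

variable {X S S' : Scheme.{u}}

lemma torInd_of_flat (f : X ⟶ S) (g : S' ⟶ S) [Flat g] : TorInd f g :=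
  fun _ hV _ hV' e _ _ _ => ti_of_flat _ _ (Flat.flat_appLE g hV hV' e)

lemma torInd_of_tor (f : X ⟶ S) (g : S' ⟶ S)
    (h : ∀ (V : S.Opens), IsAffineOpen V → ∀ (V' : S'.Opens), IsAffineOpen V' → ∀ (e : V' ≤ g ⁻¹ᵁ V)
      (U : X.Opens), IsAffineOpen U → ∀ (eU : U ≤ f ⁻¹ᵁ V) (i : ℕ), 0 < i →
      letI := (g.appLE V V' e).hom.toAlgebra
      letI := (f.appLE V U eU).hom.toAlgebra
      Subsingleton (DRing.Tor Γ(S, V) i Γ(S', V') Γ(X, U))) : TorInd f g :=
  fun V hV V' hV' e U hU eU => by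
    letI := (g.appLE V V' e).hom.toAlgebra
    letI := (f.appLE V U eU).hom.toAlgebra
    refine ti_of_tor (B := Γ(S', V')) (R := Γ(X, U)) fun i hi => ?_
    obtain ⟨s⟩ := Groth.HTorLib.tor_symm (A := Γ(S, V)) i Γ(X, U) Γ(S', V')
    haveI := h V hV V' hV' e U hU eU i hi
    exact s.toEquiv.subsingleton

lemma perf_of_isPerfect {p : ℕ} (hX : PerfSch.IsPerfect p X) (U : X.Opens) :
    FrobLCI.PerfectTor.Perf p Γ(X, U) :=
  ⟨(hX U).1, (hX U).2⟩

lemma torInd_of_isPerfect (p : ℕ) [Fact p.Prime] (hX : PerfSch.IsPerfect p X) (hS : PerfSch.IsPerfect p S)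
    (hS' : PerfSch.IsPerfect p S') (f : X ⟶ S) (g : S' ⟶ S) : TorInd f g :=
  torInd_of_tor f g fun V _ V' _ e U _ eU i hi => by
    letI := (g.appLE V V' e).hom.toAlgebra
    letI := (f.appLE V U eU).hom.toAlgebra
    rcases subsingleton_or_nontrivial Γ(S, V) with hs | hn
    · exact Module.subsingleton Γ(S, V) _
    · haveI : CharP Γ(S, V) p :=
        (CharP.charP_iff_prime_eq_zero (Fact.out : p.Prime)).2 (hS V).1
      exact FrobLCI.PerfectTor.main (perf_of_isPerfect hS V) (perf_of_isPerfect hS' V')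
        (perf_of_isPerfect hX U) i hi

end Groth.DerivedCoh.BaseChange
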